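import Cfsg.Agent.QdFree.Involve
import Cfsg.Agent.Classical.LinearBasic
import Cfsg.Agent.Layer.PConstraint
import Cfsg.Agent.RootSub.Dickson.Common
import Mathlib.FieldTheory.Finite.Basic

/-!
# The group SL₂(p): evenness, a non-abelian 2-subgroup, not `p`-solvable for `p ≥ 5`
-/

namespace Cfsg.Agent.QdFree

open Subgroup Matrix

universe u

variable {p : ℕ} [hp : Fact p.Prime]

local notation "SLp" => Matrix.SpecialLinearGroup (Fin 2) (ZMod p)

theorem two_ne_zero_zmod (h2 : p ≠ 2) : (2 : ZMod p) ≠ 0 := by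
  intro h
  have h' : ((2 : ℕ) : ZMod p) = 0 := by exact_mod_cast h
  exact h2 ((Nat.prime_dvd_prime_iff_eq hp.out Nat.prime_two).mp ((ZMod.natCast_eq_zero_iff 2 p).mp h'))

theorem two_dvd_card_sl2 (h2 : p ≠ 2) : 2 ∣ Nat.card SLp := by
  have hn : (-1 : SLp) ≠ 1 := by
    intro h
    have := congrArg (fun g : SLp => g 0 0) h
    simp at this
    exact two_ne_zero_zmod h2 (by linear_combination -this)
  have h := orderOf_dvd_natCard (-1 : SLp)
  rwa [orderOf_eq_prime (p := 2) (neg_one_sq) hn] at h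

/-- Two non-commuting elements in a 2-subgroup. -/
theorem exists_two_subgroup_noncomm (h2 : p ≠ 2) :
    ∃ (Q : Subgroup SLp) (i j : SLp), IsPGroup 2 Q ∧ i ∈ Q ∧ j ∈ Q ∧ i * j ≠ j * i := by
  obtain ⟨a, b, hab⟩ := ZMod.sq_add_sq p (-1)
  obtain ⟨i, hiv⟩ : ∃ i : SLp, (i : Matrix (Fin 2) (Fin 2) (ZMod p)) = !![0, 1; -1, 0] :=
    ⟨⟨_, by simp [det_fin_two]⟩, rfl⟩
  obtain ⟨j, hjv⟩ : ∃ j : SLp, (j : Matrix (Fin 2) (Fin 2) (ZMod p)) = !![a, b; b, -a] :=
    ⟨⟨_, by simp [det_fin_two]; linear_combination -hab⟩, rfl⟩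
  have h4 : ∀ g : SLp, g * g = -1 → IsPGroup 2 (zpowers g) := by
    intro g hg
    obtain ⟨k, -, hk⟩ := (Nat.dvd_prime_pow Nat.prime_two).mp
      (show orderOf g ∣ 2 ^ 2 from orderOf_dvd_of_pow_eq_one (by
        show g ^ 4 = 1
        rw [show (4 : ℕ) = 2 + 2 from rfl, pow_add, sq, hg, neg_mul_neg, one_mul]))
    exact IsPGroup.of_card (n := k) (by rw [Nat.card_zpowers, hk])
  have hi : i * i = -1 := by
    apply RootSub.Dickson.ext_entries <;> simp [hiv, Matrix.SpecialLinearGroup.coe_mul, Matrix.mul_apply, Fin.sum_univ_two]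
  have hj : j * j = -1 := by
    apply RootSub.Dickson.ext_entries <;> simp [hjv, Matrix.SpecialLinearGroup.coe_mul, Matrix.mul_apply, Fin.sum_univ_two]
    all_goals first | linear_combination hab | ring
  have hji : i * j = -(j * i) := by
    apply RootSub.Dickson.ext_entries <;> simp [hiv, hjv, Matrix.SpecialLinearGroup.coe_mul, Matrix.mul_apply, Fin.sum_univ_two]
  have hinv : i * j * i⁻¹ = j⁻¹ := by
    refine eq_inv_of_mul_eq_one_left ?_
    rw [hji, neg_mul, mul_inv_cancel_right, neg_mul, hj, neg_neg]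
  have hnorm : zpowers i ≤ normalizer (zpowers j : Set SLp) := by
    rw [zpowers_le]
    refine mem_normalizer_fintype fun z hz => ?_
    obtain ⟨n, rfl⟩ := hz
    refine ⟨-n, ?_⟩
    show j ^ (-n) = i * j ^ n * i⁻¹
    rw [← conj_zpow, hinv, _root_.inv_zpow, _root_.zpow_neg]
  refine ⟨zpowers i ⊔ zpowers j, i, j, (h4 i hi).to_sup_of_normal_right' (h4 j hj) hnorm,
    mem_sup_left (mem_zpowers i), mem_sup_right (mem_zpowers j), fun h => ?_⟩
  rw [hji] at h
  have hne : (-1 : SLp) ≠ 1 := by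
    intro h'
    have := congrArg (fun g : SLp => g 0 0) h'
    simp at this
    exact two_ne_zero_zmod h2 (by linear_combination -this)
  refine hne (mul_right_cancel (b := j * i) ?_)
  rw [neg_one_mul, h, one_mul]

/-- A group involving SL₂(p) has non-abelian Sylow 2-subgroups. -/
theorem not_comm_sylow_two (h2 : p ≠ 2) {G : Type u} [Group G] [Finite G]
    (h : Cfsg.Involves SLp G) (T : Sylow 2 G) : ¬ IsMulCommutative T := by
  intro hT
  obtain ⟨K, f, hf⟩ := exists_surjective_of_involves h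
  obtain ⟨Q, i, j, hQ, hi, hj, hij⟩ := exists_two_subgroup_noncomm (p := p) h2
  obtain ⟨S⟩ : Nonempty (Sylow 2 K) := inferInstance
  obtain ⟨S', hS'⟩ := hQ.exists_le_sylow
  have : Fact (Nat.Prime 2) := ⟨Nat.prime_two⟩
  obtain ⟨T', hT'⟩ := (S.2.map K.subtype).exists_le_sylow
  let e := T.equiv T'
  have hT'c : ∀ x y : T', x * y = y * x := fun x y =>
    e.symm.injective (by rw [map_mul, map_mul]; exact hT.is_comm.comm _ _)
  let e' := (S.mapSurjective hf).equiv S'
  have hM : ∀ x y : S.mapSurjective hf, x * y = y * x := by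
    rintro ⟨_, u', hu', rfl⟩ ⟨_, v', hv', rfl⟩
    have h : (u' : G) * v' = v' * u' :=
      congrArg Subtype.val (hT'c ⟨u', hT' ⟨u', hu', rfl⟩⟩ ⟨v', hT' ⟨v', hv', rfl⟩⟩)
    have h' : u' * v' = v' * u' := Subtype.ext h
    exact Subtype.ext (by show f u' * f v' = f v' * f u'; rw [← map_mul, ← map_mul, h'])
  have hS'c : ∀ u ∈ (S' : Subgroup SLp), ∀ v ∈ (S' : Subgroup SLp), u * v = v * u := by
    intro u hu v hv
    have : (⟨u, hu⟩ : S') * ⟨v, hv⟩ = ⟨v, hv⟩ * ⟨u, hu⟩ :=
      e'.symm.injective (by rw [map_mul, map_mul]; exact hM _ _)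
    exact congrArg Subtype.val this
  exact hij (hS'c i (hS' hi) j (hS' hj))

theorem isPSolvable_subgroup {G : Type u} [Group G] [Finite G] (h : Cfsg.IsPSolvable p G)
    (K : Subgroup G) : Cfsg.IsPSolvable p K := by
  obtain ⟨n, S, h0, hl, hm, hn, hi⟩ := h
  refine ⟨n, fun i => (S i).subgroupOf K, by simp [h0], by simp [hl],
    fun a b hab => comap_mono (hm hab), fun i => (hn i).subgroupOf K, fun i => ?_⟩
  have hdvd : ((S i.castSucc).subgroupOf K).relIndex ((S i.succ).subgroupOf K) ∣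
      (S i.castSucc).relIndex (S i.succ) := by
    have := hn i.castSucc
    rw [subgroupOf, relIndex_comap, subgroupOf, map_comap_eq, range_subtype]
    exact Layer.relIndex_dvd_relIndex_of_le inf_le_right
  rcases hi i with ⟨m, hm'⟩ | hc
  · left
    obtain ⟨j, -, hj⟩ := (Nat.dvd_prime_pow hp.out).mp (hm' ▸ hdvd)
    exact ⟨j, hj⟩
  · exact Or.inr (hc.coprime_dvd_left hdvd)

theorem le_three_of_isPSolvable_sl2 (h : Cfsg.IsPSolvable p SLp) : p ≤ 3 := by
  by_contra h5
  push Not at h5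
  have hx : ∃ x : ZMod p, x ≠ 0 ∧ x ^ 2 ≠ 1 := by
    refine ⟨2, two_ne_zero_zmod (by omega), fun h => ?_⟩
    have h' : ((3 : ℕ) : ZMod p) = 0 := by push_cast; linear_combination h
    have := Nat.le_of_dvd three_pos ((ZMod.natCast_eq_zero_iff 3 p).mp h')
    omega
  set Y := Matrix.ProjectiveSpecialLinearGroup (Fin 2) (ZMod p)
  have : IsSimpleGroup Y := Classical.isSimpleGroup_psl (Or.inr ⟨by simp, hx⟩)
  have hY : Cfsg.IsPSolvable p Y :=
    Layer.isPSolvable_of_surjective h (QuotientGroup.mk'_surjective _)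
  -- an element of order `p`, and an even order
  set u : Y := QuotientGroup.mk (RootSub.Dickson.upR 1)
  have hu : u ≠ 1 := by
    intro he
    rw [QuotientGroup.eq_one_iff, Matrix.SpecialLinearGroup.mem_center_iff] at he
    obtain ⟨r, -, hr⟩ := he
    have := congrFun (congrFun hr 0) 1
    simp [RootSub.Dickson.coe_upR] at this
  have hnc : ¬ IsMulCommutative Y := fun hc => by
    obtain ⟨y, hy⟩ : ∃ y : Y, u * y ≠ y * u := by
      refine ⟨QuotientGroup.mk (RootSub.Dickson.lowR 1), fun he => ?_⟩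
      rw [← QuotientGroup.mk_mul, ← QuotientGroup.mk_mul, QuotientGroup.eq,
        Matrix.SpecialLinearGroup.mem_center_iff] at he
      obtain ⟨r, -, hr⟩ := he
      have h01 := congrFun (congrFun hr 0) 1
      simp [RootSub.Dickson.coe_upR, RootSub.Dickson.coe_lowR, Matrix.adjugate_fin_two,
        Matrix.mul_apply, Fin.sum_univ_two] at h01
    exact hy (hc.is_comm.comm _ _)
  have hpc : Cfsg.pCore p Y = ⊥ := by
    rcases IsSimpleGroup.eq_bot_or_eq_top_of_normal (Cfsg.pCore p Y) inferInstance with h0 | h0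
    · exact h0
    · exfalso
      have hP : IsPGroup p Y := (h0 ▸ Core.pCore_isPGroup (p := p) (G := Y)).of_equiv Subgroup.topEquiv
      have := hP.isNilpotent
      exact hnc (IsSimpleGroup.comm_iff_isSolvable.mpr inferInstance |> fun hcm => ⟨⟨hcm⟩⟩)
  have hpp : Cfsg.pPrimeCore p Y = ⊥ := by
    rcases IsSimpleGroup.eq_bot_or_eq_top_of_normal (Cfsg.pPrimeCore p Y) inferInstance with h0 | h0
    · exact h0
    · exfalso
      have hc := Core.coprime_card_pPrimeCore (p := p) (G := Y)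
      rw [h0, Subgroup.card_top] at hc
      refine hp.out.coprime_iff_not_dvd.mp hc.symm ?_
      have hup : u ^ p = 1 := by
        rw [← QuotientGroup.mk_pow]
        refine (QuotientGroup.eq_one_iff _).mpr ?_
        have key : ∀ n : ℕ, RootSub.Dickson.upR (1 : ZMod p) ^ n = RootSub.Dickson.upR (n : ZMod p) := by
          intro n
          induction n with
          | zero => simp [RootSub.Dickson.upR_zero]
          | succ n ih => rw [pow_succ, ih, Nat.cast_succ, RootSub.Dickson.upR_add]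
        rw [key, ZMod.natCast_self, RootSub.Dickson.upR_zero]
        exact one_mem _
      exact orderOf_eq_prime hup hu ▸ orderOf_dvd_natCard u
  have hc := Layer.pCoreSelfCentral_of_isPSolvable hY hpp
  rw [Layer.PCoreSelfCentral, hpc] at hc
  have : u ∈ (⊥ : Subgroup Y) := hc (mem_centralizer_iff.mpr fun z hz => by
    rw [show z = 1 from hz, one_mul, mul_one])
  exact hu (mem_bot.mp this)

end Cfsg.Agent.QdFree
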