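import Cfsg.Agent.QdFree.PStable
import Cfsg.Agent.QdFree.SL2Facts

/-!
# Consequences: quadratic action inside a subgroup, groups of odd order
-/

namespace Cfsg.Agent.QdFree

open Subgroup
open scoped commutatorElement Pointwise

universe u

variable {p : ℕ} [hp : Fact p.Prime] {G : Type u} [Group G] [Finite G]

theorem involves_sl2_of_subgroup (h2 : p ≠ 2) {V H : Subgroup G} (hV : IsPGroup p V)
    (hVc : IsMulCommutative V) (hHV : H ≤ normalizer (V : Set G))
    (hf : H ⊓ centralizer (V : Set G) = ⊥) {a : G} (haH : a ∈ H)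
    (hq : ⁅⁅V, zpowers a⁆, zpowers a⁆ = ⊥) (hna : a ∉ (Cfsg.pCore p H).map H.subtype) :
    Cfsg.Involves (Matrix.SpecialLinearGroup (Fin 2) (ZMod p)) H := by
  set X := H ⊔ V with hX
  have hXN : X ≤ normalizer (V : Set G) := sup_le hHV le_normalizer
  set V' := V.subgroupOf X with hV'
  have hV'n : V'.Normal := normal_subgroupOf_of_le_normalizer hXN
  have hV'map : V'.map X.subtype = V := map_subgroupOf_eq_of_le le_sup_right
  set a' : X := ⟨a, mem_sup_left haH⟩
  have hq' : ⁅⁅V', zpowers a'⁆, zpowers a'⁆ = ⊥ := by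
    rw [← map_eq_bot_iff_of_injective _ X.subtype_injective, map_commutator, map_commutator,
      MonoidHom.map_zpowers, hV'map]
    exact hq
  set C := centralizer (V' : Set X)
  let ψ : H →* X ⧸ C := (QuotientGroup.mk' C).comp (inclusion le_sup_left)
  have hψi : Function.Injective ψ := by
    rw [injective_iff_map_eq_one]
    intro h hh
    have hh' : (inclusion (le_sup_left : H ≤ X) h) ∈ C := (QuotientGroup.eq_one_iff _).mp hh
    have hm : (h : G) ∈ H ⊓ centralizer (V : Set G) := ⟨h.2, mem_centralizer_iff.mpr fun v hv =>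
      congrArg Subtype.val (mem_centralizer_iff.mp hh' ⟨v, mem_sup_right hv⟩ hv)⟩
    rw [hf, mem_bot] at hm
    exact Subtype.ext hm
  have hψs : Function.Surjective ψ := by
    intro y
    obtain ⟨⟨x, hx⟩, rfl⟩ := QuotientGroup.mk'_surjective C y
    obtain ⟨h, hh, v, hv, rfl⟩ : x ∈ (H : Set G) * (V : Set G) := by
      rw [← Subgroup.coe_mul_of_left_le_normalizer_right H V hHV]
      exact hx
    refine ⟨⟨h, hh⟩, (QuotientGroup.eq.mpr ?_)⟩
    have : (inclusion (le_sup_left : H ≤ X) ⟨h, hh⟩)⁻¹ * ⟨h * v, hx⟩ =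
        (⟨v, mem_sup_right hv⟩ : X) := Subtype.ext (inv_mul_cancel_left h v)
    rw [this]
    exact mem_centralizer_iff.mpr fun w hw => Subtype.ext
      (congrArg Subtype.val (hVc.is_comm.comm ⟨(w : G), hw⟩ ⟨v, hv⟩) : (w : G) * v = v * w)
  have hS := involves_sl2_of_not_mem (P := V') h2 (hV.comap_subtype (K := X)) hq' (C := C) rfl fun hmem => by
    refine hna ⟨⟨a, haH⟩, ?_, rfl⟩
    have hne : ((Cfsg.pCore p (X ⧸ C)).comap ψ).Normal := Normal.comap inferInstance ψ
    exact Core.le_pCore (Core.pCore_isPGroup.comap_of_injective ψ hψi) (show ψ ⟨a, haH⟩ ∈ _ from hmem)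
  exact involves_of_surjective hS hψs

theorem not_involves_sl2_of_odd (h2 : p ≠ 2) (hodd : Odd (Nat.card G)) :
    ¬ Cfsg.Involves (Matrix.SpecialLinearGroup (Fin 2) (ZMod p)) G := fun h => by
  obtain ⟨K, f, hf⟩ := exists_surjective_of_involves h
  have h1 := (two_dvd_card_sl2 h2).trans ((card_dvd_of_surjective f hf).trans (card_subgroup_dvd_card K))
  exact hodd.not_two_dvd_nat h1

theorem isNormalizerPStable_of_odd (h2 : p ≠ 2) (hodd : Odd (Nat.card G)) :
    Cfsg.IsNormalizerPStable p G :=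
  isNormalizerPStable_of_free h2 fun _ _ _ h =>
    not_involves_sl2_of_odd h2 hodd (involves_of_subgroup h)

/-- In a group of odd order a normal `p`-subgroup is `p`-stable. -/
theorem mk_mem_pCore_of_odd (h2 : p ≠ 2) (hodd : Odd (Nat.card G)) {P : Subgroup G} [P.Normal]
    (hP : IsPGroup p P) {g : G} (hq : ⁅⁅P, zpowers g⁆, zpowers g⁆ = ⊥) :
    (g : G ⧸ centralizer (P : Set G)) ∈ Cfsg.pCore p (G ⧸ centralizer (P : Set G)) := by
  by_contra h
  exact not_involves_sl2_of_odd h2
    (hodd.of_dvd_nat ((centralizer (P : Set G)).card_quotient_dvd_card))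
    (involves_sl2_of_not_mem h2 hP hq rfl h)

/-- An element of an abelian subgroup normalized by `P` acts quadratically on `P`. -/
theorem quadratic_of_normalized {P B : Subgroup G} (hB : IsMulCommutative B)
    (hPB : P ≤ normalizer (B : Set G)) {b : G} (hb : b ∈ B) :
    ⁅⁅P, zpowers b⁆, zpowers b⁆ = ⊥ := by
  refine eq_bot_iff.mpr ((commutator_mono (?_ : ⁅P, zpowers b⁆ ≤ B) (zpowers_le.mpr hb)).trans
    (commutator_eq_bot_iff_le_centralizer.mpr ?_).le)
  · refine (commutator_mono le_rfl (zpowers_le.mpr hb)).trans (commutator_le.mpr fun x hx y hy => ?_)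
    rw [commutatorElement_def]
    exact mul_mem ((mem_normalizer_iff.mp (hPB hx) y).mp hy) (inv_mem hy)
  · exact le_centralizer_iff_isMulCommutative.mpr hB

theorem p_ne_two_of_odd (hodd : Odd (Nat.card G)) (hd : p ∣ Nat.card G) : p ≠ 2 := fun h =>
  hodd.not_two_dvd_nat (h ▸ hd)

end Cfsg.Agent.QdFree
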