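import Cfsg.Agent.QdFree.Linear
import Cfsg.Agent.KInf.AbTop

/-!
# Groups without a section SL₂(p) in their local subgroups are `p`-stable
-/

namespace Cfsg.Agent.QdFree

open Subgroup
open scoped commutatorElement
open Cfsg.Agent.KInf

universe u

variable {p : ℕ} [hp : Fact p.Prime] {X : Type u} [Group X] [Finite X]

open scoped IsMulCommutative in
/-- A quadratic element not trivial on a chief factor in a `p`-group gives a section SL₂(p) in the
quotient by any normal subgroup acting trivially on that factor. -/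
theorem involves_sl2_quot_of_chief (h2 : p ≠ 2) {U V : Subgroup X} (hch : Cfsg.IsChiefFactor U V)
    (hU : IsPGroup p U) {g : X} (hit : Cfsg.iterCommutator U (zpowers g) 2 ≤ V)
    (hnt : ¬ TrivOn g U V) (C : Subgroup X) [C.Normal] (hCt : ∀ c ∈ C, TrivOn c U V) :
    Cfsg.Involves (Matrix.SpecialLinearGroup (Fin 2) (ZMod p)) (X ⧸ C) := by
  obtain ⟨-, -, hVn, -⟩ := id hch
  set π := QuotientGroup.mk' V
  have hπs : Function.Surjective π := QuotientGroup.mk'_surjective V
  have hmin := Control.isMinNormal_image hch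
  have hUn := hmin.normal
  obtain ⟨hcomm, hexp⟩ := Control.image_facts hch hU
  set Ub := U.map π
  set C₀ := (MulAut.conjNormal (H := Ub)).ker with hC₀
  have hC : ∀ y : X ⧸ V, y ∈ C₀ ↔ y ∈ centralizer (Ub : Set (X ⧸ V)) := by
    intro y
    rw [hC₀, MonoidHom.mem_ker, MulEquiv.ext_iff, mem_centralizer_iff]
    simp only [MulAut.one_apply, Subtype.forall, Subtype.ext_iff, MulAut.conjNormal_apply,
      mul_inv_eq_iff_eq_mul, SetLike.mem_coe]
    exact ⟨fun h u hu => (h u hu).symm, fun h u hu => (h u hu).symm⟩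
  have hCe : C₀ = centralizer (Ub : Set (X ⧸ V)) := Subgroup.ext hC
  set σ := QuotientGroup.mk' C₀
  have hσs : Function.Surjective σ := QuotientGroup.mk'_surjective C₀
  have hO : Cfsg.pCore p ((X ⧸ V) ⧸ C₀) = ⊥ := by
    have hDn : ((Cfsg.pCore p ((X ⧸ V) ⧸ C₀)).comap σ).Normal := Normal.comap inferInstance σ
    have hD := le_centralizer_of_pPower (D := (Cfsg.pCore p ((X ⧸ V) ⧸ C₀)).comap σ) (hU.map π) hmin
      (fun d hd => by
        obtain ⟨a, ha⟩ := Core.pCore_isPGroup (p := p) (G := (X ⧸ V) ⧸ C₀) ⟨σ d, hd⟩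
        refine ⟨a, (hC _).mp ((QuotientGroup.eq_one_iff _).mp ?_)⟩
        exact (map_pow σ d _).trans (congrArg Subtype.val ha))
    rw [eq_bot_iff]
    intro z hz
    obtain ⟨d, rfl⟩ := hσs z
    exact mem_bot.mpr ((QuotientGroup.eq_one_iff _).mpr ((hC _).mpr (hD hz)))
  have hx : σ (π g) ≠ 1 := fun h => hnt (by
    rw [trivOn_iff]
    exact (hC _).mp ((QuotientGroup.eq_one_iff _).mp h))
  have hit' : ⁅⁅Ub, zpowers (π g)⁆, zpowers (π g)⁆ = ⊥ := by
    rw [← MonoidHom.map_zpowers, ← map_commutator, ← map_commutator, Subgroup.map_eq_bot_iff,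
      QuotientGroup.ker_mk']
    exact hit
  have hS := involves_sl2_of_action h2 (W := Ub) (fun v => Subtype.ext (by simpa using hexp v v.2))
    (QuotientGroup.kerLift (MulAut.conjNormal (H := Ub))) (QuotientGroup.kerLift_injective _) hO
    (x := σ (π g)) hx (fun v => Subtype.ext (by
      change π g * (π g * v * (π g)⁻¹ * (v : X ⧸ V)⁻¹) * (π g)⁻¹ = π g * v * (π g)⁻¹ * (v : X ⧸ V)⁻¹
      exact conj_commutator_fixed hit' v.2))
  refine involves_of_surjective hS (f := QuotientGroup.lift C (σ.comp π) fun c hc => ?_)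
    (fun y => by
      obtain ⟨x, rfl⟩ := (hσs.comp hπs) y
      exact ⟨QuotientGroup.mk x, rfl⟩)
  exact (QuotientGroup.eq_one_iff _).mpr ((hC _).mpr (trivOn_iff.mp (hCt c hc)))

theorem involves_sl2_of_chief (h2 : p ≠ 2) {U V : Subgroup X} (hch : Cfsg.IsChiefFactor U V)
    (hU : IsPGroup p U) {g : X} (hit : Cfsg.iterCommutator U (zpowers g) 2 ≤ V)
    (hnt : ¬ TrivOn g U V) :
    Cfsg.Involves (Matrix.SpecialLinearGroup (Fin 2) (ZMod p)) X :=
  involves_of_surjective (involves_sl2_quot_of_chief h2 hch hU hit hnt ⊥ fun c hc u _ => by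
    rw [mem_bot.mp hc, commutatorElement_one_left]; exact one_mem _)
    (QuotientGroup.mk'_surjective ⊥)

theorem exists_chief_of_not_mem {P : Subgroup X} [P.Normal] (hP : IsPGroup p P) {g : X}
    {C : Subgroup X} [C.Normal] (hCe : C = centralizer (P : Set X))
    (hg : (g : X ⧸ C) ∉ Cfsg.pCore p (X ⧸ C)) :
    ∃ U V, Cfsg.IsChiefFactor U V ∧ U ≤ P ∧ ¬ TrivOn g U V := by
  subst hCe
  set K := kerOn (G := X) fun U _ => U ≤ P
  set C := centralizer (P : Set X)
  by_contra hcon
  push Not at hcon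
  have hgK : g ∈ K := fun U V hUV hU => hcon U V hUV hU
  refine hg (Core.le_pCore (hN := (inferInstance : K.Normal).map (QuotientGroup.mk' C)
    (QuotientGroup.mk'_surjective C)) ?_ (mem_map_of_mem (QuotientGroup.mk' C) hgK))
  rintro ⟨_, x, hx, rfl⟩
  obtain ⟨a, ha⟩ := exists_pow_coprime (p := p) x
  refine ⟨a, Subtype.ext ?_⟩
  change (QuotientGroup.mk' C x) ^ p ^ a = 1
  rw [← map_pow]
  refine (QuotientGroup.eq_one_iff _).mpr (mem_centralizer_iff.mpr fun z hz => ?_)
  have := centralizes_of_trivOn (Z₀ := (⊥ : Subgroup X)) hP bot_le ha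
    (fun w hw => by rw [mem_bot.mp hw, mul_one, mul_inv_cancel])
    (fun U V hUV _ hU => pow_mem hx (p ^ a) U V hUV hU) z hz
  exact (mul_inv_eq_iff_eq_mul.mp this).symm

/-- A quadratic element on a normal `p`-subgroup outside the preimage of the `p`-core of the
induced automorphism group gives a section SL₂(p) of that group. -/
theorem involves_sl2_of_not_mem (h2 : p ≠ 2) {P : Subgroup X} [P.Normal] (hP : IsPGroup p P)
    {g : X} (hq : ⁅⁅P, zpowers g⁆, zpowers g⁆ = ⊥) {C : Subgroup X} [C.Normal]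
    (hCe : C = centralizer (P : Set X)) (hg : (g : X ⧸ C) ∉ Cfsg.pCore p (X ⧸ C)) :
    Cfsg.Involves (Matrix.SpecialLinearGroup (Fin 2) (ZMod p)) (X ⧸ C) := by
  obtain ⟨U, V, hUV, hU, hnt⟩ := exists_chief_of_not_mem hP hCe hg
  subst hCe
  set C := centralizer (P : Set X)
  refine involves_sl2_quot_of_chief h2 hUV (hP.to_le hU)
    ((iter_mono hU _ 2).trans (hq.le.trans bot_le)) hnt C fun c hc u hu => ?_
  rw [commutatorElement_eq_one_iff_mul_comm.mpr (mem_centralizer_iff.mp hc u (hU hu)).symm]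
  exact one_mem _

/-- No section SL₂(p) in the automorphism groups induced on nontrivial `p`-subgroups implies
`p`-stability. -/
theorem isNormalizerPStable_of_free' (h2 : p ≠ 2)
    (hfree : ∀ P : Subgroup X, IsPGroup p P → P ≠ ⊥ →
      ¬ Cfsg.Involves (Matrix.SpecialLinearGroup (Fin 2) (ZMod p))
        (↥(normalizer (P : Set X)) ⧸ (centralizer (P : Set X)).subgroupOf (normalizer (P : Set X)))) :
    Cfsg.IsNormalizerPStable p X := by
  intro P hP g hg hq
  set N := normalizer (P : Set X) with hNdef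
  set P' := P.subgroupOf N with hP'
  have hP'n : P'.Normal := normal_in_normalizer
  have hP'map : P'.map N.subtype = P := map_subgroupOf_eq_of_le le_normalizer
  have hP'p : IsPGroup p P' := hP.comap_subtype (K := N)
  have hq' : ⁅⁅P', zpowers (⟨g, hg⟩ : N)⁆, zpowers (⟨g, hg⟩ : N)⁆ = ⊥ := by
    rw [← map_eq_bot_iff_of_injective _ N.subtype_injective, map_commutator, map_commutator,
      MonoidHom.map_zpowers, hP'map]
    exact hq
  have hC : centralizer (P' : Set N) = (centralizer (P : Set X)).subgroupOf N := by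
    ext z
    rw [mem_subgroupOf, mem_centralizer_iff, mem_centralizer_iff]
    exact ⟨fun h x hx => congrArg Subtype.val (h ⟨x, le_normalizer hx⟩ hx),
      fun h x hx => Subtype.ext (h x hx)⟩
  rcases eq_or_ne P ⊥ with rfl | hne
  · have hCtop : (centralizer ((⊥ : Subgroup X) : Set X)).subgroupOf N = ⊤ :=
      eq_top_iff.mpr fun z _ => mem_centralizer_iff.mpr fun y hy => by
        rw [show y = 1 from hy, one_mul, mul_one]
    rw [show QuotientGroup.mk (⟨g, hg⟩ : N) = (1 : ↥N ⧸ _) from
      (QuotientGroup.eq_one_iff _).mpr (hCtop ▸ mem_top _)]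
    exact one_mem _
  by_contra hcon
  refine hfree P hP hne ?_
  exact involves_sl2_of_not_mem h2 hP'p hq' hC.symm hcon

/-- No section SL₂(p) in the normalizers of nontrivial `p`-subgroups implies `p`-stability. -/
theorem isNormalizerPStable_of_free (h2 : p ≠ 2)
    (hfree : ∀ P : Subgroup X, IsPGroup p P → P ≠ ⊥ →
      ¬ Cfsg.Involves (Matrix.SpecialLinearGroup (Fin 2) (ZMod p)) (normalizer (P : Set X))) :
    Cfsg.IsNormalizerPStable p X :=
  isNormalizerPStable_of_free' h2 fun P hP hne h =>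
    hfree P hP hne (involves_of_surjective h (QuotientGroup.mk'_surjective _))

/-- A nontrivial `p`-subgroup of a section has its normalizer covered by a `p`-local subgroup. -/
theorem exists_local_cover {Y : Type u} [Group Y] {L : Subgroup X} (f : L →* Y)
    (hf : Function.Surjective f) {P : Subgroup Y} (hP : IsPGroup p P) (hne : P ≠ ⊥) :
    ∃ (P₀ M : Subgroup X) (g : M →* normalizer (P : Set Y)), IsPGroup p P₀ ∧ P₀ ≠ ⊥ ∧
      M ≤ normalizer (P₀ : Set X) ∧ Function.Surjective g ∧
      ∀ m : M, (m : X) ∈ centralizer (P₀ : Set X) → (g m : Y) ∈ centralizer (P : Set Y) := by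
  set C := P.comap f
  obtain ⟨T⟩ : Nonempty (Sylow p C) := inferInstance
  set U : Subgroup L := (T : Subgroup C).map C.subtype
  have hCU : U.map f = P := by
    have h1 : C.map f = P := map_comap_eq_self_of_surjective hf P
    let fC : C →* P := f.subgroupComap P
    have hfC : Function.Surjective fC := fun y => by
      obtain ⟨x, hx⟩ := hf y
      exact ⟨⟨x, show f x ∈ P from hx ▸ y.2⟩, Subtype.ext hx⟩
    have h2 : (T : Subgroup C).map fC = ⊤ := by
      rw [← Sylow.coe_mapSurjective]
      exact (hP.to_subgroup ⊤).to_le (le_top) |> fun h =>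
        ((T.mapSurjective hfC).is_maximal' h le_top).symm
    refine le_antisymm ((map_mono (map_subtype_le _)).trans h1.le) fun y hy => ?_
    obtain ⟨x, hx, hxy⟩ := (h2.ge (mem_top (⟨y, hy⟩ : P)) : (⟨y, hy⟩ : P) ∈ (T : Subgroup C).map fC)
    exact ⟨x, ⟨x, hx, rfl⟩, congrArg Subtype.val hxy⟩
  set N := (normalizer (P : Set Y)).comap f
  set M₀ := normalizer (U : Set L) ⊓ N
  let g₀ : M₀ →* normalizer (P : Set Y) :=
    (f.comp M₀.subtype).codRestrict _ fun x => x.2.2
  have hg₀ : Function.Surjective g₀ := by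
    rintro ⟨y, hy⟩
    obtain ⟨x, rfl⟩ := hf y
    have hCN : C ≤ N := comap_mono le_normalizer
    have hCn' : (C.subgroupOf N).Normal := by
      refine ⟨fun c hc n => ?_⟩
      exact (mem_normalizer_iff.mp (n.2 : (n : L) ∈ N) (f c)).mp hc |> fun h => by
        simpa [mem_subgroupOf, C] using h
    obtain ⟨T', hT'⟩ : ∃ T' : Sylow p (C.subgroupOf N),
        ((T' : Subgroup (C.subgroupOf N)).map (C.subgroupOf N).subtype).map N.subtype = U := by
      let e : C.subgroupOf N ≃* C := subgroupOfEquivOfLe hCN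
      refine ⟨T.comapOfInjective e.toMonoidHom e.injective (fun z _ => e.surjective z), ?_⟩
      rw [map_map]
      show map _ ((T : Subgroup C).comap e.toMonoidHom) = U
      rw [show (N.subtype.comp (C.subgroupOf N).subtype) = C.subtype.comp e.toMonoidHom from rfl,
        ← map_map, map_comap_eq_self_of_surjective e.surjective]
    have htop := T'.normalizer_sup_eq_top
    have hxN : (⟨x, hy⟩ : N) ∈ normalizer (((T' : Subgroup _).map (C.subgroupOf N).subtype :
        Subgroup N) : Set N) ⊔ C.subgroupOf N := htop.ge (mem_top _)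
    obtain ⟨n, hn, c, hc, hnc⟩ := mem_sup_of_normal_right.mp hxN
    have hnU : (n : L) ∈ normalizer (U : Set L) := by
      rw [← hT']
      exact le_normalizer_map N.subtype ⟨n, hn, rfl⟩
    obtain ⟨w, hw, hwc⟩ := (hCU.ge hc : f (c : L) ∈ U.map f)
    refine ⟨⟨(n : L) * w, mul_mem hnU (le_normalizer hw), mul_mem n.2 (hCN ?_)⟩, Subtype.ext ?_⟩
    · exact (show w ∈ C from (map_subtype_le (T : Subgroup C)) hw)
    · change f ((n : L) * w) = f x
      rw [map_mul, hwc, ← map_mul]
      exact congrArg f (congrArg Subtype.val hnc)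
  let e : M₀ ≃* M₀.map L.subtype := M₀.equivMapOfInjective L.subtype L.subtype_injective
  refine ⟨U.map L.subtype, M₀.map L.subtype, g₀.comp e.symm.toMonoidHom, ?_, ?_,
    (map_mono inf_le_left).trans (le_normalizer_map _), hg₀.comp e.symm.surjective, fun m hm => ?_⟩
  · exact (T.2.map C.subtype).map L.subtype
  · intro h
    rw [map_eq_bot_iff_of_injective _ L.subtype_injective] at h
    exact hne (by rw [← hCU, h, Subgroup.map_bot])
  · rw [mem_centralizer_iff]
    intro y hy
    obtain ⟨w, hw, rfl⟩ := (hCU.ge hy : y ∈ U.map f)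
    have hv : ((e.symm m : M₀) : L) * w = w * ((e.symm m : M₀) : L) := by
      refine Subtype.ext ?_
      have hm' : (((e.symm m : M₀) : L) : X) = (m : X) := congrArg Subtype.val (e.apply_symm_apply m)
      show (((e.symm m : M₀) : L) : X) * (w : X) = (w : X) * (((e.symm m : M₀) : L) : X)
      rw [hm']
      exact (mem_centralizer_iff.mp hm (w : X) ⟨w, hw, rfl⟩).symm
    show f w * f ((e.symm m : M₀) : L) = f ((e.symm m : M₀) : L) * f w
    rw [← map_mul, ← map_mul, hv]

end Cfsg.Agent.QdFree
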