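import Cfsg.Agent.Fusion.LocalControl
import Cfsg.Agent.Fusion.Transfer
import Cfsg.Agent.Fusion.Residual

/-!
# `N(zInter e D)` controls strong fusion in a class of `p`-stable groups

`Inherits p 𝒫` : the class `𝒫` passes to subgroups and to quotients by central subgroups of order `p` and
its members are `p`-stable modulo `O_{p'}`.
`controls` : for such a class `N(zInter e D)` controls strong fusion, `D` strongly closed.
-/

set_option autoImplicit false
set_option maxHeartbeats 400000

namespace Cfsg.Agent.QdFree.ZJControl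

open Subgroup
open Cfsg.Agent

universe u

variable {G : Type u} [Group G] [Finite G] {p : ℕ} [hp : Fact p.Prime]

/-- `x` in `N` acts on `A` as `g` does. -/
def Acts (N : Subgroup G) (A : Set G) (g : G) : Prop :=
  ∃ x ∈ N, ∀ a ∈ A, g * a * g⁻¹ = x * a * x⁻¹

theorem Acts.trans {N : Subgroup G} {A B : Set G} {g h : G} (hg : Acts N A g) (hh : Acts N B h)
    (hAB : ∀ a ∈ A, g * a * g⁻¹ ∈ B) : Acts N A (h * g) := by
  obtain ⟨x, hx, hxe⟩ := hg
  obtain ⟨y, hy, hye⟩ := hh
  refine ⟨y * x, mul_mem hy hx, fun a ha => ?_⟩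
  calc h * g * a * (h * g)⁻¹ = h * (g * a * g⁻¹) * h⁻¹ := by group
    _ = y * (g * a * g⁻¹) * y⁻¹ := hye _ (hAB a ha)
    _ = y * x * a * (y * x)⁻¹ := by rw [hxe a ha]; group

/-- A class of groups with what the proof needs. -/
structure Inherits (p : ℕ) (P : ∀ (X : Type u) [Group X], Prop) : Prop where
  sub : ∀ {X : Type u} [Group X] [Finite X], P X → ∀ M : Subgroup X, P M
  stable : ∀ {X : Type u} [Group X] [Finite X], P X → Fusion.PStableNormal p (X ⧸ Cfsg.pPrimeCore p X)
  cquot : ∀ {X Y : Type u} [Group X] [Group Y] [Finite X] (f : X →* Y), Function.Surjective f →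
    Nat.card f.ker = p → (∀ z ∈ f.ker, ∀ g : X, Commute z g) → P X → P Y

omit [Finite G] hp in
theorem mem_normalizer_of_conj {H : Subgroup G} {g : G} (h : ∀ x ∈ H, g * x * g⁻¹ ∈ H)
    [Finite H] : g ∈ normalizer (H : Set G) := by
  rw [mem_normalizer_iff_map_conj_eq]
  exact eq_of_le_of_card_ge (by rintro _ ⟨x, hx, rfl⟩; exact h x hx)
    (card_map_of_injective (MulAut.conj g).injective).ge

omit [Finite G] hp in
/-- `C(Q)` is normalised by `N(Q)`. -/
theorem centralizer_normal (Q : Subgroup G) [hQ : Q.Normal] : (centralizer (Q : Set G)).Normal := by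
  refine ⟨fun c hc g => mem_centralizer_iff.mpr fun q hq => ?_⟩
  have h1 := mem_centralizer_iff.mp hc (g⁻¹ * q * g) (by simpa using hQ.conj_mem q hq g⁻¹)
  calc q * (g * c * g⁻¹) = g * ((g⁻¹ * q * g) * c) * g⁻¹ := by group
    _ = _ := by rw [h1]; group

/-- A `p'`-element centralizes `Q` if `G = S C(Q)`. -/
theorem commute_of_coprime {Q : Subgroup G} [Q.Normal] {S : Subgroup G} (hS : IsPGroup p S)
    (htop : S ⊔ centralizer (Q : Set G) = ⊤) {w : G} (hw : (orderOf w).Coprime p) :
    w ∈ centralizer (Q : Set G) := by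
  have := centralizer_normal Q
  obtain ⟨s, hs, c, hc, rfl⟩ := mem_sup_of_normal_right.mp (htop.ge (mem_top w))
  set C := centralizer (Q : Set G)
  refine (QuotientGroup.eq_one_iff (N := C) (s * c)).mp (orderOf_eq_one_iff.mp ?_)
  obtain ⟨k, hk⟩ := hS ⟨s, hs⟩
  have h1 : orderOf ((s * c : G) : G ⧸ C) ∣ p ^ k := by
    refine orderOf_dvd_of_pow_eq_one ?_
    rw [QuotientGroup.mk_mul, (QuotientGroup.eq_one_iff c).mpr hc, mul_one, ← QuotientGroup.mk_pow,
      show s ^ p ^ k = 1 from congrArg Subtype.val hk, QuotientGroup.mk_one]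
  exact Nat.eq_one_of_dvd_coprimes (hw.pow_right k) (orderOf_map_dvd (QuotientGroup.mk' C) _) h1

/-- The class passes to the quotient by `Q` if `G = S C(Q)`. -/
theorem quotient_of_top {P : ∀ (X : Type u) [Group X], Prop} (hP : Inherits p P) :
    ∀ {G : Type u} [Group G] [Finite G] {H : Type u} [Group H] (f : G →* H),
      Function.Surjective f → f.ker ≠ ⊥ → ∀ S : Sylow p G, IsPGroup p f.ker →
      (S : Subgroup G) ⊔ centralizer (f.ker : Set G) = ⊤ → P G → P H := by
  intro G _ _
  induction hn : Nat.card G using Nat.strong_induction_on generalizing G with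
  | _ n IH =>
  subst hn
  intro H _ f hf hne S hK htop hPG
  have := hp
  have hKS : f.ker ≤ (S : Subgroup G) := hK.le_sylow_of_normal S
  -- a central element of order `p` in the kernel
  set K' := f.ker.subgroupOf (S : Subgroup G)
  have hK'n : K'.Normal := (inferInstance : f.ker.Normal).subgroupOf _
  have hK'ne : Nontrivial K' := by
    rw [nontrivial_iff_ne_bot, Ne, Subgroup.subgroupOf_eq_bot]
    intro h
    exact hne (by rw [eq_bot_iff, ← h.eq_bot]; exact le_inf le_rfl hKS)
  have hmeet : K' ⊓ center (S : Subgroup G) ≠ ⊥ := by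
    intro h
    have := S.2.isNilpotent
    exact Core.inf_center_ne_bot ((nontrivial_iff_ne_bot K').mp hK'ne) h
  obtain ⟨z₀, hz₀, hz₀1⟩ : ∃ z ∈ K' ⊓ center (S : Subgroup G), z ≠ 1 := by
    by_contra hh
    push Not at hh
    exact hmeet ((eq_bot_iff_forall _).mpr hh)
  obtain ⟨k, hk, hkz⟩ : ∃ k, 0 < k ∧ orderOf z₀ = p ^ k := by
    obtain ⟨k, hk⟩ := IsPGroup.iff_orderOf.mp S.2 z₀
    refine ⟨k, Nat.pos_of_ne_zero fun e => hz₀1 ?_, hk⟩
    subst e
    exact orderOf_eq_one_iff.mp (by rw [hk, pow_zero])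
  set z := z₀ ^ p ^ (k - 1)
  have hzo : orderOf z = p := by
    rw [orderOf_pow_of_dvd (pow_ne_zero _ hp.out.ne_zero) (hkz ▸ pow_dvd_pow p (Nat.sub_le k 1)), hkz,
      Nat.pow_div (Nat.sub_le k 1) hp.out.pos, show k - (k - 1) = 1 by omega, pow_one]
  have hzK : (z : G) ∈ f.ker := (pow_mem hz₀.1 _ : z ∈ K')
  have hzc : ∀ g : G, Commute (z : G) g := by
    intro g
    have := centralizer_normal f.ker
    obtain ⟨s, hs, c, hc, rfl⟩ := mem_sup_of_normal_right.mp (htop.ge (mem_top g))
    refine Commute.mul_right ?_ (mem_centralizer_iff.mp hc _ hzK)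
    exact (congrArg Subtype.val (mem_center_iff.mp (pow_mem hz₀.2 _ : z ∈ center _) ⟨s, hs⟩)).symm
  set Z := zpowers (z : G)
  have hZc : ∀ x ∈ Z, ∀ g : G, Commute x g := by
    rintro _ ⟨i, rfl⟩ g
    exact (hzc g).zpow_left i
  have hZn : Z.Normal := ⟨fun x hx g => by
    rw [← (hZc x hx g).eq, mul_inv_cancel_right]; exact hx⟩
  have hZcard : Nat.card Z = p := by rw [Nat.card_zpowers, Subgroup.orderOf_coe, hzo]
  have hZK : Z ≤ f.ker := zpowers_le.mpr hzK
  by_cases heq : f.ker ≤ Z
  · have hk : f.ker = Z := le_antisymm heq hZK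
    exact hP.cquot f hf (hk ▸ hZcard) (hk ▸ hZc) hPG
  set π := QuotientGroup.mk' Z
  have hπ : Function.Surjective π := QuotientGroup.mk'_surjective Z
  have hPq : P (G ⧸ Z) := hP.cquot π hπ (by rw [QuotientGroup.ker_mk']; exact hZcard)
    (by rw [QuotientGroup.ker_mk']; exact hZc) hPG
  set f' := QuotientGroup.lift Z f hZK
  have hker : f'.ker = f.ker.map π := QuotientGroup.ker_lift Z f hZK
  have hlt : Nat.card (G ⧸ Z) < Nat.card G := by
    rw [card_eq_card_quotient_mul_card_subgroup Z, hZcard]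
    exact lt_mul_of_one_lt_right Nat.card_pos hp.out.one_lt
  refine IH _ hlt rfl f' (QuotientGroup.lift_surjective_of_surjective Z f hf hZK)
    ?_ (S.mapSurjective hπ) (hker ▸ hK.map π) ?_ hPq
  · rw [hker]
    intro h
    refine heq fun x hx => (QuotientGroup.eq_one_iff x).mp ?_
    exact mem_bot.mp (h ▸ mem_map_of_mem π hx)
  · rw [eq_top_iff, ← map_top_of_surjective π hπ, ← htop, Subgroup.map_sup, Sylow.coe_mapSurjective]
    refine sup_le_sup le_rfl ?_
    rintro _ ⟨c, hc, rfl⟩
    rw [hker, mem_centralizer_iff]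
    rintro _ ⟨q, hq, rfl⟩
    rw [← map_mul, ← map_mul, mem_centralizer_iff.mp hc q hq]

/-- An element of a normalizer that is trivial on `Q` and on `U / Q` centralizes `U` if its order is prime to `p`. -/
theorem commute_of_stable {Q : Subgroup G} (hQ : IsPGroup p Q) {w : G} (hw : (orderOf w).Coprime p)
    (hwQ : w ∈ centralizer (Q : Set G)) {u : G} (hu : w * u * w⁻¹ * u⁻¹ ∈ Q) : Commute w u := by
  set c := w * u * w⁻¹ * u⁻¹ with hcdef
  have hwc : Commute w c := (mem_centralizer_iff.mp hwQ c hu).symm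
  have hiter : ∀ m : ℕ, w ^ m * u * (w ^ m)⁻¹ = c ^ m * u := by
    intro m
    induction m with
    | zero => simp
    | succ m ihm =>
      calc w ^ (m + 1) * u * (w ^ (m + 1))⁻¹ = w * (w ^ m * u * (w ^ m)⁻¹) * w⁻¹ := by
            rw [pow_succ']; group
        _ = (w * c ^ m) * u * w⁻¹ := by rw [ihm]; group
        _ = c ^ m * (w * u * w⁻¹) := by rw [(hwc.pow_right m).eq]; group
        _ = _ := by rw [hcdef, pow_succ]; group
  have h1 : c ^ orderOf w = 1 := by
    have h5 := hiter (orderOf w)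
    rw [pow_orderOf_eq_one] at h5
    simpa using h5.symm
  obtain ⟨k, hk⟩ := IsPGroup.iff_orderOf.mp hQ ⟨c, hu⟩
  rw [Subgroup.orderOf_mk] at hk
  have h2 := Nat.eq_one_of_dvd_coprimes (hw.pow_right k) (orderOf_dvd_of_pow_eq_one h1) hk.dvd
  rw [orderOf_eq_one_iff, hcdef, mul_inv_eq_one] at h2
  exact mul_inv_eq_iff_eq_mul.mp h2

/-- `C(Q) ≤ Q O_{p'}` gives `p`-constraint. -/
theorem isPConstrained_of_centric (S : Sylow p G)
    (hC : (S : Subgroup G) ⊓ centralizer (Cfsg.pCore p G : Set G) ≤ Cfsg.pCore p G) :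
    Cfsg.IsPConstrained p G := by
  set Q := Cfsg.pCore p G
  set C := centralizer (Q : Set G)
  have hCn : C.Normal := centralizer_normal Q
  set R := Cfsg.pPrimePCore p G
  set O := Cfsg.pPrimeCore p G
  intro P
  have hQR : Q ≤ R := fun x hx => by
    have hn : (Q.map (QuotientGroup.mk' O)).Normal :=
      (inferInstance : Q.Normal).map _ (QuotientGroup.mk'_surjective O)
    exact Core.le_pCore (N := Q.map (QuotientGroup.mk' O)) (Core.pCore_isPGroup.map _) (mem_map_of_mem _ hx)
  have hRn : R.Normal := Normal.comap inferInstance _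
  have hQP : Q ≤ (P : Subgroup R).map R.subtype := by
    have hn : (Q.subgroupOf R).Normal := (inferInstance : Q.Normal).subgroupOf R
    have h1 := ((Core.pCore_isPGroup (p := p) (G := G)).comap_of_injective R.subtype R.subtype_injective :
      IsPGroup p (Q.subgroupOf R)).le_sylow_of_normal P
    intro x hx
    exact ⟨⟨x, hQR hx⟩, h1 hx, rfl⟩
  refine (centralizer_le (SetLike.coe_subset_coe.mpr hQP)).trans ?_
  obtain ⟨T, hT⟩ := Control.SylIn.exists_sylow (G := C)
    (T := ((S : Subgroup G) ⊓ C).subgroupOf C) (p := p)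
    ⟨le_top, S.2.to_inf_left.comap_subtype, by
      rw [relIndex_top_right]
      exact ((Control.sylIn_top S).inf_normal (N := C) le_top
        (fun g _ => normalizer_eq_top C ▸ mem_top g)).not_dvd⟩
  have hburn : Cfsg.HasNormalPComplement p C :=
    Fusion.hasNormalPComplement_of_normalizer_le_centralizer T fun x _ => by
      rw [mem_centralizer_iff]
      intro t ht
      have ht' : t ∈ (T : Subgroup C) := ht
      rw [hT] at ht'
      exact Subtype.ext (mem_centralizer_iff.mp x.2 _ (hC ht'))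
  have hle : (Cfsg.pResidual p C).map C.subtype ≤ O := by
    have := Fusion.pResidual_characteristic (p := p) (G := C)
    refine Core.le_pPrimeCore ?_
    rw [card_map_of_injective C.subtype_injective]
    exact Fusion.coprime_card_pResidual_of_hasNormalPComplement hburn
  intro x hx
  obtain ⟨t, ht, o, ho, hto⟩ :=
    mem_sup_of_normal_right.mp ((Fusion.sylow_sup_pResidual T).ge (mem_top (⟨x, hx⟩ : C)))
  rw [show x = (t : G) * (o : G) from congrArg Subtype.val hto.symm]
  refine mul_mem (hQR (hC ?_)) ?_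
  · rw [hT] at ht; exact ht
  · show QuotientGroup.mk' O (o : G) ∈ Cfsg.pCore p (G ⧸ O)
    rw [show QuotientGroup.mk' O (o : G) = 1 from (QuotientGroup.eq_one_iff _).mpr (hle ⟨o, ho, rfl⟩)]
    exact one_mem _

/-- Moving a chain of links that all contain `Q`. -/
theorem acts_of_chain {Q : Subgroup G} [Q.Normal] {𝒢 : Set (Subgroup G)} {M : Subgroup G}
    (hstep : ∀ U ∈ 𝒢, Q ≤ U → ∀ x ∈ normalizer (U : Set G), Acts M (U : Set G) x)
    {A : Set G} {g : G} (h : Control.FamChain 𝒢 A g) (hQA : (Q : Set G) ⊆ A) : Acts M A g⁻¹ := by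
  induction h with
  | nil A => exact ⟨1, one_mem M, fun a _ => by simp⟩
  | @cons A g x U hU hA hx _ ih =>
    have hQ' : (Q : Set G) ⊆ Fusion.conjSet x A := fun q hq => by
      rw [Fusion.mem_conjSet]
      exact hQA ((inferInstance : Q.Normal).conj_mem q hq x)
    rw [mul_inv_rev]
    obtain ⟨y, hy, hye⟩ := hstep U hU (fun q hq => hA (hQA hq)) x⁻¹ (inv_mem hx)
    refine Acts.trans ⟨y, hy, fun a ha => hye a (hA ha)⟩ (ih hQ') fun a ha => ?_
    exact ⟨a, ha, by simp⟩

/-- The image of a strongly closed subgroup modulo `Q`. -/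
theorem isStronglyClosed_map (S : Sylow p G) {D : Subgroup G}
    (hD : Cfsg.IsStronglyClosed D (S : Subgroup G)) {Q : Subgroup G} [Q.Normal]
    (hQ : Q ≤ (S : Subgroup G)) :
    Cfsg.IsStronglyClosed (D.map (QuotientGroup.mk' Q)) ((S : Subgroup G).map (QuotientGroup.mk' Q)) := by
  refine ⟨map_mono hD.1, ?_⟩
  rintro _ ⟨d, hd, rfl⟩ g' hg
  obtain ⟨g, rfl⟩ := QuotientGroup.mk'_surjective Q g'
  rw [← map_inv, ← map_mul, ← map_mul] at hg ⊢
  have hgS : g * d * g⁻¹ ∈ (S : Subgroup G) := by
    obtain ⟨s, hs, hse⟩ := hg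
    have h1 := mul_mem hs (hQ (QuotientGroup.eq.mp hse))
    rwa [mul_inv_cancel_left] at h1
  have key : ∀ {A : Set G} {h : G}, Control.FamChain (Control.fullSet p (S : Subgroup G)) A h →
      (Q : Set G) ⊆ A → ∀ e ∈ D, ∀ q ∈ Q, e * q ∈ A →
      ∃ e' ∈ D, ∃ q' ∈ Q, h⁻¹ * (e * q) * h = e' * q' := by
    intro A h hch
    induction hch with
    | nil A => exact fun _ e he q hq _ => ⟨e, he, q, hq, by simp⟩
    | @cons A h x U hU hA hx _ ih =>
      intro hQA e he q hq heq
      have hQ' : (Q : Set G) ⊆ Fusion.conjSet x A := fun r hr => by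
        rw [Fusion.mem_conjSet]
        exact hQA ((inferInstance : Q.Normal).conj_mem r hr x)
      have heU : e ∈ U := by
        simpa using mul_mem (hA heq) (inv_mem (hA (hQA hq)) : q⁻¹ ∈ U)
      have h1 : x⁻¹ * e * x ∈ D := by
        have h2 : x⁻¹ * e * x ∈ U := (mem_normalizer_iff''.mp hx e).mp heU
        simpa using hD.2 e he x⁻¹ (by simpa using hU.1 h2)
      have h3 : x⁻¹ * q * x ∈ Q := by simpa using (inferInstance : Q.Normal).conj_mem q hq x⁻¹
      have hmem : x⁻¹ * e * x * (x⁻¹ * q * x) ∈ Fusion.conjSet x A := ⟨_, heq, by group⟩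
      obtain ⟨e', he', q', hq', heq'⟩ := ih hQ' _ h1 _ h3 hmem
      refine ⟨e', he', q', hq', ?_⟩
      rw [← heq']; group
  have hch : Control.FamChain (Control.fullSet p (S : Subgroup G)) ((Q : Set G) ∪ {d}) g⁻¹ := by
    refine Control.famChain_of_subset S (Control.allFull_fullSet S) (Control.movers_fullSet S) ?_ ?_
    · exact Set.union_subset (SetLike.coe_subset_coe.mpr hQ) (Set.singleton_subset_iff.mpr (hD.1 hd))
    · rintro _ ⟨a, ha, rfl⟩
      rcases ha with ha | rfl
      · exact hQ (by simpa using (inferInstance : Q.Normal).conj_mem a ha g)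
      · show g⁻¹⁻¹ * _ * g⁻¹ ∈ (S : Subgroup G)
        rw [inv_inv]; exact hgS
  obtain ⟨e', he', q', hq', heq⟩ := key hch Set.subset_union_left d hd 1 (one_mem Q)
    (Or.inr (by simp))
  refine ⟨e', he', ?_⟩
  simp only [inv_inv, mul_one] at heq
  rw [heq, map_mul, (QuotientGroup.eq_one_iff q').mpr hq' |> fun h => show QuotientGroup.mk' Q q' = 1 from h,
    mul_one]

/-- `N(zInter e D)` controls strong fusion. -/
theorem controls {P : ∀ (X : Type u) [Group X], Prop} (hP : Inherits p P) (h2 : p ≠ 2) {e : ℕ}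
    (he : e = 0 ∨ Odd e) (hpe : p ∣ e) :
    ∀ {G : Type u} [Group G] [Finite G], P G → ∀ (S : Sylow p G) (D : Subgroup G),
      Cfsg.IsStronglyClosed D (S : Subgroup G) → ∀ A : Set G, A ⊆ (S : Subgroup G) →
        ∀ g : G, (∀ a ∈ A, g * a * g⁻¹ ∈ (S : Subgroup G)) →
          Acts (normalizer (Fusion.zInter e D : Set G)) A g := by
  intro G _ _
  induction hn : Nat.card G using Nat.strong_induction_on generalizing G with
  | _ n IH =>
  subst hn
  intro hPG S D hD A hA g hg
  have := hp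
  set NZ := normalizer (Fusion.zInter e D : Set G) with hNZ
  by_cases hnt : NZ = ⊤
  · exact ⟨g, hnt ▸ mem_top g, fun a _ => rfl⟩
  have hD1 : D ≠ ⊥ := by
    rintro rfl
    exact hnt (by rw [hNZ, le_bot_iff.mp (Fusion.zInter_le e (⊥ : Subgroup G)), normalizer_eq_top])
  have hSN : (S : Subgroup G) ≤ NZ := Fusion.le_normalizer_zInter hD
  -- proper subgroups containing `S`
  have sub : ∀ M : Subgroup G, M ≠ ⊤ → (S : Subgroup G) ≤ M → ∀ B : Set G, B ⊆ (S : Subgroup G) →
      ∀ x ∈ M, (∀ b ∈ B, x * b * x⁻¹ ∈ (S : Subgroup G)) → Acts NZ B x := by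
    intro M hM hSM B hB x hx hxB
    have hlt : Nat.card M < Nat.card G :=
      lt_of_le_of_ne (Nat.le_of_dvd Nat.card_pos (card_subgroup_dvd_card M))
        fun h => hM (eq_top_of_card_eq M h)
    have hDM : D ≤ M := hD.1.trans hSM
    have hD' : Cfsg.IsStronglyClosed (D.subgroupOf M) (S.subtype hSM : Subgroup M) :=
      ⟨fun y hy => hD.1 hy, fun y hy k hk => hD.2 _ hy k hk⟩
    obtain ⟨y, hy, hye⟩ := IH _ hlt rfl (hP.sub hPG M) (S.subtype hSM) (D.subgroupOf M) hD'
      {b : M | (b : G) ∈ B} (fun b hb => hB hb) ⟨x, hx⟩ (fun b hb => hxB _ hb)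
    refine ⟨(y : G), ?_, fun b hb => congrArg Subtype.val (hye ⟨b, hSM (hB hb)⟩ hb)⟩
    rw [hNZ, ← map_subgroupOf_eq_of_le hDM, ← Fusion.zInter_map M.subtype_injective]
    exact le_normalizer_map M.subtype ⟨y, hy, rfl⟩
  set Q := Cfsg.pCore p G with hQdef
  have hQS : Q ≤ (S : Subgroup G) := Core.pCore_le_sylow S
  by_cases hcent : (S : Subgroup G) ⊓ centralizer (Q : Set G) ≤ Q
  · -- constrained
    have hc := isPConstrained_of_centric S hcent
    have htop := Fusion.sup_normalizer_zInter_eq_top' h2 he hc (hP.stable hPG) S hD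
    obtain ⟨y, hy, hye⟩ := Fusion.exists_mem_conj_eq (O := Cfsg.pPrimeCore p G) (N := NZ)
      Core.coprime_card_pPrimeCore hSN S.2 hA (x := g) (by rw [sup_comm, htop]; exact mem_top g) hg
    exact ⟨y, hy, fun a ha => (hye a ha).symm⟩
  rcases eq_or_ne Q ⊥ with hQ1 | hQ1
  · -- all local subgroups are proper
    have hW := Fusion.isConjugacyFunctor_zFun (G := G) (p := p) hpe D
    have h𝓕 : ∀ W ∈ ({Fusion.zFun e D} : Set (Subgroup G → Subgroup G)), Cfsg.IsConjugacyFunctor p W :=
      fun W hW' => hW' ▸ hW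
    have key := Control.fusCtrl_of_local S h𝓕 (Control.allFull_fullSet S) (Control.movers_fullSet S)
      (fun U hU hU1 => Control.famFus_iff.mpr ⟨_, (Control.allFull_fullSet S U hU).2, by
        have hT := (Control.allFull_fullSet S U hU).2
        set T := (S : Subgroup G) ⊓ normalizer (U : Set G)
        set M := normalizer (U : Set G)
        have hM : M ≠ ⊤ := by
          intro h
          have hUn : U.Normal := normalizer_eq_top_iff.mp h
          exact hU1 (le_bot_iff.mp ((Core.le_pCore (S.2.to_le hU.1)).trans hQ1.le))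
        have hlt : Nat.card M < Nat.card G :=
          lt_of_le_of_ne (Nat.le_of_dvd Nat.card_pos (card_subgroup_dvd_card M))
            fun h => hM (eq_top_of_card_eq M h)
        obtain ⟨D', hD', heq⟩ := Fusion.exists_strongly_closed S hD hT.isPGroup e
        obtain ⟨R, hR⟩ := Control.SylIn.exists_sylow (G := M) (T := T.subgroupOf M)
          ⟨le_top, hT.isPGroup.comap_subtype, by rw [relIndex_top_right]; exact hT.not_dvd⟩
        have hD'M : (D'.subgroupOf M).map M.subtype = D' :=
          map_subgroupOf_eq_of_le (hD'.1.trans hT.le)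
        have hD'' : Cfsg.IsStronglyClosed (D'.subgroupOf M) (R : Subgroup M) := by
          rw [hR]
          exact ⟨fun x hx => hD'.1 hx, fun x hx k hk => hD'.2 _ hx k hk⟩
        intro B x hxM hB hxB
        obtain ⟨y, hy, hye⟩ := IH _ hlt rfl (hP.sub hPG M) R _ hD'' {b : M | (b : G) ∈ B}
          (fun b hb => hR.ge (show b ∈ T.subgroupOf M from hB hb)) ⟨x, hxM⟩
          (fun b hb => hR.ge (show _ ∈ T.subgroupOf M from hxB ⟨(b : G), hb, rfl⟩))
        have heq' : ∀ b ∈ B, (y : G) * b * (y : G)⁻¹ = x * b * x⁻¹ := fun b hb =>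
          (congrArg Subtype.val (hye ⟨b, hT.le (hB hb)⟩ hb)).symm
        have hyW : (y : G) ∈ M ⊓ normalizer (Fusion.zFun e D T : Set G) := by
          refine ⟨y.2, ?_⟩
          rw [heq, ← hD'M, ← Fusion.zInter_map M.subtype_injective]
          exact le_normalizer_map M.subtype ⟨y, hy, rfl⟩
        refine Control.Ctrl.of_eqOn (Control.Ctrl.of_mem ⟨_, rfl, rfl⟩ hyW ?_) heq'
        rintro _ ⟨b, hb, rfl⟩
        show (y : G) * b * (y : G)⁻¹ ∈ (T : Set G)
        rw [heq' b hb]
        exact hxB ⟨b, hb, rfl⟩⟩)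
    obtain ⟨c, hcR, hce⟩ := key A g (mem_top g) hA (by rintro _ ⟨a, ha, rfl⟩; exact hg a ha)
    refine ⟨c, hcR.mem ?_, fun a ha => (hce a ha).symm⟩
    rintro _ ⟨W, hW', rfl⟩
    obtain rfl : W = Fusion.zFun e D := hW'
    show ⊤ ⊓ normalizer (Fusion.zFun e D (S : Subgroup G) : Set G) ≤ _
    rw [Fusion.zFun_sylow S hD hD1]
    exact inf_le_right
  set C := centralizer (Q : Set G) with hC
  have hCn : C.Normal := centralizer_normal Q
  by_cases hM2 : (S : Subgroup G) ⊔ C = ⊤
  swap
  · -- `G = C(Q) N(E)`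
    set L := Q ⊔ C
    set E := (S : Subgroup G) ⊓ L
    have hSE : (S : Subgroup G) ≤ normalizer (E : Set G) := fun s hs => mem_normalizer_of_conj
      fun x hx => ⟨(S : Subgroup G).mul_mem ((S : Subgroup G).mul_mem hs hx.1) ((S : Subgroup G).inv_mem hs), (inferInstance : L.Normal).conj_mem x hx.2 s⟩
    have hNE : normalizer (E : Set G) ≠ ⊤ := by
      intro h
      have hEn : E.Normal := normalizer_eq_top_iff.mp h
      exact hcent fun x hx => Core.le_pCore (S.2.to_le inf_le_left : IsPGroup p E)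
        (show x ∈ E from ⟨hx.1, mem_sup_right hx.2⟩)
    have hFr : normalizer (E : Set G) ⊔ L = ⊤ := by
      obtain ⟨R, hR⟩ := Control.SylIn.exists_sylow (G := L) (T := E.subgroupOf L)
        ⟨le_top, (S.2.to_inf_left : IsPGroup p E).comap_subtype, by
          rw [relIndex_top_right]
          exact ((Control.sylIn_top S).inf_normal (N := L) le_top
            (fun g _ => normalizer_eq_top L ▸ mem_top g)).not_dvd⟩
      have := Sylow.normalizer_sup_eq_top R
      rwa [hR, map_subgroupOf_eq_of_le inf_le_right] at this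
    obtain ⟨c, hc, m, hm, hcm⟩ : ∃ c ∈ C, ∃ m ∈ normalizer (E : Set G), c * m = g := by
      obtain ⟨m, hm, l, hl, rfl⟩ := mem_sup_of_normal_right.mp (hFr.ge (mem_top g))
      obtain ⟨q, hq, c, hc, rfl⟩ := mem_sup_of_normal_right.mp hl
      refine ⟨m * q * c * (m * q)⁻¹, hCn.conj_mem c hc _, m * q,
        mul_mem hm (le_normalizer ⟨hQS hq, mem_sup_left hq⟩), by group⟩
    set M2 := (S : Subgroup G) ⊔ C
    set X := Subgroup.closure ((fun a => m * a * m⁻¹) '' A)
    have hXM : X ≤ normalizer (E : Set G) ⊓ M2 := by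
      rw [closure_le]
      rintro _ ⟨a, ha, rfl⟩
      refine ⟨(normalizer (E : Set G)).mul_mem ((normalizer (E : Set G)).mul_mem hm (hSE (hA ha))) ((normalizer (E : Set G)).inv_mem hm), ?_⟩
      have h1 : g * a * g⁻¹ ∈ M2 := mem_sup_left (hg a ha)
      rw [← hcm] at h1
      have hc2 : c ∈ M2 := mem_sup_right hc
      have h3 := mul_mem (mul_mem (inv_mem hc2) h1) hc2
      show m * a * m⁻¹ ∈ M2
      convert h3 using 1
      group
    have hXp : IsPGroup p X := by
      have hX : X = (Subgroup.closure A).map (MulAut.conj m).toMonoidHom := by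
        rw [MonoidHom.map_closure]; rfl
      rw [hX]
      exact (S.2.to_le ((closure_le _).mpr hA)).map _
    set H := normalizer (E : Set G) ⊓ M2
    have hSH : (S : Subgroup G) ≤ H := le_inf hSE le_sup_left
    obtain ⟨R, hR⟩ := (hXp.comap_of_injective H.subtype H.subtype_injective :
      IsPGroup p (X.subgroupOf H)).exists_le_sylow
    obtain ⟨k, hk⟩ := MulAction.exists_smul_eq H R (S.subtype hSH)
    have hkA : ∀ a ∈ A, (k : G) * m * a * ((k : G) * m)⁻¹ ∈ (S : Subgroup G) := by
      intro a ha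
      have h1 : (⟨m * a * m⁻¹, hXM (subset_closure ⟨a, ha, rfl⟩)⟩ : H) ∈ (R : Subgroup H) :=
        hR (subset_closure ⟨a, ha, rfl⟩ : m * a * m⁻¹ ∈ X)
      have h2 : k * ⟨m * a * m⁻¹, hXM (subset_closure ⟨a, ha, rfl⟩)⟩ * k⁻¹ ∈ (S.subtype hSH : Subgroup H) := by
        rw [← hk, Sylow.coe_subgroup_smul]
        exact ⟨_, h1, rfl⟩
      have h3 : (k : G) * (m * a * m⁻¹) * (k : G)⁻¹ ∈ (S : Subgroup G) := h2
      convert h3 using 1
      group
    have h1 := sub _ hNE hSE A hA ((k : G) * m) (mul_mem k.2.1 hm) hkA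
    have h2 := sub M2 hM2 le_sup_left ((fun a => (k : G) * m * a * ((k : G) * m)⁻¹) '' A)
      (by rintro _ ⟨a, ha, rfl⟩; exact hkA a ha) (c * (k : G)⁻¹)
      (mul_mem (mem_sup_right hc) (inv_mem k.2.2))
      (by
        rintro _ ⟨a, ha, rfl⟩
        have h3 := hg a ha
        rw [← hcm] at h3
        convert h3 using 1
        group)
    have h4 := h1.trans h2 fun a ha => ⟨a, ha, rfl⟩
    rwa [show c * (k : G)⁻¹ * ((k : G) * m) = g by rw [← hcm]; group] at h4
  -- `G = S C(Q)`
  set π := QuotientGroup.mk' Q with hπdef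
  have hπ : Function.Surjective π := QuotientGroup.mk'_surjective Q
  have hker : π.ker = Q := QuotientGroup.ker_mk' Q
  have hPq : P (G ⧸ Q) := quotient_of_top hP π hπ (hker.symm ▸ hQ1) S
    (hker.symm ▸ Core.pCore_isPGroup) (by rw [hker]; exact hM2) hPG
  have hlt : Nat.card (G ⧸ Q) < Nat.card G := Core.card_quotient_lt hQ1
  set S' := S.mapSurjective hπ
  have hD' : Cfsg.IsStronglyClosed (D.map π) (S' : Subgroup (G ⧸ Q)) := by
    rw [Sylow.coe_mapSurjective]; exact isStronglyClosed_map S hD hQS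
  set Z' := Fusion.zInter e (D.map π)
  set M3 := (normalizer (Z' : Set (G ⧸ Q))).comap π
  have hSM3 : (S : Subgroup G) ≤ M3 := fun s hs =>
    Fusion.le_normalizer_zInter hD' (by rw [Sylow.coe_mapSurjective]; exact mem_map_of_mem π hs)
  have hM3 : M3 ≠ ⊤ := by
    intro h
    have hZn : Z'.Normal := normalizer_eq_top_iff.mp (top_le_iff.mp fun y _ => by
      obtain ⟨x, rfl⟩ := hπ y
      exact (h.ge (mem_top x) : x ∈ M3))
    have hDQ : D ≤ Q := by
      by_contra hDQ
      have hne : D.map π ≠ ⊥ := fun h' => hDQ fun x hx =>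
        (QuotientGroup.eq_one_iff x).mp (mem_bot.mp (h' ▸ mem_map_of_mem π hx))
      refine Fusion.zInter_ne_bot ((S.2.to_le hD.1).map π) hne hpe (le_bot_iff.mp fun y hy => ?_)
      obtain ⟨x, rfl⟩ := hπ y
      refine mem_bot.mpr ((QuotientGroup.eq_one_iff x).mpr ?_)
      have hn : (Z'.comap π).Normal := hZn.comap π
      have hle : Z' ≤ (S' : Subgroup (G ⧸ Q)) := (Fusion.zInter_le e _).trans hD'.1
      refine Core.le_pCore (N := Z'.comap π) (S.2.to_le fun w hw => ?_) hy
      obtain ⟨s, hs, hse⟩ := (Sylow.coe_mapSurjective hπ S ▸ hle hw :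
        π w ∈ (S : Subgroup G).map π)
      have h1 := mul_mem hs (hQS (QuotientGroup.eq.mp hse))
      rwa [mul_inv_cancel_left] at h1
    have hDn : D.Normal := ⟨fun x hx y =>
      hD.2 x hx y (hQS ((inferInstance : Q.Normal).conj_mem x (hDQ hx) y))⟩
    exact hnt (top_le_iff.mp fun y _ =>
      Fusion.mem_normalizer_zInter (normalizer_eq_top D ▸ mem_top y))
  -- the links
  have hstep : ∀ U ∈ Control.fullSet p (S : Subgroup G), Q ≤ U →
      ∀ x ∈ normalizer (U : Set G), Acts M3 (U : Set G) x := by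
    intro U hU hQU x hx
    obtain ⟨y', hy', hye⟩ := IH _ hlt rfl hPq S' (D.map π) hD' (U.map π : Set (G ⧸ Q))
      (by rw [Sylow.coe_mapSurjective]; exact SetLike.coe_subset_coe.mpr (map_mono hU.1)) (π x)
      (by
        rintro _ ⟨a, ha, rfl⟩
        rw [Sylow.coe_mapSurjective, ← map_inv, ← map_mul, ← map_mul]
        exact mem_map_of_mem π (hU.1 ((mem_normalizer_iff.mp hx a).mp ha)))
    obtain ⟨y, rfl⟩ := hπ y'
    set w := y⁻¹ * x with hwdef
    have hmod : ∀ a ∈ U, w * a * w⁻¹ * a⁻¹ ∈ Q := by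
      intro a ha
      refine (QuotientGroup.eq_one_iff _).mp ?_
      show π _ = 1
      have h1 := hye (π a) (mem_map_of_mem π ha)
      rw [hwdef]
      simp only [map_mul, map_inv, mul_inv_rev, inv_inv]
      calc (π y)⁻¹ * π x * π a * ((π x)⁻¹ * π y) * (π a)⁻¹
          = (π y)⁻¹ * (π x * π a * (π x)⁻¹) * π y * (π a)⁻¹ := by group
        _ = 1 := by rw [h1]; group
    have hwN : w ∈ normalizer (U : Set G) := mem_normalizer_of_conj fun a ha => by
      simpa using mul_mem (hQU (hmod a ha)) ha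
    set N := normalizer (U : Set G) with hN
    let K : Subgroup N :=
      { carrier := {v | ∀ a ∈ U, (v : G) * a * (v : G)⁻¹ * a⁻¹ ∈ Q}
        one_mem' := fun a _ => by simp
        mul_mem' := fun {v v'} hv hv' a ha => by
          have h1 : (v' : G) * a * (v' : G)⁻¹ ∈ U := (mem_normalizer_iff.mp v'.2 a).mp ha
          have h2 := mul_mem (hv _ h1) (hv' a ha)
          rw [Subgroup.coe_mul]
          convert h2 using 1
          group
        inv_mem' := fun {v} hv a ha => by
          have h1 : (v : G)⁻¹ * a * (v : G) ∈ U := (mem_normalizer_iff''.mp v.2 a).mp ha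
          have h2 := inv_mem (hv _ h1)
          rw [InvMemClass.coe_inv]
          convert h2 using 1
          group }
    have hKn : K.Normal := ⟨fun v hv n a ha => by
      have h1 : (n : G)⁻¹ * a * (n : G) ∈ U := (mem_normalizer_iff''.mp n.2 a).mp ha
      have h2 := (inferInstance : Q.Normal).conj_mem _ (hv _ h1) (n : G)
      rw [Subgroup.coe_mul, Subgroup.coe_mul, InvMemClass.coe_inv]
      convert h2 using 1
      group⟩
    obtain ⟨R, hR⟩ := Control.SylIn.exists_sylow (G := K)
      (T := ((((S : Subgroup G) ⊓ N).subgroupOf N) ⊓ K).subgroupOf K) (p := p)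
      (by
        have hTN : Control.SylIn p (((S : Subgroup G) ⊓ N).subgroupOf N) (⊤ : Subgroup N) :=
          ⟨le_top, S.2.to_inf_left.comap_subtype, by rw [relIndex_top_right]; exact hU.2⟩
        have h2 := hTN.inf_normal (N := K) le_top (fun g _ => normalizer_eq_top K ▸ mem_top g)
        exact ⟨le_top, h2.isPGroup.comap_subtype, by rw [relIndex_top_right]; exact h2.not_dvd⟩)
    obtain ⟨r, hr, v, hv, hrv⟩ := mem_sup_of_normal_right.mp
      ((Fusion.sylow_sup_pResidual R).ge (mem_top (⟨⟨w, hwN⟩, hmod⟩ : K)))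
    have hres : ∀ b : K, b ∈ Cfsg.pResidual p K → ((b : N) : G) ∈ centralizer (U : Set G) := by
      intro b hb
      rw [Cfsg.pResidual] at hb
      refine Subgroup.closure_induction (p := fun (b : K) _ => ((b : N) : G) ∈ centralizer (U : Set G))
        ?_ (one_mem _) (fun a b _ _ ha hb => mul_mem ha hb) (fun a _ ha => inv_mem ha) hb
      intro b hb
      have hb' : (orderOf ((b : N) : G)).Coprime p := by rwa [Subgroup.orderOf_coe, Subgroup.orderOf_coe]
      rw [mem_centralizer_iff]
      exact fun a ha => (commute_of_stable Core.pCore_isPGroup hb'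
        (commute_of_coprime S.2 hM2 hb') (b.2 a ha)).eq.symm
    rw [hR] at hr
    have hrS : ((r : N) : G) ∈ (S : Subgroup G) := hr.1.1
    refine ⟨y * ((r : N) : G), mul_mem hy' (hSM3 hrS), fun a ha => ?_⟩
    have hw : w = ((r : N) : G) * ((v : N) : G) :=
      congrArg (fun b : K => ((b : N) : G)) hrv.symm
    have hva : ((v : N) : G) * a = a * ((v : N) : G) := (mem_centralizer_iff.mp (hres v hv) a ha).symm
    have hx' : x = y * (((r : N) : G) * ((v : N) : G)) := by rw [← hw, hwdef]; group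
    calc x * a * x⁻¹ = y * ((r : N) : G) * (((v : N) : G) * a) * ((v : N) : G)⁻¹ *
          ((r : N) : G)⁻¹ * y⁻¹ := by rw [hx']; group
      _ = _ := by rw [hva]; group
  have hch : Control.FamChain (Control.fullSet p (S : Subgroup G)) ((Q : Set G) ∪ A) g⁻¹ := by
    refine Control.famChain_of_subset S (Control.allFull_fullSet S) (Control.movers_fullSet S) ?_ ?_
    · exact Set.union_subset (SetLike.coe_subset_coe.mpr hQS) hA
    · rintro _ ⟨a, ha, rfl⟩
      rcases ha with ha | ha
      · exact hQS (by simpa using (inferInstance : Q.Normal).conj_mem a ha g)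
      · show g⁻¹⁻¹ * a * g⁻¹ ∈ (S : Subgroup G)
        rw [inv_inv]; exact hg a ha
  obtain ⟨y, hy, hye⟩ := acts_of_chain hstep hch Set.subset_union_left
  rw [inv_inv] at hye
  obtain ⟨y', hy', hye'⟩ := sub M3 hM3 hSM3 A hA y hy fun a ha => by
    rw [← hye a (Or.inr ha)]; exact hg a ha
  exact ⟨y', hy', fun a ha => (hye a (Or.inr ha)).trans (hye' a ha)⟩

end Cfsg.Agent.QdFree.ZJControl
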