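import Cfsg.Agent.Fusion.ZJ

/-!
# The ZJ argument under stability restricted to the normal closure of Z(J)
-/

set_option autoImplicit false
set_option maxHeartbeats 800000

namespace Cfsg.Agent.QdFree

open Subgroup
open scoped commutatorElement
open Cfsg.Agent.Fusion

variable {G : Type*} [Group G] [Finite G] {p : ℕ} [Fact p.Prime] {e : ℕ} {S : Sylow p G} {D : Subgroup G}

/-- `B ∩ zInter e D` is normal for every normal `p`-subgroup `B`, if stability holds for the members
normalised by the normal subgroups in the normal closure of `zInter e D`. -/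
theorem normal_inf_zInter_of (hp : p ≠ 2) (he : e = 0 ∨ Odd e)
    (hst : ∀ B : Subgroup G, B.Normal → IsPGroup p B → B ≤ normalClosure (zInter e D : Set G) →
      ∀ A, AbMax e D A → B ≤ normalizer (A : Set G) →
        A ≤ normalCore ((S : Subgroup G) ⊔ centralizer (B : Set G)))
    (hD : IsStronglyClosed D (S : Subgroup G)) :
    ∀ B : Subgroup G, B.Normal → IsPGroup p B → (B ⊓ zInter e D).Normal := by
  by_contra hcon
  push Not at hcon
  obtain ⟨B, ⟨hBn, hBp, hBbad⟩, hmin⟩ :=
    (Set.toFinite {B : Subgroup G | B.Normal ∧ IsPGroup p B ∧ ¬ (B ⊓ zInter e D).Normal}).exists_minimalFor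
      (fun B : Subgroup G => Nat.card B) _ hcon
  haveI := hBn
  have small : ∀ C : Subgroup G, C.Normal → C < B → (C ⊓ zInter e D).Normal := by
    intro C hC hlt
    by_contra hb
    have := Core.card_lt_of_lt hlt
    exact this.not_ge (hmin ⟨hC, hBp.to_le hlt.le, hb⟩ this.le)
  set W := zInter e D with hW
  set Z := B ⊓ W with hZ
  have hBS : B ≤ (S : Subgroup G) := (Core.le_pCore hBp).trans (Core.pCore_le_sylow S)
  have hSW := le_normalizer_zInter (e := e) hD
  have hSZ : (S : Subgroup G) ≤ normalizer (Z : Set G) := by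
    intro g hg
    rw [mem_normalizer_iff]
    intro x
    show x ∈ B ∧ x ∈ W ↔ g * x * g⁻¹ ∈ B ∧ g * x * g⁻¹ ∈ W
    exact and_congr
      (mem_normalizer_iff.mp (normalizer_eq_top B ▸ mem_top g) x)
      (mem_normalizer_iff.mp (hSW hg) x)
  have hgen : normalClosure (Z : Set G) = B := by
    refine eq_of_le_of_not_lt (normalClosure_le_normal inf_le_left) fun hlt => hBbad ?_
    have : normalClosure (Z : Set G) ⊓ W = Z :=
      le_antisymm (le_inf (inf_le_left.trans (normalClosure_le_normal inf_le_left)) inf_le_right)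
        (le_inf (fun x hx => subset_normalClosure hx) inf_le_right)
    exact this ▸ small _ inferInstance hlt
  have hBbot : B ≠ ⊥ := fun h => hBbad (by rw [hZ, h, bot_inf_eq]; infer_instance)
  have hB'lt : ⁅B, B⁆ < B := by
    haveI : Nontrivial B := (nontrivial_iff_ne_bot B).mpr hBbot
    haveI : Group.IsNilpotent B := hBp.isNilpotent
    refine lt_of_le_of_ne (commutator_le_self B) fun heq => ?_
    have h1 : commutator B = ⊤ := by
      refine map_injective B.subtype_injective ?_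
      rw [map_subtype_commutator, heq, ← MonoidHom.range_eq_map, range_subtype]
    exact Group.IsSolvable.commutator_lt_top_of_nontrivial B |>.ne h1
  have hMn : (⁅B, B⁆ ⊓ W).Normal := small _ inferInstance hB'lt
  have hB'W : ⁅B, B⁆ ≤ W := by
    refine le_trans ?_ (inf_le_right : ⁅B, B⁆ ⊓ W ≤ W)
    have h1 : ∀ z ∈ Z, ∀ x ∈ B, ⁅z, x⁆ ∈ ⁅B, B⁆ ⊓ W := fun z hz x hx =>
      ⟨commutator_mem_commutator hz.1 hx,
        Replacement.commutatorElement_mem_of_le_normalizer hz.2 (hSW (hBS hx))⟩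
    -- the set of elements with all commutators in `M` is a normal subgroup
    let K : Subgroup G :=
      { carrier := {z | z ∈ B ∧ ∀ x ∈ B, ⁅z, x⁆ ∈ ⁅B, B⁆ ⊓ W}
        one_mem' := ⟨one_mem B, fun x _ => by rw [commutatorElement_one_left]; exact one_mem _⟩
        mul_mem' := fun {y z} hy hz => ⟨mul_mem hy.1 hz.1, fun x hx => by
          rw [show ⁅y * z, x⁆ = y * ⁅z, x⁆ * y⁻¹ * ⁅y, x⁆ by simp only [commutatorElement_def]; group]
          exact mul_mem (hMn.conj_mem _ (hz.2 x hx) y) (hy.2 x hx)⟩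
        inv_mem' := fun {y} hy => ⟨inv_mem hy.1, fun x hx => by
          rw [show ⁅y⁻¹, x⁆ = y⁻¹ * ⁅y, x⁆⁻¹ * y⁻¹⁻¹ by simp only [commutatorElement_def]; group]
          exact hMn.conj_mem _ (inv_mem (hy.2 x hx)) y⁻¹⟩ }
    have hKn : K.Normal := ⟨fun z hz g => ⟨hBn.conj_mem z hz.1 g, fun x hx => by
      have := hMn.conj_mem _ (hz.2 (g⁻¹ * x * g) (by simpa using hBn.conj_mem x hx g⁻¹)) g
      convert this using 1
      simp only [commutatorElement_def]; group⟩⟩
    have hle : B ≤ K := by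
      conv_lhs => rw [← hgen]
      exact normalClosure_le_normal fun z hz => ⟨hz.1, h1 z hz⟩
    exact commutator_le.mpr fun y hy x hx => (hle hy).2 x hx
  set C := centralizer (B : Set G) with hC
  set L := normalCore (normalizer (Z : Set G)) with hL
  have hZnot : normalizer (Z : Set G) ≠ ⊤ := fun h => hBbad (normalizer_eq_top_iff.mp h)
  have hCZ : C ≤ normalizer (Z : Set G) :=
    (centralizer_le (inf_le_left : Z ≤ B)).trans (centralizer_le_normalizer _)
  -- the Frattini argument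
  set T := (S : Subgroup G) ⊓ L with hT
  have hFr : normalizer (T : Set G) ⊔ L = ⊤ := by
    obtain ⟨P, hP⟩ := ((S.2.to_inf_left (K := L)).comap_subtype (K := L)).exists_le_sylow
    have hPp : IsPGroup p ((P : Subgroup L).map L.subtype) := P.2.map _
    obtain ⟨Q, hQ⟩ := hPp.exists_le_sylow
    obtain ⟨g, hg⟩ := MulAction.exists_smul_eq G Q S
    have hTle : T ≤ (P : Subgroup L).map L.subtype := by
      intro x hx
      exact ⟨⟨x, hx.2⟩, hP hx, rfl⟩
    have hle : ((P : Subgroup L).map L.subtype).map (MulAut.conj g).toMonoidHom ≤ T := by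
      rintro _ ⟨y, hy, rfl⟩
      refine ⟨?_, (normalCore_normal _).conj_mem y (map_subtype_le _ hy) g⟩
      rw [← hg]
      exact ⟨y, hQ hy, rfl⟩
    have hT' : (P : Subgroup L).map L.subtype = T :=
      (eq_of_le_of_card_ge hTle ((card_map_of_injective (MulAut.conj g).injective).ge.trans
        (card_le_of_le hle))).symm
    rw [← hT']
    exact Sylow.normalizer_sup_eq_top P
  have hLN : L ≤ normalizer (Z : Set G) := normalCore_le _
  -- a strongly closed subgroup is respected by the Frattini complement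
  have hmem : ∀ n ∈ normalizer (T : Set G), ∀ x ∈ D ⊓ T, n * x * n⁻¹ ∈ D ⊓ T := by
    intro n hn x hx
    have h2 := (mem_normalizer_iff.mp hn x).mp hx.2
    exact ⟨hD.2 x hx.1 n h2.1, h2⟩
  have hconj : ∀ n ∈ normalizer (T : Set G), ∀ A : Subgroup G, AbMax e D A → A ≤ L →
      AbMax e D (A.map (MulAut.conj n).toMonoidHom) := by
    intro n hn A hA hAL
    refine ⟨⟨?_, (hA.toAbMem.map _).comm, (hA.toAbMem.map _).exp⟩, fun C hC => ?_⟩
    · rintro _ ⟨x, hx, rfl⟩
      exact (hmem n hn x ⟨hA.le hx, hD.1 (hA.le hx), hAL hx⟩).1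
    · rw [card_map_of_injective (MulAut.conj n).injective]
      exact hA.max C hC
  have hSL : ∀ a ∈ (S : Subgroup G), a ∈ normalCore ((S : Subgroup G) ⊔ C) → a ∈ L := fun a _ ha =>
    normalCore_mono (sup_le hSZ hCZ) ha
  by_cases hall : ∀ A, AbMax e D A → A ≤ L
  · -- every member lies in `L`
    refine hZnot (top_le_iff.mp (hFr ▸ sup_le (fun n hn => ?_) hLN))
    rw [mem_normalizer_iff_map_conj_eq]
    refine eq_of_le_of_card_ge ?_ (card_map_of_injective (MulAut.conj n).injective).ge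
    rintro _ ⟨x, hx, rfl⟩
    refine ⟨hBn.conj_mem x hx.1 n, mem_sInf.mpr fun A hA => ?_⟩
    obtain ⟨y, hy, hyx⟩ : ∃ y ∈ A, n⁻¹ * y * n⁻¹⁻¹ = x := by
      have h := mem_sInf.mp (hx.2 : x ∈ W) _ (hconj n⁻¹ (inv_mem hn) A hA (hall A hA))
      exact h
    show n * x * n⁻¹ ∈ A
    rw [← hyx]
    simpa [mul_assoc] using hy
  push Not at hall
  obtain ⟨A, ⟨hA, hAL⟩, hmax⟩ :=
    (Set.toFinite {A : Subgroup G | AbMax e D A ∧ ¬ A ≤ L}).exists_maximalFor
      (fun A : Subgroup G => Nat.card (A ⊓ B : Subgroup G)) _ hall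
  have hB'A : ⁅B, B⁆ ≤ A := hB'W.trans (zInter_le_of_abMax hA)
  have hnot : ¬ B ≤ normalizer (A : Set G) := fun hN => hAL fun a ha => by
    exact hSL a (hD.1 (hA.le ha)) (hst B hBn hBp
      (hgen.ge.trans (normalClosure_mono fun z hz => hz.2)) A hA hN ha)
  obtain ⟨A', hA', -, hlt, hBA', -⟩ := exists_abMax_inf_lt hp he S.2 hBS
    (fun g _ => normalizer_eq_top B ▸ mem_top g) hD.1 (le_normalizer_of_isStronglyClosed hD) hA
    hB'A hnot
  have hA'L : A' ≤ L := by
    by_contra h
    have := Core.card_lt_of_lt hlt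
    exact this.not_ge (hmax ⟨hA', h⟩ this.le)
  refine hBA' ?_
  rw [← hgen, normalClosure, closure_le]
  intro x hx
  obtain ⟨z, hz, hzx⟩ := Group.mem_conjugatesOfSet_iff.mp hx
  obtain ⟨g, rfl⟩ := isConj_iff.mp hzx
  obtain ⟨n, hn, l, hl, rfl⟩ : ∃ n ∈ normalizer (T : Set G), ∃ l ∈ L, n * l = g :=
    mem_sup_of_normal_right.mp (hFr ▸ mem_top g)
  have hz' : l * z * l⁻¹ ∈ Z := (mem_normalizer_iff.mp (hLN hl) z).mp hz
  have h := mem_sInf.mp (hz'.2 : l * z * l⁻¹ ∈ W) _ (hconj n⁻¹ (inv_mem hn) A' hA' hA'L)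
  obtain ⟨y, hy, hyx⟩ := h
  change n⁻¹ * y * n⁻¹⁻¹ = _ at hyx
  have e1 : n * l * z * (n * l)⁻¹ = n * (l * z * l⁻¹) * n⁻¹ := by group
  show n * l * z * (n * l)⁻¹ ∈ A'
  rw [e1, ← hyx]
  simpa [mul_assoc] using hy


end Cfsg.Agent.QdFree
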