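import Cfsg.Agent.QdFree.QuadInvol
import Cfsg.Agent.QdFree.ZJInter
import Cfsg.Agent.Fusion.PGroup
import Cfsg.Agent.QdFree.ZJControl

/-!
# Inversion of `p`-elements is seen in the normalizer of Z(J(T))

Glauberman: for odd `p`, if some nontrivial `p`-element is inverted in `G`, one is inverted in the
normalizer of Z(J(T)), `T` a Sylow `p`-subgroup.
-/

set_option autoImplicit false
set_option maxHeartbeats 800000

namespace Cfsg.Agent.QdFree

open Subgroup
open scoped commutatorElement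
open Cfsg.Agent.KInf Cfsg.Agent.Fusion

universe u

/-- Some nontrivial `p`-element of `H` is inverted in `H`. -/
def InvertsIn (p : ℕ) {G : Type*} [Group G] (H : Subgroup G) : Prop :=
  ∃ x ∈ H, IsPGroup p (zpowers x) ∧ x ≠ 1 ∧ ∃ g ∈ H, g * x * g⁻¹ = x⁻¹

variable {p : ℕ} {G : Type*} [Group G]

theorem InvertsIn.mono {H K : Subgroup G} (h : InvertsIn p H) (hle : H ≤ K) : InvertsIn p K :=
  let ⟨x, hx, hxp, hx1, g, hg, e⟩ := h
  ⟨x, hle hx, hxp, hx1, g, hle hg, e⟩

theorem InvertsIn.map {G' : Type*} [Group G'] {f : G →* G'} (hf : Function.Injective f)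
    {H : Subgroup G} (h : InvertsIn p H) : InvertsIn p (H.map f) := by
  obtain ⟨x, hx, hxp, hx1, g, hg, e⟩ := h
  refine ⟨f x, mem_map_of_mem f hx, ?_, fun h => hx1 ((map_eq_one_iff f hf).mp h), f g,
    mem_map_of_mem f hg, by rw [← map_inv, ← map_mul, ← map_mul, e, map_inv]⟩
  rw [← MonoidHom.map_zpowers]
  exact hxp.map f

theorem InvertsIn.top_subtype {H : Subgroup G} (h : InvertsIn p H) :
    InvertsIn p (⊤ : Subgroup H) := by
  obtain ⟨x, hx, hxp, hx1, g, hg, e⟩ := h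
  refine ⟨⟨x, hx⟩, mem_top _, ?_, fun h => hx1 (congrArg Subtype.val h), ⟨g, hg⟩, mem_top _,
    Subtype.ext e⟩
  exact (hxp.comap_subtype (K := H)).to_le
    (zpowers_le.mpr (mem_subgroupOf.mpr (mem_zpowers x)))

theorem pow_conj_inverts {x g : G} (h : g * x * g⁻¹ = x⁻¹) (k : ℕ) :
    g ^ (2 * k + 1) * x * (g ^ (2 * k + 1))⁻¹ = x⁻¹ := by
  induction k with
  | zero => simpa using h
  | succ k ih =>
    rw [show 2 * (k + 1) + 1 = 2 + (2 * k + 1) by ring, pow_add]
    calc _ = g ^ 2 * (g ^ (2 * k + 1) * x * (g ^ (2 * k + 1))⁻¹) * (g ^ 2)⁻¹ := by group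
      _ = g * (g * x * g⁻¹)⁻¹ * g⁻¹ := by rw [ih, pow_two]; group
      _ = x⁻¹ := by rw [h, inv_inv, h]

/-- A `2`-power among the odd powers of an element. -/
theorem exists_odd_pow_two_element [Finite G] (g : G) :
    ∃ k e : ℕ, (g ^ (2 * k + 1)) ^ 2 ^ e = 1 := by
  obtain ⟨e, r, hr, he⟩ := Nat.exists_eq_pow_mul_and_not_dvd (orderOf_pos g).ne' 2 (by decide)
  obtain ⟨k, rfl⟩ : ∃ s, r = 2 * s + 1 := ⟨r / 2, by omega⟩
  exact ⟨k, e, by rw [← pow_mul, mul_comm, ← he, pow_orderOf_eq_one]⟩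

variable [hp : Fact p.Prime]

set_option linter.unusedSectionVars false

theorem eq_one_of_mul_self (h2 : p ≠ 2) {x : G} (hxp : IsPGroup p (zpowers x)) (h : x * x = 1) :
    x = 1 := by
  obtain ⟨k, hk⟩ := hxp ⟨x, mem_zpowers x⟩
  have hk' : x ^ p ^ k = 1 := by simpa using congrArg Subtype.val hk
  obtain ⟨r, hr⟩ : Odd (p ^ k) := (hp.out.odd_of_ne_two h2).pow
  rw [hr, pow_succ, pow_mul, pow_two, h, one_pow, one_mul] at hk'
  exact hk'

/-- A `2`-element acting nontrivially on a `p`-group inverts a nontrivial element of it. -/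
theorem invertsIn_of_two_element {H R : Subgroup G} (hR : IsPGroup p R) (hRH : R ≤ H) :
    ∀ (e : ℕ) (t : G), t ^ 2 ^ e = 1 → t ∈ H → (∀ r ∈ R, t * r * t⁻¹ ∈ R) →
      (∃ r ∈ R, t * r * t⁻¹ ≠ r) → InvertsIn p H := by
  intro e
  induction e with
  | zero =>
    intro t ht _ _ ⟨r, _, hr⟩
    rw [pow_zero, pow_one] at ht
    exact absurd (by rw [ht, one_mul, inv_one, mul_one]) hr
  | succ e ih =>
    intro t ht htH hn ⟨r, hr, hne⟩
    by_cases h2 : ∃ r ∈ R, t ^ 2 * r * (t ^ 2)⁻¹ ≠ r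
    · refine ih (t ^ 2) (by rw [← pow_mul, ← pow_succ']; exact ht) (pow_mem htH _) (fun r hr => ?_) h2
      rw [show t ^ 2 * r * (t ^ 2)⁻¹ = t * (t * r * t⁻¹) * t⁻¹ by rw [pow_two]; group]
      exact hn _ (hn r hr)
    push Not at h2
    have hy : r⁻¹ * (t * r * t⁻¹) ∈ R := mul_mem (inv_mem hr) (hn r hr)
    refine ⟨_, hRH hy, hR.to_le (zpowers_le.mpr hy), fun h => hne (inv_mul_eq_one.mp h).symm, t, htH, ?_⟩
    calc t * (r⁻¹ * (t * r * t⁻¹)) * t⁻¹ = (t * r * t⁻¹)⁻¹ * (t ^ 2 * r * (t ^ 2)⁻¹) := by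
          rw [pow_two]; group
      _ = _ := by rw [h2 r hr]; group

/-- Inversion lifts to the full preimage. -/
theorem InvertsIn.comap [Finite G] (h2 : p ≠ 2) {G' : Type*} [Group G'] {f : G →* G'}
    (hf : Function.Surjective f) {H : Subgroup G'} (h : InvertsIn p H) : InvertsIn p (H.comap f) := by
  obtain ⟨xb, hx, hxp, hx1, gb, hg, e⟩ := h
  obtain ⟨g, rfl⟩ := hf gb
  set K := (zpowers xb).comap f with hK
  set N := normalizer (K : Set G) with hN
  have hgN : g ∈ N := by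
    rw [hN, mem_normalizer_iff]
    intro y
    simp only [hK, mem_comap, map_mul, map_inv]
    constructor
    · rintro ⟨k, hk⟩
      refine ⟨-k, ?_⟩
      rw [← hk]
      calc xb ^ (-k) = (f g * xb * (f g)⁻¹) ^ k := by rw [e, inv_zpow, ← zpow_neg]
        _ = _ := conj_zpow
    · rintro ⟨k, hk⟩
      refine ⟨-k, ?_⟩
      have h3 : f g * xb ^ (-k) * (f g)⁻¹ = f g * f y * (f g)⁻¹ := by
        rw [← conj_zpow, e, inv_zpow, ← zpow_neg, neg_neg]
        exact hk
      simpa using h3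
  set K' := K.subgroupOf N with hK'
  have : K'.Normal := normal_in_normalizer
  obtain ⟨P⟩ : Nonempty (Sylow p K') := inferInstance
  obtain ⟨n₀, hn₀, k₀, hk₀, hnk⟩ := mem_sup_of_normal_right.mp
    (Sylow.normalizer_sup_eq_top P ▸ mem_top (⟨g, hgN⟩ : N))
  set R := (((P : Subgroup K').map K'.subtype).map N.subtype) with hR
  have hRp : IsPGroup p R := (P.2.map _).map _
  have hRK : R ≤ K := by
    rintro _ ⟨_, ⟨y, -, rfl⟩, rfl⟩
    exact y.2
  have hR' : R ≤ H.comap f := hRK.trans (comap_mono (zpowers_le.mpr hx))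
  have hnorm : ∀ r ∈ R, (n₀ : G) * r * (n₀ : G)⁻¹ ∈ R := by
    rintro _ ⟨y, hy, rfl⟩
    exact ⟨n₀ * y * n₀⁻¹, (mem_normalizer_iff.mp hn₀ y).mp hy, rfl⟩
  have hfk : ∃ j : ℤ, f (k₀ : G) = xb ^ j := by
    obtain ⟨j, hj⟩ := mem_comap.mp (mem_subgroupOf.mp hk₀)
    exact ⟨j, hj.symm⟩
  obtain ⟨j, hj⟩ := hfk
  have hgn : g = (n₀ : G) * (k₀ : G) := (congrArg Subtype.val hnk).symm
  have hn₀H : (n₀ : G) ∈ H.comap f := by
    rw [show (n₀ : G) = g * (k₀ : G)⁻¹ by rw [hgn, mul_inv_cancel_right]]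
    refine mul_mem hg (inv_mem ?_)
    rw [mem_comap, hj]
    exact zpow_mem hx j
  have hinv : f n₀ * xb * (f n₀)⁻¹ = xb⁻¹ := by
    rw [hgn, map_mul, hj, show f ↑n₀ * xb ^ j * xb * (f ↑n₀ * xb ^ j)⁻¹ =
      f ↑n₀ * xb * (f ↑n₀)⁻¹ by group] at e
    exact e
  obtain ⟨k, e', hk⟩ := exists_odd_pow_two_element (n₀ : G)
  set t := (n₀ : G) ^ (2 * k + 1)
  have hpow : ∀ (i : ℕ), ∀ r ∈ R, (n₀ : G) ^ i * r * ((n₀ : G) ^ i)⁻¹ ∈ R := by
    intro i
    induction i with
    | zero => intro r hr; simpa using hr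
    | succ i ih =>
      intro r hr
      rw [pow_succ, show (n₀ : G) ^ i * ↑n₀ * r * ((n₀ : G) ^ i * ↑n₀)⁻¹ =
        (n₀ : G) ^ i * (↑n₀ * r * (↑n₀)⁻¹) * ((n₀ : G) ^ i)⁻¹ by group]
      exact ih _ (hnorm r hr)
  -- the Sylow subgroup covers the cyclic `p`-group
  obtain ⟨r, hr, hrx⟩ : ∃ r ∈ R, f r = xb := by
    let φ : K' →* zpowers xb := ((f.comp N.subtype).comp K'.subtype).codRestrict _
      fun y => mem_comap.mp (mem_subgroupOf.mp y.2)
    have hKN : K ≤ N := le_normalizer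
    have hφ : Function.Surjective φ := fun z => by
      obtain ⟨y, hy⟩ := hf z
      exact ⟨⟨⟨y, hKN (show f y ∈ zpowers xb from hy.symm ▸ z.2)⟩, mem_subgroupOf.mpr
        (show f y ∈ zpowers xb from hy.symm ▸ z.2)⟩, Subtype.ext hy⟩
    have htop : (⊤ : Subgroup (zpowers xb)) ≤ (P.mapSurjective hφ : Sylow p (zpowers xb)) :=
      ((P.mapSurjective hφ).3 (hxp.to_subgroup ⊤) le_top).le
    obtain ⟨y, hy, hyx⟩ := htop (mem_top ⟨xb, mem_zpowers xb⟩)
    exact ⟨_, ⟨_, ⟨y, hy, rfl⟩, rfl⟩, congrArg Subtype.val hyx⟩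
  refine invertsIn_of_two_element hRp hR' e' t hk (pow_mem hn₀H _) (hpow _) ⟨r, hr, fun h => ?_⟩
  have := congrArg f h
  rw [map_mul, map_mul, map_inv, map_pow, hrx, pow_conj_inverts hinv] at this
  exact hx1 (eq_one_of_mul_self h2 hxp (inv_eq_iff_mul_eq_one.mp this))

/-- In the image of a normal abelian `p`-subgroup of a `p`-group, a nontrivial central element. -/
theorem exists_central_image {G' : Type*} [Group G'] (f : G →* G') {S Z : Subgroup G}
    (hS : IsPGroup p S) [Finite G'] (hZS : Z ≤ S) (hn : ∀ s ∈ S, ∀ z ∈ Z, s * z * s⁻¹ ∈ Z)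
    (hne : ∃ z ∈ Z, f z ≠ 1) : ∃ a ∈ Z, f a ≠ 1 ∧ ∀ s ∈ S, f ⁅s, a⁆ = 1 := by
  obtain ⟨z, hz, hz1⟩ := hne
  set Zb := (Z.map f).subgroupOf (S.map f) with hZb
  have : Zb.Normal := ⟨fun y hy s => by
    obtain ⟨s₀, hs₀, hse⟩ := s.2
    obtain ⟨z₀, hz₀, hze⟩ := mem_subgroupOf.mp hy
    refine mem_subgroupOf.mpr ⟨s₀ * z₀ * s₀⁻¹, hn s₀ hs₀ z₀ hz₀, ?_⟩
    simp [hse, hze]⟩
  have hne' : Zb ≠ ⊥ := fun h => hz1 (congrArg Subtype.val (mem_bot.mp (h.le
    (show (⟨f z, mem_map_of_mem f (hZS hz)⟩ : ↥(S.map f)) ∈ Zb from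
      mem_subgroupOf.mpr (mem_map_of_mem f hz)))) :)
  obtain ⟨y, ⟨hyZ, hyc⟩, hy1⟩ :=
    (bot_or_exists_ne_one _).resolve_left (pGroup_inf_center_ne_bot (hS.map f) Zb hne')
  obtain ⟨a, ha, hay⟩ := mem_subgroupOf.mp hyZ
  refine ⟨a, ha, fun h => hy1 (Subtype.ext (hay.symm.trans h)), fun s hs => ?_⟩
  rw [map_commutatorElement, commutatorElement_eq_one_iff_mul_comm, hay]
  exact congrArg Subtype.val (mem_center_iff.mp hyc ⟨f s, mem_map_of_mem f hs⟩)

theorem zInter_ne_bot {T : Subgroup G} [Finite G] (hT : IsPGroup p T) (hne : T ≠ ⊥) :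
    zInter 0 T ≠ ⊥ := by
  haveI : Nontrivial T := (nontrivial_iff_ne_bot T).mpr hne
  haveI := hT.center_nontrivial
  obtain ⟨z, hz⟩ := exists_ne (1 : center T)
  intro h
  refine hz (Subtype.ext (Subtype.ext (mem_bot.mp (h.le ?_))))
  refine mem_sInf.mpr fun A hA => mem_of_commute hA (z : T).2 (pow_zero _) fun a ha =>
    congrArg Subtype.val (mem_center_iff.mp z.2 ⟨a, hA.le ha⟩)

theorem zpowers_le_normalizer {x g : G} [Finite G] (e : g * x * g⁻¹ = x⁻¹) :
    g ∈ normalizer (zpowers x : Set G) := by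
  rw [mem_normalizer_iff_map_conj_eq, MonoidHom.map_zpowers]
  show zpowers (g * x * g⁻¹) = _
  rw [e, zpowers_inv]

theorem invertsIn_normalizer_zpowers [Finite G] {x g : G} (hxp : IsPGroup p (zpowers x))
    (hx1 : x ≠ 1) (e : g * x * g⁻¹ = x⁻¹) : InvertsIn p (normalizer (zpowers x : Set G)) :=
  ⟨x, le_normalizer (mem_zpowers x), hxp, hx1, g, zpowers_le_normalizer e, e⟩

/-- Glauberman: for odd `p`, inversion of a nontrivial `p`-element in `G` implies one in
`N(Z(J(T)))`. -/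
theorem invertsIn_normalizer_zInter (h2 : p ≠ 2) : ∀ (n : ℕ) {G : Type u} [Group G] [Finite G],
    Nat.card G ≤ n → InvertsIn p (⊤ : Subgroup G) → ∀ S : Sylow p G,
      InvertsIn p (normalizer (zInter 0 (S : Subgroup G) : Set G)) := by
  intro n
  induction n with
  | zero => intro G _ _ hG; exact absurd hG (not_le.mpr Nat.card_pos)
  | succ n IH =>
  intro G _ _ hG hinv S
  by_contra hgood
  -- no proper overgroup of a Sylow subgroup has inversion
  have sub : ∀ H : Subgroup G, H ≠ ⊤ → InvertsIn p H → ∀ T₁ : Subgroup G, IsPGroup p T₁ → T₁ ≤ H →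
      (∀ T₂ : Subgroup G, IsPGroup p T₂ → T₁ ≤ T₂ → T₂ ≤ H → T₂ = T₁) →
      InvertsIn p (normalizer (zInter 0 T₁ : Set G)) := by
    intro H hH hb T₁ hT₁ hT₁H hmax
    have hlt : Nat.card H < Nat.card G := by
      rw [← card_top (G := G)]; exact Core.card_lt_of_lt hH.lt_top
    obtain ⟨P, hP⟩ := (hT₁.comap_subtype (K := H)).exists_le_sylow
    have hPT : (P : Subgroup H).map H.subtype = T₁ :=
      hmax _ (P.2.map _) (fun x hx => ⟨⟨x, hT₁H hx⟩, hP hx, rfl⟩) (map_subtype_le _)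
    have := (IH (by omega) hb.top_subtype P).map H.subtype_injective
    refine this.mono ((le_normalizer_map H.subtype).trans (le_of_eq ?_))
    rw [zInter_map H.subtype_injective, hPT]
  have conjS : ∀ T₁ : Sylow p G, ¬ InvertsIn p (normalizer (zInter 0 (T₁ : Subgroup G) : Set G)) := by
    intro T₁ h
    obtain ⟨g, rfl⟩ := MulAction.exists_smul_eq G S T₁
    refine hgood ((h.map (f := (MulAut.conj g⁻¹).toMonoidHom) (MulAut.conj g⁻¹).injective).mono
      ((le_normalizer_map _).trans (le_of_eq ?_)))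
    rw [zInter_map (f := (MulAut.conj g⁻¹).toMonoidHom) (MulAut.conj g⁻¹).injective]
    have e : ((g • S : Sylow p G) : Subgroup G).map (MulAut.conj g⁻¹).toMonoidHom = (S : Subgroup G) := by
      ext x
      simp only [Sylow.coe_subgroup_smul, Subgroup.mem_pointwise_smul_iff_inv_smul_mem, Subgroup.mem_map,
        MulAut.smul_def, MulEquiv.coe_toMonoidHom, MulAut.conj_apply]
      constructor
      · rintro ⟨y, hy, rfl⟩; simpa [mul_assoc] using hy
      · exact fun hx => ⟨g * x * g⁻¹, by simpa [mul_assoc] using hx, by group⟩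
    rw [e]
  -- a proper subgroup with inversion gives a normal Z(J(T₁))
  have climb : ∀ H : Subgroup G, H ≠ ⊤ → InvertsIn p H → ∀ A : Subgroup G, IsPGroup p A → A ≤ H →
      ∃ T₁ : Subgroup G, IsPGroup p T₁ ∧ A ≤ T₁ ∧ T₁ ≠ ⊥ ∧ (zInter 0 T₁).Normal ∧
        ∀ T : Sylow p G, (T : Subgroup G) ≠ T₁ := by
    intro H hH hb A hA hAH
    obtain ⟨T₁, ⟨hT₁, hAT, H', hH', hb', hle⟩, hmax⟩ := (Set.toFinite {T : Subgroup G |
        IsPGroup p T ∧ A ≤ T ∧ ∃ H', H' ≠ ⊤ ∧ InvertsIn p H' ∧ T ≤ H'}).exists_maximalFor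
      (fun T : Subgroup G => Nat.card T) _ ⟨A, hA, le_rfl, H, hH, hb, hAH⟩
    have hmax' : ∀ T₂ : Subgroup G, IsPGroup p T₂ → T₁ ≤ T₂ →
        (∃ H', H' ≠ ⊤ ∧ InvertsIn p H' ∧ T₂ ≤ H') → T₂ = T₁ := fun T₂ h1 h3 h4 =>
      (eq_of_le_of_card_ge h3 (hmax ⟨h1, hAT.trans h3, h4⟩ (card_le_of_le h3))).symm
    have hK := sub H' hH' hb' T₁ hT₁ hle fun T₂ h1 h3 h4 => hmax' T₂ h1 h3 ⟨H', hH', hb', h4⟩
    have hnot : ∀ T : Sylow p G, (T : Subgroup G) ≠ T₁ := fun T h => conjS T (h ▸ hK)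
    have hne : T₁ ≠ ⊥ := by
      rintro rfl
      obtain ⟨x, hx, hxp, hx1, -⟩ := id hb'
      exact hx1 (zpowers_eq_bot.mp (hmax' _ hxp bot_le ⟨H', hH', hb', zpowers_le.mpr hx⟩))
    refine ⟨T₁, hT₁, hAT, hne, ?_, hnot⟩
    by_contra hn
    obtain ⟨T, hT⟩ := hT₁.exists_le_sylow
    have hlt : T₁ < (T : Subgroup G) := lt_of_le_of_ne hT (hnot T).symm
    have : Group.IsNilpotent T := T.2.isNilpotent
    have hgrow := Group.normalizerCondition_of_isNilpotent (G := T) (T₁.subgroupOf T) (lt_top_iff_ne_top.mpr fun h =>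
      hlt.not_ge (subgroupOf_eq_top.mp h))
    obtain ⟨y, hy, hy'⟩ := SetLike.exists_of_lt hgrow
    have hyn : (y : G) ∈ normalizer (T₁ : Set G) := by
      rw [mem_normalizer_iff]
      intro z
      constructor
      · intro hz
        exact (mem_normalizer_iff.mp hy ⟨z, hT hz⟩).mp hz
      · intro hz
        have hzT : z ∈ (T : Subgroup G) := by
          have := mul_mem (mul_mem (inv_mem y.2) (hT hz)) y.2
          simpa [mul_assoc] using this
        exact (mem_normalizer_iff.mp hy ⟨z, hzT⟩).mpr hz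
    refine hy' (mem_subgroupOf.mpr ?_)
    rw [← hmax' (T₁ ⊔ zpowers (y : G)) (T.2.to_le (sup_le hT (zpowers_le.mpr y.2))) le_sup_left
      ⟨_, fun h => hn (normalizer_eq_top_iff.mp h), hK, sup_le
        (le_normalizer.trans fun g hg => mem_normalizer_zInter hg)
        (zpowers_le.mpr (mem_normalizer_zInter hyn))⟩]
    exact mem_sup_right (mem_zpowers _)
  have hover : ∀ H : Subgroup G, H ≠ ⊤ → (S : Subgroup G) ≤ H → ¬ InvertsIn p H := by
    intro H hH hSH hb
    obtain ⟨T₁, hT₁, hST, -, -, hnot⟩ := climb H hH hb S S.2 hSH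
    exact hnot S (S.3 hT₁ hST).symm
  set Z := zInter 0 (S : Subgroup G) with hZdef
  set Q := Cfsg.pCore p G with hQ
  have hQp : IsPGroup p Q := Core.pCore_isPGroup
  have hQS : Q ≤ (S : Subgroup G) := Core.pCore_le_sylow S
  have hSZ : (S : Subgroup G) ≤ normalizer (Z : Set G) :=
    le_normalizer.trans fun g hg => mem_normalizer_zInter hg
  have hZn : normalizer (Z : Set G) ≠ ⊤ := fun h => hgood (by rw [h]; exact hinv)
  have hSn : normalizer ((S : Subgroup G) : Set G) ≠ ⊤ := fun h => hZn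
    (top_le_iff.mp (h ▸ fun g hg => mem_normalizer_zInter hg))
  obtain ⟨x₀, -, hx₀p, hx₀1, g₀, -, he₀⟩ := hinv
  -- the `p`-core is nontrivial
  have hQne : Q ≠ ⊥ := by
    intro hbot
    by_cases hN : normalizer (zpowers x₀ : Set G) = ⊤
    · have := normalizer_eq_top_iff.mp hN
      exact hx₀1 (zpowers_eq_bot.mp (eq_bot_iff.mpr (hbot ▸ Core.le_pCore hx₀p)))
    · obtain ⟨T₁, hT₁, -, hne, hn, -⟩ := climb _ hN (invertsIn_normalizer_zpowers hx₀p hx₀1 he₀)
        (zpowers x₀) hx₀p le_normalizer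
      exact zInter_ne_bot hT₁ hne (eq_bot_iff.mpr (hbot ▸ Core.le_pCore (hT₁.to_le (zInter_le 0 T₁))))
  have hinv' : InvertsIn p (⊤ : Subgroup G) := ⟨x₀, mem_top _, hx₀p, hx₀1, g₀, mem_top _, he₀⟩
  -- stability
  have stab : ∀ (U V : Subgroup G), Cfsg.IsChiefFactor U V → IsPGroup p U → ∀ a : G,
      IsPGroup p (zpowers a) → Cfsg.iterCommutator U (zpowers a) 2 ≤ V → ¬ TrivOn a U V →
      ∀ A : Subgroup G, (∀ y ∈ A, TrivOn ⁅y, a⁆ U V) → ∃ H : Subgroup G, H ≠ ⊤ ∧ InvertsIn p H ∧ A ≤ H := by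
    intro U V hUV hUp a hap hit hnt A hA
    obtain ⟨M, hMn, hMiff, hUM, haM, hMcore, t, ⟨et, ht⟩, hta, w, hw, htw⟩ :=
      exists_two_element_of_chief h2 hUV hUp hit hnt
    obtain ⟨-, hUn, -, -⟩ := id hUV
    haveI := hMn
    set H := (centralizer {QuotientGroup.mk' M a}).comap (QuotientGroup.mk' M) with hHdef
    have hmem : ∀ y, y ∈ H ↔ ⁅y, a⁆ ∈ M := fun y => by
      rw [hHdef, mem_comap, mem_centralizer_singleton_iff, ← commutatorElement_eq_one_iff_mul_comm,
        ← map_commutatorElement, QuotientGroup.mk'_apply, QuotientGroup.eq_one_iff]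
    refine ⟨H, fun htop => ?_, ?_, fun y hy => (hmem y).mpr ((hMiff _).mpr (hA y hy))⟩
    · have hDn : ((zpowers (QuotientGroup.mk' M a)).comap (QuotientGroup.mk' M)).Normal := by
        refine Normal.comap ⟨fun n hn g => ?_⟩ _
        obtain ⟨k, rfl⟩ := hn
        obtain ⟨g, rfl⟩ := QuotientGroup.mk'_surjective M g
        have : Commute (QuotientGroup.mk' M g) (QuotientGroup.mk' M a) := by
          rw [← commutatorElement_eq_one_iff_commute, ← map_commutatorElement]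
          exact (QuotientGroup.eq_one_iff _).mpr ((hmem g).mp (htop ▸ mem_top g))
        exact ⟨k, by beta_reduce; rw [(this.zpow_right k).eq, mul_inv_cancel_right]⟩
      refine haM (hMcore _ hDn ?_ (show QuotientGroup.mk' M a ∈ zpowers _ from mem_zpowers _))
      intro d hd
      obtain ⟨j, hj⟩ := mem_comap.mp hd
      obtain ⟨k, hk⟩ := hap ⟨a ^ j, zpow_mem (mem_zpowers a) j⟩
      refine ⟨k, (QuotientGroup.eq_one_iff _).mp ?_⟩
      show QuotientGroup.mk' M (d ^ p ^ k) = 1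
      beta_reduce at hj
      rw [map_pow, ← hj, ← map_zpow, ← map_pow]
      refine (QuotientGroup.eq_one_iff _).mpr ?_
      rw [show (a ^ j) ^ p ^ k = 1 by simpa using congrArg Subtype.val hk]
      exact one_mem M
    · refine invertsIn_of_two_element (R := U) hUp ?_ et t ht ((hmem t).mpr hta)
        (fun r hr => hUn.conj_mem r hr t) ⟨w, hw, fun h => htw ?_⟩
      · intro y hy
        refine (hmem y).mpr ?_
        rw [show ⁅y, a⁆ = y * (a * y⁻¹ * a⁻¹) by rw [commutatorElement_def]; group]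
        exact mul_mem (hUM hy) (hMn.conj_mem _ (inv_mem (hUM hy)) a)
      · rw [commutatorElement_eq_one_iff_mul_comm]
        exact mul_inv_eq_iff_eq_mul.mp h
  have hpel : ∀ a ∈ (S : Subgroup G), IsPGroup p (zpowers a) := fun a ha => S.2.to_le (zpowers_le.mpr ha)
  -- Z(J(S)) lies in the `p`-core
  have hZQ : Z ≤ Q := by
    set C := centralizer (Q : Set G)
    haveI : C.Normal := ZJControl.centralizer_normal Q
    set L := normalCore ((S : Subgroup G) ⊔ C) with hL
    have hCL : C ≤ L := normal_le_normalCore.mpr le_sup_right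
    have hZL : Z ≤ L := by
      intro z hz
      by_contra hzL
      have hquad : ∀ a ∈ Z, ⁅⁅Q, zpowers a⁆, zpowers a⁆ = ⊥ := fun a ha => le_bot_iff.mp <|
        calc ⁅⁅Q, zpowers a⁆, zpowers a⁆ ≤ ⁅⁅Q, Z⁆, Z⁆ :=
              commutator_mono (commutator_mono le_rfl (zpowers_le.mpr ha)) (zpowers_le.mpr ha)
          _ ≤ ⁅Z, Z⁆ := commutator_mono
              (le_normalizer_iff_commutator_le_right.mp (hQS.trans hSZ)) le_rfl
          _ = ⊥ := commutator_eq_bot_iff_le_centralizer.mpr fun y hy =>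
              mem_centralizer_iff.mpr fun w hw =>
                (commute_of_isMulCommutative (zInter_comm 0 _) hw hy).eq
      have hiter : ∀ a ∈ Z, ∀ {U V : Subgroup G}, U ≤ Q → Cfsg.iterCommutator U (zpowers a) 2 ≤ V :=
        fun a ha _ _ hU => (iter_mono hU _ 2).trans ((hquad a ha).le.trans bot_le)
      obtain ⟨U, V, hUV, hU, hnt⟩ := exists_chief_of_not_mem (C := C) (g := z) hQp rfl
        (fun h => hzL (mem_normalCore_of_mk_mem_pCore h S))
      obtain ⟨M, hMn, hMiff, -, hzM, -⟩ :=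
        exists_two_element_of_chief h2 hUV (hQp.to_le hU) (hiter z hz hU) hnt
      haveI := hMn
      obtain ⟨a, ha, ha1, hac⟩ := exists_central_image (QuotientGroup.mk' M) S.2 (zInter_le 0 _)
        (fun s hs y hy => (mem_normalizer_iff.mp (hSZ hs) y).mp hy)
        ⟨z, hz, fun h => hzM ((QuotientGroup.eq_one_iff z).mp h)⟩
      obtain ⟨H, hH, hb, hSH⟩ := stab U V hUV (hQp.to_le hU) a (hpel a (zInter_le 0 _ ha)) (hiter a ha hU)
        (fun h => ha1 ((QuotientGroup.eq_one_iff a).mpr ((hMiff a).mpr h))) S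
        (fun s hs => (hMiff _).mp ((QuotientGroup.eq_one_iff _).mp (hac s hs)))
      exact hover H hH hSH hb
    set P := (S : Subgroup G) ⊓ L with hP
    by_cases hPn : normalizer (P : Set G) = ⊤
    · haveI := normalizer_eq_top_iff.mp hPn
      exact (le_inf (zInter_le 0 _) hZL).trans (Core.le_pCore (S.2.to_le inf_le_left))
    exfalso
    have hFr : normalizer (P : Set G) ⊔ L = ⊤ := by
      obtain ⟨P₁, hP₁⟩ := ((S.2.to_inf_left (K := L)).comap_subtype (K := L)).exists_le_sylow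
      have hPp : IsPGroup p ((P₁ : Subgroup L).map L.subtype) := P₁.2.map _
      obtain ⟨R, hR⟩ := hPp.exists_le_sylow
      obtain ⟨g, hg⟩ := MulAction.exists_smul_eq G R S
      have hTle : P ≤ (P₁ : Subgroup L).map L.subtype := fun x hx => ⟨⟨x, hx.2⟩, hP₁ hx, rfl⟩
      have hle : ((P₁ : Subgroup L).map L.subtype).map (MulAut.conj g).toMonoidHom ≤ P := by
        rintro _ ⟨y, hy, rfl⟩
        refine ⟨?_, (normalCore_normal _).conj_mem y (map_subtype_le _ hy) g⟩
        rw [← hg]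
        exact ⟨y, hR hy, rfl⟩
      have hT' : (P₁ : Subgroup L).map L.subtype = P :=
        (eq_of_le_of_card_ge hTle ((card_map_of_injective (MulAut.conj g).injective).ge.trans
          (card_le_of_le hle))).symm
      rw [← hT']
      exact Sylow.normalizer_sup_eq_top P₁
    have hSP : (S : Subgroup G) ≤ normalizer (P : Set G) :=
      fun s hs => by
        rw [mem_normalizer_iff]
        intro y
        show y ∈ (S : Subgroup G) ∧ y ∈ L ↔ s * y * s⁻¹ ∈ (S : Subgroup G) ∧ s * y * s⁻¹ ∈ L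
        exact and_congr (mem_normalizer_iff.mp (le_normalizer hs) y)
          (mem_normalizer_iff.mp (normalizer_eq_top L ▸ mem_top s) y)
    have hcov : ∀ g : G, ∃ n ∈ normalizer (P : Set G), n⁻¹ * g ∈ C := by
      intro g
      obtain ⟨n, hn, l, hl, rfl⟩ := mem_sup_of_normal_right.mp (hFr ▸ mem_top g)
      obtain ⟨s, hs, c, hc, rfl⟩ := mem_sup_of_normal_right.mp (normalCore_le _ hl)
      exact ⟨n * s, mul_mem hn (hSP hs), by simpa [mul_assoc] using hc⟩
    have htwo : ∀ (e : ℕ) (g : G), g ^ 2 ^ e = 1 → g ∈ C := by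
      intro e g hge
      by_contra hgC
      obtain ⟨n, hn, hnC⟩ := hcov g
      obtain ⟨k, e', hk⟩ := exists_odd_pow_two_element n
      set t := n ^ (2 * k + 1)
      have hmk : QuotientGroup.mk' C t = QuotientGroup.mk' C g ^ (2 * k + 1) := by
        rw [map_pow]; congr 1; exact QuotientGroup.eq.mpr hnC
      have htC : t ∉ C := by
        intro h
        refine hgC ?_
        obtain ⟨m, hm⟩ : ∃ m, (g ^ (2 * k + 1)) ^ m = g := by
          refine exists_pow_eq_self_of_coprime (Nat.Coprime.coprime_dvd_right (orderOf_dvd_of_pow_eq_one hge) ?_)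
          exact Nat.Coprime.pow_right _ (Nat.coprime_two_right.mpr ⟨k, rfl⟩)
        rw [← hm]
        refine pow_mem ((QuotientGroup.eq_one_iff _).mp ?_) m
        show QuotientGroup.mk' C (g ^ (2 * k + 1)) = 1
        rw [map_pow, ← hmk]
        exact (QuotientGroup.eq_one_iff _).mpr h
      refine hover _ hPn hSP (invertsIn_of_two_element hQp (hQS.trans hSP) e' t hk (pow_mem hn _)
        (fun r hr => (inferInstance : Q.Normal).conj_mem r hr t) ?_)
      by_contra hall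
      push Not at hall
      exact htC (mem_centralizer_iff.mpr fun r hr => (mul_inv_eq_iff_eq_mul.mp (hall r hr)).symm)
    set f := QuotientGroup.mk' Q
    obtain ⟨k, e, hk⟩ := exists_odd_pow_two_element g₀
    have hxQ : x₀ ∉ Q := by
      intro hx
      have h := pow_conj_inverts he₀ k
      rw [← mem_centralizer_iff.mp (htwo e _ hk) x₀ hx, mul_inv_cancel_right] at h
      exact hx₀1 (eq_one_of_mul_self h2 hx₀p (eq_inv_iff_mul_eq_one.mp h))
    have hinvQ : InvertsIn p (⊤ : Subgroup (G ⧸ Q)) := by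
      refine ⟨f x₀, mem_top _, ?_, fun h => hxQ ((QuotientGroup.eq_one_iff _).mp h), f g₀, mem_top _,
        by rw [← map_inv, ← map_mul, ← map_mul, he₀, map_inv]⟩
      rw [← MonoidHom.map_zpowers]
      exact hx₀p.map f
    have hlt : Nat.card (G ⧸ Q) < Nat.card G := by
      have h1 := Q.card_mul_index
      have h3 : 1 < Nat.card Q := Q.one_lt_card_iff_ne_bot.mpr hQne
      have h4 : 0 < Q.index := Nat.pos_of_ne_zero index_ne_zero_of_finite
      rw [← index_eq_card]; nlinarith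
    set Sb := S.mapSurjective (QuotientGroup.mk'_surjective Q)
    have hb := (IH (by omega) hinvQ Sb).comap h2 (f := f) (QuotientGroup.mk'_surjective Q)
    have hle : (S : Subgroup G) ≤ (normalizer (zInter 0 (Sb : Subgroup (G ⧸ Q)) : Set (G ⧸ Q))).comap f :=
      fun s hs => mem_comap.mpr (mem_normalizer_zInter (le_normalizer
        (show f s ∈ (Sb : Subgroup (G ⧸ Q)) from mem_map_of_mem f hs)))
    have htop : normalizer (zInter 0 (Sb : Subgroup (G ⧸ Q)) : Set (G ⧸ Q)) = ⊤ := by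
      by_contra h
      exact hover _ (fun h' => h (comap_injective (QuotientGroup.mk'_surjective Q)
        (h'.trans (comap_top f).symm))) hle hb
    haveI := normalizer_eq_top_iff.mp htop
    have hbot : zInter 0 (Sb : Subgroup (G ⧸ Q)) = ⊥ := eq_bot_iff.mpr
      ((Core.le_pCore (Sb.2.to_le (zInter_le 0 _))).trans Core.pCore_quotient_eq_bot.le)
    have hSb : (Sb : Subgroup (G ⧸ Q)) = ⊥ := by
      by_contra h
      exact zInter_ne_bot Sb.2 h hbot
    have hSQ : (S : Subgroup G) ≤ Q := fun s hs => (QuotientGroup.eq_one_iff s).mp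
      (mem_bot.mp (hSb.le (mem_map_of_mem f hs)))
    exact hSn (normalizer_eq_top_iff.mpr ((le_antisymm hQS hSQ) ▸ (inferInstance : Q.Normal)))
  -- the ZJ argument
  have habs : ∀ C : Subgroup G, IsPGroup p C → ∃ g : G, C.map (MulAut.conj g).toMonoidHom ≤ S := by
    intro C hC
    obtain ⟨T, hT⟩ := hC.exists_le_sylow
    obtain ⟨g, hg⟩ := MulAction.exists_smul_eq G T S
    refine ⟨g, ?_⟩
    rintro _ ⟨y, hy, rfl⟩
    rw [← hg]
    exact ⟨y, hT hy, rfl⟩
  refine hZn (normalizer_eq_top_iff.mpr ?_)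
  have hfin := normal_inf_zInter_of (e := 0) h2 (Or.inl rfl) ?_ (isStronglyClosed_self S) Q
    inferInstance hQp
  · rwa [inf_of_le_right hZQ] at hfin
  intro B hBn hBp hBZ A hA hBA a ha
  haveI := hBn
  haveI : (centralizer (B : Set G)).Normal := ZJControl.centralizer_normal B
  by_contra haL
  obtain ⟨U, V, hUV, hU, hnt⟩ := exists_chief_of_not_mem (C := centralizer (B : Set G)) (g := a) hBp rfl
    (fun h => haL (mem_normalCore_of_mk_mem_pCore h S))
  have hAS : A ≤ (S : Subgroup G) := hA.le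
  have hq : ⁅⁅B, zpowers a⁆, zpowers a⁆ = ⊥ := le_bot_iff.mp <|
    calc ⁅⁅B, zpowers a⁆, zpowers a⁆ ≤ ⁅⁅B, A⁆, A⁆ :=
          commutator_mono (commutator_mono le_rfl (zpowers_le.mpr ha)) (zpowers_le.mpr ha)
      _ ≤ ⁅A, A⁆ := commutator_mono (le_normalizer_iff_commutator_le_right.mp hBA) le_rfl
      _ = ⊥ := commutator_eq_bot_iff_le_centralizer.mpr fun x hx =>
          mem_centralizer_iff.mpr fun y hy => (commute_of_isMulCommutative hA.comm hy hx).eq
  obtain ⟨H, hH, hb, hAH⟩ := stab U V hUV (hBp.to_le hU) a (hpel a (hAS ha))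
    ((iter_mono hU _ 2).trans (hq.le.trans bot_le)) hnt A fun y hy u _ => by
      rw [commutatorElement_eq_one_iff_commute.mpr (commute_of_isMulCommutative hA.comm hy ha),
        commutatorElement_one_left]
      exact one_mem _
  obtain ⟨T₁, hT₁, hAT, -, hn, -⟩ := climb H hH hb A (S.2.to_le hAS) hAH
  haveI := hn
  obtain ⟨g, hg⟩ := habs T₁ hT₁
  set c := (MulAut.conj g).toMonoidHom
  have hbound : ∀ C : Subgroup G, C ≤ T₁ → AbMem 0 C C → Nat.card C ≤ Nat.card A := by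
    intro C hC hCm
    rw [← card_map_of_injective (f := c) (MulAut.conj g).injective]
    exact hA.max _ ⟨(map_mono hC).trans hg, (hCm.map c).comm, (hCm.map c).exp⟩
  have hAmax : AbMax 0 T₁ A :=
    ⟨⟨hAT, hA.comm, hA.exp⟩, fun C hC => hbound C hC.le ⟨le_rfl, hC.comm, hC.exp⟩⟩
  have hZT : Z ≤ zInter 0 T₁ := by
    have e1 : zInter 0 (T₁.map c) = zInter 0 T₁ := by
      rw [← zInter_map (MulAut.conj g).injective]
      refine mem_normalizer_iff_map_conj_eq.mp ?_
      rw [normalizer_eq_top]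
      exact mem_top g
    rw [← e1]
    intro x hx
    refine mem_sInf.mpr fun A₂ hA₂ => ?_
    refine mem_sInf.mp (hx : x ∈ zInter 0 (S : Subgroup G)) A₂ ⟨⟨hA₂.le.trans hg, hA₂.comm, hA₂.exp⟩,
      fun C hC => (hA.max C hC).trans ?_⟩
    rw [← card_map_of_injective (f := c) (MulAut.conj g).injective]
    exact hA₂.max _ (hAmax.toAbMem.map c)
  have hBle : B ≤ A := hBZ.trans ((normalClosure_le_normal hZT).trans (zInter_le_of_abMax hAmax))
  exact haL (normal_le_normalCore.mpr le_sup_right (mem_centralizer_iff.mpr fun b hb =>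
    (commute_of_isMulCommutative hA.comm (hBle hb) ha).eq))

end Cfsg.Agent.QdFree
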