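import Cfsg.Agent.RootSub.Dickson.Main

/-!
# SL₂(3) inside the group generated by two transvections in characteristic three
-/

namespace Cfsg.Agent.QdFree

open Subgroup Matrix
open Cfsg.Agent.RootSub.Dickson
open scoped MatrixGroups

universe u

variable {F : Type u} [Field F]

theorem algebraMap_cases [CharP F 3] (f : ZMod 3 →+* F) (t : ZMod 3) :
    f t = 0 ∨ f t = 1 ∨ f t = -1 := by
  have h : t = 0 ∨ t = 1 ∨ t = -1 := by revert t; decide
  rcases h with rfl | rfl | rfl <;> simp

/-- Either everything is generated, or the parameter is a root of `X⁸ - 1`. -/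
theorem dicksonGroup_three [Finite F] [CharP F 3] [Algebra (ZMod 3) F] {lam : F} (hlam : lam ≠ 0)
    (hgen : Algebra.adjoin (ZMod 3) ({lam} : Set F) = ⊤) :
    dicksonGroup (ZMod 3) lam = ⊤ ∨ lam ^ 8 = 1 := by
  have h3 : (3 : F) = 0 := by exact_mod_cast CharP.cast_eq_zero F 3
  have h2 : (2 : F) ≠ 0 := fun h => one_ne_zero (α := F) (by linear_combination h3 - h)
  set P := dicksonGroup (ZMod 3) lam with hP
  by_cases hs : 5 ≤ Nat.card (transGroup P)
  · exact Or.inl (dicksonGroup_eq_top_of_five h2 hlam hs hgen)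
  right
  by_contra h8
  set f := algebraMap (ZMod 3) F
  have hup : ∀ t : ZMod 3, upR (f t) ∈ P := fun t => upR_mem (ZMod 3) lam t
  have hlow : ∀ t : ZMod 3, lowR (f t * lam) ∈ P := fun t => lowR_mem (ZMod 3) lam t
  have hs3 : 3 ≤ Nat.card (transGroup P) := by
    rw [← Nat.card_zmod 3]
    exact Nat.card_le_card_of_injective (fun t => (⟨_, hup t⟩ : transGroup P))
      fun a b h => f.injective (congrArg Subtype.val h)
  set Z := orbitPts P
  have hpt : ∀ b : F, lowR b ∈ P → b ≠ 0 → b⁻¹ ∈ Z := fun b hb hb0 =>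
    ⟨lowR b, hb, by simpa [coe_lowR] using hb0, by simp [coe_lowR]⟩
  have hZ1 : lam⁻¹ ∈ Z := hpt _ (by simpa using hlow 1) hlam
  have hZ2 : -lam⁻¹ ∈ Z := by
    rw [← inv_neg]
    exact hpt _ (by simpa using hlow (-1)) (by simpa using hlam)
  have hZ9 : Z.ncard ≤ 9 := by
    rcases card_translations_cases h2 P (transGroup P) (fun _ => Iff.rfl) hs3 ⟨_, hZ1⟩ with h | h
    · show (orbitPts P).ncard ≤ 9
      omega
    · exact h.2
  let X : Set F := insert 0 ((·⁻¹) '' Z)
  have hX : X.ncard ≤ 10 := (Set.ncard_insert_le _ _).trans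
    (by have := Set.ncard_image_le (f := (·⁻¹)) (s := Z) (Set.toFinite _); omega)
  have hinv : ∀ z ∈ Z, z⁻¹ ∈ X := fun z hz => Or.inr ⟨z, hz, rfl⟩
  have hshift : ∀ x ∈ X, x + lam ∈ X := by
    rintro x (rfl | ⟨z, ⟨g, hg, hg0, rfl⟩, rfl⟩)
    · rw [zero_add, ← inv_inv lam]; exact hinv _ hZ1
    show (g 0 0 / g 1 0)⁻¹ + lam ∈ X
    by_cases ha : g 0 0 = 0
    · rw [ha, zero_div, _root_.inv_zero, zero_add, ← inv_inv lam]; exact hinv _ hZ1
    by_cases hc : g 1 0 + lam * g 0 0 = 0
    · left
      rw [inv_div, div_add' _ _ _ ha, hc, zero_div]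
    · have he : (g 0 0 / g 1 0)⁻¹ + lam = (g 0 0 / (g 1 0 + lam * g 0 0))⁻¹ := by
        rw [inv_div, inv_div, div_add' _ _ _ ha]
      rw [he]
      refine hinv _ ⟨lowR lam * g, mul_mem (by simpa using hlow 1) hg, ?_, ?_⟩
      · simpa [coe_lowR, Matrix.mul_apply, Fin.sum_univ_two, add_comm] using hc
      · simp [coe_lowR, Matrix.mul_apply, Fin.sum_univ_two, add_comm]
  have hmul : ∀ x ∈ X, ∀ t : ZMod 3, x + f t * lam ∈ X := by
    intro x hx t
    obtain ⟨n, rfl⟩ : ∃ n : ℕ, (n : ZMod 3) = t := ⟨t.val, ZMod.natCast_zmod_val t⟩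
    induction n with
    | zero => simpa using hx
    | succ n ih =>
      have := hshift _ ih
      rwa [Nat.cast_succ, map_add, map_one, add_mul, one_mul, ← add_assoc]
  have hne1 : 1 + lam ≠ 0 := fun h => h8 (by
    rw [eq_neg_of_add_eq_zero_right h]; norm_num)
  have hne2 : 1 - lam ≠ 0 := fun h => h8 (by rw [← sub_eq_zero.mp h]; norm_num)
  set x0 : F := lam / (1 + lam) with hx0
  set x1 : F := lam / (1 - lam) with hx1
  have hx0X : x0 ∈ X := by
    have := hinv _ (translate_mem_orbitPts (r := f 1) (hup 1) hZ1)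
    convert this using 1
    rw [hx0, map_one]
    field_simp
  have hx0X' : -x0 ∈ X := by
    have := hinv _ (translate_mem_orbitPts (r := f (-1)) (hup (-1)) hZ2)
    convert this using 1
    rw [hx0, map_neg, map_one, ← neg_add, inv_neg]
    field_simp
  have hx1X : x1 ∈ X := by
    have := hinv _ (translate_mem_orbitPts (r := f (-1)) (hup (-1)) hZ1)
    convert this using 1
    rw [hx1, map_neg, map_one, ← sub_eq_add_neg]
    field_simp
  have a0 : ∀ t, x0 ≠ f t * lam := by
    intro t ht
    rw [hx0, div_eq_iff hne1] at ht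
    rcases algebraMap_cases f t with e | e | e <;> rw [e] at ht
    · exact hlam (by linear_combination ht)
    · exact hlam (mul_self_eq_zero.mp (by linear_combination -ht))
    · have : lam * (lam - 1) = 0 := by linear_combination ht - lam * h3
      rcases mul_eq_zero.mp this with h | h
      · exact hlam h
      · exact h8 (by rw [sub_eq_zero.mp h, one_pow])
  have a1 : ∀ t, x1 ≠ f t * lam := by
    intro t ht
    rw [hx1, div_eq_iff hne2] at ht
    rcases algebraMap_cases f t with e | e | e <;> rw [e] at ht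
    · exact hlam (by linear_combination ht)
    · exact hlam (mul_self_eq_zero.mp (by linear_combination ht))
    · have : lam * (lam + 1) = 0 := by linear_combination -ht + lam * h3
      rcases mul_eq_zero.mp this with h | h
      · exact hlam h
      · exact h8 (by rw [eq_neg_of_add_eq_zero_left h]; norm_num)
  have a2 : ∀ t, x0 - x1 ≠ f t * lam := by
    intro t ht
    rw [hx0, hx1, div_sub_div _ _ hne1 hne2, div_eq_iff (mul_ne_zero hne1 hne2)] at ht
    have h4 : lam ^ 4 = -1 → False := fun h => h8 (by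
      rw [pow_mul lam 4 2, h]; norm_num)
    rcases algebraMap_cases f t with e | e | e <;> rw [e] at ht
    · exact hlam (mul_self_eq_zero.mp (by linear_combination ht + lam * lam * h3))
    · have : lam * (lam ^ 2 + lam - 1) = 0 := by linear_combination ht + lam ^ 2 * h3
      rcases mul_eq_zero.mp this with h | h
      · exact hlam h
      · exact h4 (by linear_combination (lam ^ 2 - lam - 1) * h + lam ^ 2 * h3)
    · have : lam * (lam ^ 2 - lam - 1) = 0 := by linear_combination -ht - lam ^ 2 * h3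
      rcases mul_eq_zero.mp this with h | h
      · exact hlam h
      · exact h4 (by linear_combination (lam ^ 2 + lam - 1) * h + lam ^ 2 * h3)
  have a3 : ∀ t, x0 + x1 ≠ f t * lam := by
    intro t ht
    rw [hx0, hx1, div_add_div _ _ hne1 hne2, div_eq_iff (mul_ne_zero hne1 hne2)] at ht
    rcases algebraMap_cases f t with e | e | e <;> rw [e] at ht
    · exact hlam (by linear_combination -ht + lam * h3)
    · have : lam * (lam ^ 2 + 1) = 0 := by linear_combination ht
      rcases mul_eq_zero.mp this with h | h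
      · exact hlam h
      · exact h8 (by linear_combination (lam ^ 6 - lam ^ 4 + lam ^ 2 - 1) * h)
    · have : lam * (lam ^ 2) = 0 := by linear_combination -ht + lam * h3
      exact hlam (pow_eq_zero_iff (n := 3) (by norm_num) |>.mp (by linear_combination this))
  -- twelve points in a set of at most ten
  have hX0 : (0 : F) ∈ X := Set.mem_insert _ _
  let base : Fin 4 → F := ![0, x0, -x0, x1]
  have hbase : ∀ i, base i ∈ X := fun i => by fin_cases i <;> assumption
  have hd : ∀ i j, ∀ t : ZMod 3, base i - base j = f t * lam → i = j := by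
    intro i j t ht
    have hn : f (-t) * lam = -(f t * lam) := by rw [map_neg, neg_mul]
    have hneg : -x0 - x0 = x0 := by linear_combination -x0 * h3
    have hc : ∀ k : Fin 4, k = 0 ∨ k = 1 ∨ k = 2 ∨ k = 3 := by decide
    rcases hc i with rfl | rfl | rfl | rfl <;> rcases hc j with rfl | rfl | rfl | rfl <;>
      simp only [base, Matrix.cons_val] at ht
    all_goals first
      | rfl
      | exact absurd (show x0 = f t * lam by linear_combination ht) (a0 t)
      | exact absurd (show x0 = f (-t) * lam by linear_combination -ht - hn) (a0 (-t))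
      | exact absurd (show x0 = f t * lam by linear_combination ht - hneg) (a0 t)
      | exact absurd (show x0 = f (-t) * lam by linear_combination -ht - hn - hneg) (a0 (-t))
      | exact absurd (show x1 = f t * lam by linear_combination ht) (a1 t)
      | exact absurd (show x1 = f (-t) * lam by linear_combination -ht - hn) (a1 (-t))
      | exact absurd (show x0 - x1 = f t * lam by linear_combination ht) (a2 t)
      | exact absurd (show x0 - x1 = f (-t) * lam by linear_combination -ht - hn) (a2 (-t))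
      | exact absurd (show x0 + x1 = f t * lam by linear_combination ht) (a3 t)
      | exact absurd (show x0 + x1 = f (-t) * lam by linear_combination -ht - hn) (a3 (-t))
  have hcard : Nat.card (Fin 4 × ZMod 3) ≤ Nat.card X := by
    refine Nat.card_le_card_of_injective
      (fun q => (⟨base q.1 + f q.2 * lam, hmul _ (hbase q.1) q.2⟩ : X)) ?_
    rintro ⟨i, s⟩ ⟨j, t⟩ h
    have h' : base i + f s * lam = base j + f t * lam := congrArg Subtype.val h
    obtain rfl := hd i j (t - s) (by rw [map_sub]; linear_combination h')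
    rw [f.injective (mul_right_cancel₀ hlam (add_left_cancel h'))]
  rw [Nat.card_prod, Nat.card_fin, Nat.card_zmod, Nat.card_coe_set_eq] at hcard
  omega

theorem exists_conj_pair {P : Subgroup SL(2, F)} {c : F} (hu : upR 1 ∈ P) (hl : lowR c ∈ P)
    (hc : c ^ 4 = 1) : ∃ h : SL(2, F), h * upR 1 * h⁻¹ ∈ P ∧ h * lowR 1 * h⁻¹ ∈ P := by
  have hsq : c ^ 2 = 1 ∨ c ^ 2 = -1 := sq_eq_one_iff.mp (by rw [← pow_mul]; exact hc)
  rcases hsq with h | h
  · refine ⟨1, by simpa using hu, ?_⟩
    rcases sq_eq_one_iff.mp h with rfl | rfl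
    · simpa using hl
    · simpa [lowR_inv] using inv_mem hl
  · refine ⟨upR (-c), by rwa [← upR_add, upR_inv, ← upR_add, neg_neg,
      show -c + 1 + c = 1 by ring], ?_⟩
    have he : upR (-c) * lowR 1 * (upR (-c))⁻¹ = lowR c * upR 1 * (lowR c)⁻¹ := by
      rw [upR_inv, lowR_inv]
      apply ext_entries <;>
        simp [coe_upR, coe_lowR, Matrix.mul_apply, Fin.sum_univ_two]
      all_goals (first | linear_combination h | linear_combination -h | ring)
    rw [he]
    exact mul_mem (mul_mem hl hu) (inv_mem hl)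

/-- Two transvections in characteristic three generate a group containing SL₂(3). -/
theorem exists_sl2_three [Finite F] [CharP F 3] {lam : F} (hlam : lam ≠ 0)
    (hgen : Subring.closure ({lam} : Set F) = ⊤) :
    ∃ σ : SpecialLinearGroup (Fin 2) (ZMod 3) →* SpecialLinearGroup (Fin 2) F, Function.Injective σ ∧
      σ.range ≤ closure ({lowR lam, upR 1} : Set (SpecialLinearGroup (Fin 2) F)) := by
  have : Fact (Nat.Prime 3) := ⟨Nat.prime_three⟩
  let : Algebra (ZMod 3) F := ZMod.algebra F 3
  have hadj : Algebra.adjoin (ZMod 3) ({lam} : Set F) = ⊤ := eq_top_iff.mpr fun z _ => by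
    have hz : z ∈ Subring.closure ({lam} : Set F) := hgen ▸ Subring.mem_top z
    exact (Subring.closure_le (t := (Algebra.adjoin (ZMod 3) ({lam} : Set F)).toSubring)).mpr
      Algebra.subset_adjoin hz
  set P := closure ({lowR lam, upR 1} : Set (SpecialLinearGroup (Fin 2) F)) with hP
  have hu : upR 1 ∈ P := subset_closure (Or.inr rfl)
  have hl : lowR lam ∈ P := subset_closure (Or.inl rfl)
  have hupn : ∀ {Q : Subgroup SL(2, ZMod 3)}, upR 1 ∈ Q → ∀ t, upR t ∈ Q := by
    intro Q hQ t
    obtain ⟨n, rfl⟩ : ∃ n : ℕ, (n : ZMod 3) = t := ⟨t.val, ZMod.natCast_zmod_val t⟩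
    induction n with
    | zero => simp [upR_zero, one_mem]
    | succ n ih => rw [Nat.cast_succ, upR_add]; exact mul_mem ih hQ
  have hlown : ∀ {Q : Subgroup SL(2, ZMod 3)}, lowR 1 ∈ Q → ∀ t, lowR t ∈ Q := by
    intro Q hQ t
    obtain ⟨n, rfl⟩ : ∃ n : ℕ, (n : ZMod 3) = t := ⟨t.val, ZMod.natCast_zmod_val t⟩
    induction n with
    | zero => simp [lowR_zero, one_mem]
    | succ n ih => rw [Nat.cast_succ, lowR_add]; exact mul_mem ih hQ
  obtain ⟨h, hh⟩ : ∃ h : SL(2, F), h * upR 1 * h⁻¹ ∈ P ∧ h * lowR 1 * h⁻¹ ∈ P := by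
    rcases dicksonGroup_three hlam hadj with htop | h8
    · have : P = ⊤ := by
        refine eq_top_iff.mpr (htop ▸ (closure_le _).mpr ?_)
        rintro _ (⟨t, rfl⟩ | ⟨t, rfl⟩)
        · exact hupn (Q := P.comap (SpecialLinearGroup.map (algebraMap (ZMod 3) F)))
            (by simpa [map_upR] using hu) t |> fun h => by simpa [map_upR] using h
        · obtain ⟨n, rfl⟩ : ∃ n : ℕ, (n : ZMod 3) = t := ⟨t.val, ZMod.natCast_zmod_val t⟩
          show lowR _ ∈ P
          induction n with
          | zero => simp [lowR_zero, one_mem]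
          | succ n ih =>
            rw [Nat.cast_succ, map_add, map_one, add_mul, one_mul, lowR_add]
            exact mul_mem ih hl
      exact ⟨1, by simp [this], by simp [this]⟩
    rcases eq_or_ne (lam ^ 4) 1 with h4 | h4
    · exact exists_conj_pair hu hl h4
    let P' : Subgroup SL(2, F) := P.comap (MulAut.conj (upR lam⁻¹)).toMonoidHom
    have hu' : upR 1 ∈ P' := by
      show upR lam⁻¹ * upR 1 * (upR lam⁻¹)⁻¹ ∈ P
      rwa [← upR_add, upR_inv, ← upR_add, show lam⁻¹ + 1 + -lam⁻¹ = 1 by ring]
    have hl' : lowR (-lam ^ 2) ∈ P' := by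
      show upR lam⁻¹ * lowR (-lam ^ 2) * (upR lam⁻¹)⁻¹ ∈ P
      have he : upR lam⁻¹ * lowR (-lam ^ 2) * (upR lam⁻¹)⁻¹ = lowR lam * upR 1 * (lowR lam)⁻¹ := by
        rw [upR_inv, lowR_inv]
        apply ext_entries <;>
          simp [coe_upR, coe_lowR, Matrix.mul_apply, Fin.sum_univ_two]
        all_goals field_simp
        all_goals ring
      rw [he]
      exact mul_mem (mul_mem hl hu) (inv_mem hl)
    obtain ⟨h, h1, h2⟩ := exists_conj_pair hu' hl' (by rw [neg_pow, ← pow_mul, h8]; norm_num)
    refine ⟨upR lam⁻¹ * h, ?_, ?_⟩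
    · have : upR lam⁻¹ * (h * upR 1 * h⁻¹) * (upR lam⁻¹)⁻¹ ∈ P := h1
      simpa [mul_assoc] using this
    · have : upR lam⁻¹ * (h * lowR 1 * h⁻¹) * (upR lam⁻¹)⁻¹ ∈ P := h2
      simpa [mul_assoc] using this
  let σ := (MulAut.conj h).toMonoidHom.comp
    (SpecialLinearGroup.map (n := Fin 2) (ZMod.castHom (dvd_refl 3) F))
  refine ⟨σ, (MulAut.conj h).injective.comp ?_, ?_⟩
  · intro a b hab
    apply Subtype.ext
    ext i j
    exact (ZMod.castHom (dvd_refl 3) F).injective
      (congrArg (fun M : SpecialLinearGroup (Fin 2) F => M.1 i j) hab)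
  · rintro _ ⟨g, rfl⟩
    have htop : P.comap σ = ⊤ := eq_top_of_trans
      (hupn (show h * SpecialLinearGroup.map (ZMod.castHom (dvd_refl 3) F) (upR 1) * h⁻¹ ∈ P by
        rw [map_upR, map_one]; exact hh.1))
      (hlown (show h * SpecialLinearGroup.map (ZMod.castHom (dvd_refl 3) F) (lowR 1) * h⁻¹ ∈ P by
        rw [map_lowR, map_one]; exact hh.2))
    exact (htop ▸ mem_top g : g ∈ P.comap σ)

end Cfsg.Agent.QdFree
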