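import Mathlib.GroupTheory.QuotientGroup.Basic
import Cfsg.Prelude.Def_LocalEven

/-!
# Sections through homomorphisms of subgroups
-/

namespace Cfsg.Agent.QdFree

open Subgroup

universe u v w

variable {X : Type w} [Group X] {G : Type u} [Group G]

theorem involves_mk (K : Subgroup G) (f : K →* X) (hf : Function.Surjective f) :
    Cfsg.Involves X G := by
  have hR : (f.ker.map K.subtype).subgroupOf K = f.ker :=
    comap_map_eq_self_of_injective K.subtype_injective _
  have : ((f.ker.map K.subtype).subgroupOf K).Normal := by rw [hR]; infer_instance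
  exact ⟨K, f.ker.map K.subtype, this, ⟨(QuotientGroup.quotientMulEquivOfEq hR).trans
    (QuotientGroup.quotientKerEquivOfSurjective f hf)⟩⟩

theorem exists_surjective_of_involves (h : Cfsg.Involves X G) :
    ∃ (K : Subgroup G) (f : K →* X), Function.Surjective f := by
  obtain ⟨K, R, hn, ⟨e⟩⟩ := h
  exact ⟨K, e.toMonoidHom.comp (QuotientGroup.mk' _),
    e.surjective.comp (QuotientGroup.mk'_surjective _)⟩

/-- A section of a section is a section, located below the upper subgroup. -/
theorem exists_le_of_sec {Y : Type v} [Group Y] (h : Cfsg.Involves X Y) {K : Subgroup G}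
    {f : K →* Y} (hf : Function.Surjective f) :
    ∃ (L : Subgroup G) (g : L →* X), L ≤ K ∧ Function.Surjective g := by
  obtain ⟨M, g, hg⟩ := exists_surjective_of_involves h
  let M' : Subgroup K := M.comap f
  let e : M' ≃* M'.map K.subtype := M'.equivMapOfInjective K.subtype K.subtype_injective
  refine ⟨M'.map K.subtype, (g.comp (f.subgroupComap M)).comp e.symm.toMonoidHom, map_subtype_le _,
    fun z => ?_⟩
  obtain ⟨y, rfl⟩ := hg z
  obtain ⟨x, hx⟩ := hf y
  refine ⟨e ⟨x, show f x ∈ M from hx ▸ y.2⟩, ?_⟩
  simp only [MonoidHom.comp_apply, MulEquiv.coe_toMonoidHom, MulEquiv.symm_apply_apply]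
  exact congrArg g (Subtype.ext hx)

theorem involves_of_sec {Y : Type v} [Group Y] (h : Cfsg.Involves X Y) {K : Subgroup G}
    {f : K →* Y} (hf : Function.Surjective f) : Cfsg.Involves X G := by
  obtain ⟨L, g, -, hg⟩ := exists_le_of_sec h hf
  exact involves_mk L g hg

theorem involves_of_subgroup {H : Subgroup G} (h : Cfsg.Involves X H) : Cfsg.Involves X G :=
  involves_of_sec h (f := MonoidHom.id H) Function.surjective_id

theorem involves_of_surjective {Y : Type v} [Group Y] (h : Cfsg.Involves X Y) {f : G →* Y}
    (hf : Function.Surjective f) : Cfsg.Involves X G :=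
  involves_of_sec h (K := ⊤) (f := f.comp (⊤ : Subgroup G).subtype) fun y => by
    obtain ⟨x, rfl⟩ := hf y
    exact ⟨⟨x, mem_top x⟩, rfl⟩

end Cfsg.Agent.QdFree
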