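import Cfsg.Agent.QdFree.Section

/-!
# A conjugate pair of quadratic elements with an eigenvalue in the prime field
-/

namespace Cfsg.Agent.QdFree

open Subgroup Matrix
open Cfsg.Agent.RootSub.Dickson

universe u v

variable {p : ℕ} [hp : Fact p.Prime]

theorem dicksonGroup_le_closure {F : Type u} [Field F] [Algebra (ZMod p) F] (lam : F) :
    dicksonGroup (ZMod p) lam ≤ Subgroup.closure ({lowR lam, upR 1} : Set (SpecialLinearGroup (Fin 2) F)) := by
  refine (Subgroup.closure_le _).mpr ?_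
  rintro _ (⟨t, rfl⟩ | ⟨t, rfl⟩)
  · obtain ⟨n, rfl⟩ : ∃ n : ℕ, (n : ZMod p) = t := ⟨t.val, ZMod.natCast_zmod_val t⟩
    show upR _ ∈ Subgroup.closure _
    induction n with
    | zero => simp [upR_zero, one_mem]
    | succ n ih =>
      rw [Nat.cast_succ, map_add, map_one, upR_add]
      exact mul_mem ih (Subgroup.subset_closure (by simp))
  · obtain ⟨n, rfl⟩ : ∃ n : ℕ, (n : ZMod p) = t := ⟨t.val, ZMod.natCast_zmod_val t⟩
    show lowR _ ∈ Subgroup.closure _
    induction n with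
    | zero => simp [lowR_zero, one_mem]
    | succ n ih =>
      rw [Nat.cast_succ, map_add, map_one, add_mul, one_mul, lowR_add]
      exact mul_mem ih (Subgroup.subset_closure (by simp))

theorem exists_weight {F : Type u} [Field F] [Finite F] [CharP F p] (h2 : p ≠ 2) {lam : F}
    (hlam : lam ≠ 0) (hgen : Subring.closure ({lam} : Set F) = ⊤) :
    ∃ g ∈ Subgroup.closure ({lowR lam, upR 1} : Set (SpecialLinearGroup (Fin 2) F)),
      (lam * g 0 1) ^ 2 = 1 ∨ (lam * g 0 1) ^ 2 = -1 := by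
  let : Algebra (ZMod p) F := ZMod.algebra F p
  have htop : Subgroup.closure ({lowR lam, upR 1} : Set (SpecialLinearGroup (Fin 2) F)) = ⊤ →
      ∃ g ∈ Subgroup.closure ({lowR lam, upR 1} : Set (SpecialLinearGroup (Fin 2) F)),
        (lam * g 0 1) ^ 2 = 1 ∨ (lam * g 0 1) ^ 2 = -1 := fun h =>
    ⟨⟨!![0, lam⁻¹; -lam, 0], by simp [det_fin_two, hlam]⟩, h ▸ mem_top _,
      Or.inl (by show (lam * lam⁻¹) ^ 2 = 1; rw [mul_inv_cancel₀ hlam, one_pow])⟩
  by_cases h5 : 5 ≤ p
  · exact htop (closure_pair_eq_top h5 hlam hgen)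
  have h3 : p = 3 := by
    have h4 : p < 5 := by omega
    have := hp.out.two_le
    interval_cases p
    · exact absurd rfl h2
    · rfl
    · exact absurd hp.out (by norm_num)
  subst h3
  have hadj : Algebra.adjoin (ZMod 3) ({lam} : Set F) = ⊤ := eq_top_iff.mpr fun z _ => by
    have hz : z ∈ Subring.closure ({lam} : Set F) := hgen ▸ Subring.mem_top z
    exact (Subring.closure_le (t := (Algebra.adjoin (ZMod 3) ({lam} : Set F)).toSubring)).mpr
      Algebra.subset_adjoin hz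
  rcases dicksonGroup_three hlam hadj with h | h8
  · exact htop (top_le_iff.mp (h.ge.trans (dicksonGroup_le_closure lam)))
  have hu : upR 1 ∈ Subgroup.closure ({lowR lam, upR 1} : Set (SpecialLinearGroup (Fin 2) F)) :=
    Subgroup.subset_closure (by simp)
  have hl : lowR lam ∈ Subgroup.closure ({lowR lam, upR 1} : Set (SpecialLinearGroup (Fin 2) F)) :=
    Subgroup.subset_closure (by simp)
  rcases (sq_eq_one_iff.mp (show (lam ^ 4) ^ 2 = 1 by rw [← pow_mul]; exact h8)) with h | h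
  · refine ⟨upR 1, hu, ?_⟩
    rw [show (upR 1 : SpecialLinearGroup (Fin 2) F) 0 1 = 1 from rfl, mul_one]
    exact sq_eq_one_iff.mp (show (lam ^ 2) ^ 2 = 1 by rw [← pow_mul]; exact h)
  · refine ⟨upR 1 * lowR lam * (upR 1)⁻¹, mul_mem (mul_mem hu hl) (inv_mem hu), Or.inr ?_⟩
    have he : (upR 1 * lowR lam * (upR 1)⁻¹ : SpecialLinearGroup (Fin 2) F) 0 1 = -lam := by
      rw [upR_inv]
      simp [coe_upR, coe_lowR, Matrix.mul_apply, Fin.sum_univ_two]
    rw [he]
    linear_combination h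

/-- Two conjugates of a quadratic element whose product `a b` has an eigenvalue in `𝔽_p^*`. -/
theorem exists_eigen_pair {R : Type u} [Ring R] [Finite R] (h2 : p ≠ 2) (h0 : (p : R) = 0)
    {H : Type v} [Group H] [Finite H] (ρ : H →* R) (hρ : Function.Injective ρ)
    (hO : Cfsg.pCore p H = ⊥) {x : H} (hx1 : x ≠ 1) (hq : (ρ x - 1) * (ρ x - 1) = 0) :
    ∃ (g : H) (n : ℕ), (n : ZMod p) ≠ 0 ∧
      ¬ IsUnit ((ρ x - 1) * (ρ (g * x * g⁻¹) - 1) - n) := by
  obtain ⟨g, hg⟩ : ∃ g : H, ¬ IsPGroup p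
      ↥(zpowers x ⊔ (zpowers x).map (MulAut.conj g).toMonoidHom) := by
    by_contra hcon
    push Not at hcon
    have hxp : x ^ p = 1 := hρ <| by
      have hn : ∀ n : ℕ, (1 + (ρ x - 1)) ^ n = 1 + n * (ρ x - 1) := by
        intro n
        induction n with
        | zero => simp
        | succ n ih => rw [pow_succ, ih, Nat.cast_succ]; linear_combination (norm := noncomm_ring) (n : R) * hq
      have := hn p
      rw [add_sub_cancel, h0, zero_mul, add_zero] at this
      rw [map_pow, map_one, this]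
    have hX : IsPGroup p (zpowers x) := IsPGroup.of_card (n := 1)
      (by rw [Nat.card_zpowers, pow_one, orderOf_eq_prime hxp hx1])
    obtain ⟨N, hN, hNp, hxN⟩ := Invol.baerSuzuki (p := p) (zpowers x) hX hcon
    have := Core.le_pCore hNp
    rw [hO, le_bot_iff] at this
    rw [this, le_bot_iff, zpowers_eq_bot] at hxN
    exact hx1 hxN
  set K := zpowers x ⊔ (zpowers x).map (MulAut.conj g).toMonoidHom with hK
  set x' : K := ⟨x, mem_sup_left (mem_zpowers x)⟩
  set y' : K := ⟨g * x * g⁻¹, mem_sup_right ⟨x, mem_zpowers x, rfl⟩⟩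
  have hgenK : Subgroup.closure ({x', y'} : Set K) = ⊤ := by
    refine map_injective K.subtype_injective ?_
    rw [MonoidHom.map_closure, ← MonoidHom.range_eq_map, range_subtype, Set.image_pair]
    show Subgroup.closure ({x, g * x * g⁻¹} : Set H) = _
    conv_rhs => rw [hK, MonoidHom.map_zpowers, zpowers_eq_closure, zpowers_eq_closure,
      ← Subgroup.closure_union, Set.singleton_union]
    rfl
  set a := ρ x - 1 with ha
  have hxa : ρ x = 1 + a := by rw [ha, add_sub_cancel]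
  set b := ρ g * a * ρ g⁻¹ with hb
  have hgg : ρ g * ρ g⁻¹ = 1 := by rw [← map_mul, mul_inv_cancel, map_one]
  have hgg' : ρ g⁻¹ * ρ g = 1 := by rw [← map_mul, inv_mul_cancel, map_one]
  have hyb : ρ (g * x * g⁻¹) = 1 + b := by
    rw [map_mul, map_mul, hxa, hb, mul_add, mul_one, add_mul, hgg]
  have hbb : b * b = 0 := by
    rw [hb, show ρ g * a * ρ g⁻¹ * (ρ g * a * ρ g⁻¹) = ρ g * a * (ρ g⁻¹ * ρ g) * a * ρ g⁻¹ by
      simp [mul_assoc], hgg', mul_one, mul_assoc (ρ g) a a, hq, mul_zero, zero_mul]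
  let ρK : K →* R := ρ.comp K.subtype
  have hρK : Function.Injective ρK := hρ.comp K.subtype_injective
  have hab : ¬ IsNilpotent (a * b) := fun hn => hg
    (isPGroup_of_pair h0 ρK hρK hgenK hxa hyb hq hbb hn)
  obtain ⟨F, iF, hFfin, hFchar, lam, hlam, hgen, φ, hφx, hφy, hrel⟩ :=
    exists_hom_sl2 h0 ρK hgenK hxa hyb hq hbb hab
  obtain ⟨G, hG, hw⟩ := exists_weight h2 hlam hgen
  obtain ⟨k, rfl⟩ : ∃ k, φ k = G := by
    have hle : Subgroup.closure ({lowR lam, upR 1} : Set (SpecialLinearGroup (Fin 2) F)) ≤ φ.range := by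
      rw [Subgroup.closure_le]
      rintro _ (rfl | hz)
      · exact ⟨x', hφx⟩
      · rw [Set.mem_singleton_iff] at hz; exact ⟨y', hφy.trans hz.symm⟩
    exact hle hG
  obtain ⟨n, hn, hnF⟩ : ∃ n : ℕ, (n : ZMod p) ≠ 0 ∧ (n : F) = -((lam * φ k 0 1) ^ 2) := by
    have hp1 : 1 ≤ p := hp.out.one_lt.le
    rcases hw with h | h
    · refine ⟨p - 1, ?_, ?_⟩
      · rw [Nat.cast_sub hp1, ZMod.natCast_self, Nat.cast_one, zero_sub, neg_ne_zero]
        exact one_ne_zero
      · rw [h, Nat.cast_sub hp1, CharP.cast_eq_zero, Nat.cast_one, zero_sub]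
    · exact ⟨1, by rw [Nat.cast_one]; exact one_ne_zero, by rw [h, Nat.cast_one, neg_neg]⟩
  refine ⟨k, n, hn, ?_⟩
  refine hrel x' (k * x' * k⁻¹) n ?_
  rw [map_mul φ (k * x'), map_mul φ k, map_inv, hφx]
  have hd := det2 (φ k)
  simp [coe_lowR, Matrix.det_fin_two, Matrix.mul_apply, Matrix.sub_apply, Fin.sum_univ_two,
    Matrix.natCast_apply, Matrix.adjugate_fin_two, Matrix.one_apply, Matrix.vecMul, dotProduct,
    Matrix.vecHead, Matrix.vecTail, hnF]
  right
  ring

end Cfsg.Agent.QdFree
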