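import Cfsg.Agent.QdFree.Involve
import Cfsg.Agent.QdFree.SL2Facts
import Cfsg.Prelude.Def_PLocal

/-!
# The affine group `F² ⋊ SL₂(F)` and its occurrence as a section
-/

namespace Cfsg.Agent.QdFree

open Subgroup Matrix

universe u v

variable {F : Type v} [Field F]

/-- The natural action on column vectors. -/
def vecAct : SpecialLinearGroup (Fin 2) F →* MulAut (Multiplicative (Fin 2 → F)) where
  toFun A :=
    { toFun := fun u => Multiplicative.ofAdd (((A : SpecialLinearGroup (Fin 2) F) : Matrix (Fin 2) (Fin 2) F) *ᵥ u.toAdd)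
      invFun := fun u => Multiplicative.ofAdd (((A⁻¹ : SpecialLinearGroup (Fin 2) F) : Matrix (Fin 2) (Fin 2) F) *ᵥ u.toAdd)
      left_inv := fun u => Multiplicative.toAdd.injective ((mulVec_mulVec _ _ _).trans
        ((congrArg (· *ᵥ u.toAdd) (congrArg Subtype.val (inv_mul_cancel A))).trans (one_mulVec _)))
      right_inv := fun u => Multiplicative.toAdd.injective ((mulVec_mulVec _ _ _).trans
        ((congrArg (· *ᵥ u.toAdd) (congrArg Subtype.val (mul_inv_cancel A))).trans (one_mulVec _)))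
      map_mul' := fun u w => Multiplicative.toAdd.injective (mulVec_add ((A : SpecialLinearGroup (Fin 2) F) : Matrix (Fin 2) (Fin 2) F) u.toAdd w.toAdd) }
  map_one' := MulEquiv.ext fun u => Multiplicative.toAdd.injective (one_mulVec _)
  map_mul' A B := MulEquiv.ext fun u => Multiplicative.toAdd.injective
    (mulVec_mulVec u.toAdd ((A : SpecialLinearGroup (Fin 2) F) : Matrix (Fin 2) (Fin 2) F) ((B : SpecialLinearGroup (Fin 2) F) : Matrix (Fin 2) (Fin 2) F)).symm

/-- `F² ⋊ SL₂(F)`. -/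
abbrev Affine (F : Type v) [Field F] :=
  Multiplicative (Fin 2 → F) ⋊[vecAct] SpecialLinearGroup (Fin 2) F

theorem vecAct_apply (A : SpecialLinearGroup (Fin 2) F) (u : Multiplicative (Fin 2 → F)) :
    (vecAct A u).toAdd = ((A : SpecialLinearGroup (Fin 2) F) : Matrix (Fin 2) (Fin 2) F) *ᵥ u.toAdd := rfl

/-- The affine matrix. -/
def affMat (B : Matrix (Fin 2) (Fin 2) F) (u : Fin 2 → F) : Matrix (Fin 3) (Fin 3) F :=
  !![B 0 0, B 0 1, u 0; B 1 0, B 1 1, u 1; 0, 0, 1]

theorem det_affMat (B : Matrix (Fin 2) (Fin 2) F) (u : Fin 2 → F) : (affMat B u).det = B.det := by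
  rw [det_fin_three, det_fin_two]
  simp [affMat]

/-- The affine matrix of determinant one. -/
def affSL (A : SpecialLinearGroup (Fin 2) F) (u : Fin 2 → F) : SpecialLinearGroup (Fin 3) F :=
  ⟨affMat (A : Matrix (Fin 2) (Fin 2) F) u, by rw [det_affMat]; exact A.2⟩

theorem coe_affSL (A : SpecialLinearGroup (Fin 2) F) (u : Fin 2 → F) :
    (affSL A u : Matrix (Fin 3) (Fin 3) F) = affMat (A : Matrix (Fin 2) (Fin 2) F) u := rfl

theorem affMat_one : affMat (1 : Matrix (Fin 2) (Fin 2) F) 0 = 1 := by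
  ext i j
  fin_cases i <;> fin_cases j <;> simp [affMat]

theorem affMat_mul (B D : Matrix (Fin 2) (Fin 2) F) (u w : Fin 2 → F) :
    affMat B u * affMat D w = affMat (B * D) (u + B *ᵥ w) := by
  ext i j
  fin_cases i <;> fin_cases j <;>
    simp [affMat, Matrix.mul_apply, Fin.sum_univ_two, Fin.sum_univ_three, Matrix.mulVec, dotProduct]
  all_goals ring

/-- The affine group as a group of matrices. -/
def affHom : Affine F →* SpecialLinearGroup (Fin 3) F where
  toFun g := affSL g.right g.left.toAdd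
  map_one' := Subtype.ext affMat_one
  map_mul' g h := Subtype.ext (affMat_mul _ _ _ _).symm

theorem affHom_injective : Function.Injective (affHom : Affine F → SpecialLinearGroup (Fin 3) F) := by
  intro g h e
  have e' : affMat ((g.right : SpecialLinearGroup (Fin 2) F) : Matrix (Fin 2) (Fin 2) F) g.left.toAdd = affMat ((h.right : SpecialLinearGroup (Fin 2) F) : Matrix (Fin 2) (Fin 2) F) h.left.toAdd := congrArg Subtype.val e
  refine SemidirectProduct.ext ?_ (Subtype.ext ?_)
  · refine Multiplicative.toAdd.injective (funext fun i => ?_)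
    fin_cases i
    · simpa [affMat] using congrFun (congrFun e' 0) 2
    · simpa [affMat] using congrFun (congrFun e' 1) 2
  · ext i j
    fin_cases i <;> fin_cases j
    · simpa [affMat] using congrFun (congrFun e' 0) 0
    · simpa [affMat] using congrFun (congrFun e' 0) 1
    · simpa [affMat] using congrFun (congrFun e' 1) 0
    · simpa [affMat] using congrFun (congrFun e' 1) 1

theorem mem_range_affHom {M : SpecialLinearGroup (Fin 3) F} :
    M ∈ (affHom : Affine F →* _).range ↔ M.1 2 0 = 0 ∧ M.1 2 1 = 0 ∧ M.1 2 2 = 1 := by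
  constructor
  · rintro ⟨g, rfl⟩
    exact ⟨rfl, rfl, rfl⟩
  · rintro ⟨h0, h1, h2⟩
    have hd : (!![M.1 0 0, M.1 0 1; M.1 1 0, M.1 1 1] : Matrix (Fin 2) (Fin 2) F).det = 1 := by
      have := M.2
      rw [det_fin_three, h0, h1, h2] at this
      rw [det_fin_two]
      simp only [Matrix.of_apply, Matrix.cons_val', Matrix.cons_val_zero, Matrix.cons_val_one,
        Matrix.empty_val', Matrix.cons_val_fin_one]
      linear_combination this
    refine ⟨⟨Multiplicative.ofAdd ![M.1 0 2, M.1 1 2], ⟨_, hd⟩⟩, Subtype.ext ?_⟩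
    show affMat _ _ = M.1
    ext i j
    fin_cases i <;> fin_cases j <;> simp [affMat, h0, h1, h2]

theorem range_affHom : (affHom : Affine F →* _).range = Cfsg.qdOver F :=
  le_antisymm (fun M hM => Subgroup.subset_closure (show M ∈ {M : SpecialLinearGroup (Fin 3) F | M.1 2 0 = 0 ∧ M.1 2 1 = 0 ∧ M.1 2 2 = 1} from mem_range_affHom.mp hM))
    ((closure_le _).mpr fun _ hM => mem_range_affHom.mpr hM)

/-- `Qd` is the affine group. -/
noncomputable def qdOverEquiv : Affine F ≃* Cfsg.qdOver F :=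
  (MonoidHom.ofInjective affHom_injective).trans (MulEquiv.subgroupCongr range_affHom)

noncomputable def qdEquiv (p : ℕ) [Fact p.Prime] : Affine (ZMod p) ≃* Cfsg.qd p :=
  qdOverEquiv

variable {p : ℕ} [hp : Fact p.Prime]

theorem qd_zero_two_half (h2 : p ≠ 2) {e : Fin 2 → ZMod p} (h : e + e = 0) : e = 0 := funext fun i => by
  have h' : (2 : ZMod p) * e i = 0 := by rw [two_mul]; exact congrFun h i
  exact (mul_eq_zero.mp h').resolve_left (two_ne_zero_zmod h2)

/-- A subgroup `M` inducing SL₂(p) on a natural module gives a section `Qd(p)`. -/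
theorem involves_qd_of_natural {Y : Type u} [Group Y] [Finite Y] (h2 : p ≠ 2)
    (ι : Multiplicative (Fin 2 → ZMod p) →* Y) (hι : Function.Injective ι) {M : Subgroup Y}
    (A : M →* SpecialLinearGroup (Fin 2) (ZMod p)) (hA : Function.Surjective A)
    (hcompat : ∀ (m : M) (u : Multiplicative (Fin 2 → ZMod p)),
      (m : Y) * ι u * (m : Y)⁻¹ = ι (vecAct (A m) u)) :
    Cfsg.Involves (Cfsg.qd p) Y := by
  have : Fact (Nat.Prime 2) := ⟨Nat.prime_two⟩
  set Zc := zpowers (-1 : SpecialLinearGroup (Fin 2) (ZMod p))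
  have hZn : Zc.Normal := by
    refine ⟨fun x hx g => ?_⟩
    obtain ⟨i, rfl⟩ := hx
    have hcomm : Commute g (-1 : SpecialLinearGroup (Fin 2) (ZMod p)) := Commute.neg_one_right g
    show g * (-1) ^ i * g⁻¹ ∈ Zc
    rw [(hcomm.zpow_right i).eq, mul_inv_cancel_right]
    exact zpow_mem (mem_zpowers _) i
  set D := Zc.comap A with hD
  have hDn : D.Normal := hZn.comap A
  -- a 2-element inducing `-1`
  obtain ⟨z0, hz0⟩ := hA (-1)
  obtain ⟨a, m, hm, hord⟩ := Nat.exists_eq_pow_mul_and_not_dvd (orderOf_pos z0).ne' 2 (by norm_num)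
  have hmodd : Odd m := Nat.not_even_iff_odd.mp fun h => hm h.two_dvd
  set z := z0 ^ m with hz
  have hAz : A z = -1 := by rw [hz, map_pow, hz0, hmodd.neg_one_pow]
  have hzD : z ∈ D := show A z ∈ Zc from hAz ▸ mem_zpowers _
  have hz2 : z ^ 2 ^ a = 1 := by rw [hz, ← pow_mul, mul_comm, ← hord, pow_orderOf_eq_one]
  obtain ⟨T, hT⟩ := (show IsPGroup 2 (zpowers (⟨z, hzD⟩ : D)) by
    obtain ⟨k, -, hk⟩ := (Nat.dvd_prime_pow Nat.prime_two).mp
      (orderOf_dvd_of_pow_eq_one (show (⟨z, hzD⟩ : D) ^ 2 ^ a = 1 from Subtype.ext hz2))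
    exact IsPGroup.of_card (n := k) (by rw [Nat.card_zpowers, hk])).exists_le_sylow
  set T' := (T : Subgroup D).map D.subtype
  have hzT : z ∈ T' := ⟨⟨z, hzD⟩, hT (mem_zpowers _), rfl⟩
  set L := normalizer (T' : Set M)
  have hAL : L.map A = ⊤ := by
    refine eq_top_iff.mpr fun B _ => ?_
    obtain ⟨g, rfl⟩ := hA B
    have htop : L ⊔ D = ⊤ := T.normalizer_sup_eq_top
    obtain ⟨n, hn, d, hd, rfl⟩ := mem_sup_of_normal_right.mp (htop.ge (mem_top g))
    obtain ⟨i, hi⟩ := hd
    refine ⟨n * z ^ i, mul_mem hn (zpow_mem (le_normalizer hzT) i), ?_⟩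
    rw [map_mul, map_mul, map_zpow, hAz]
    exact congrArg _ hi
  -- `L` meets the module trivially
  have hLV : ∀ (l : M), l ∈ L → ∀ u, (l : Y) = ι u → u = 1 := by
    intro l hl u hlu
    have h1 : l * z * l⁻¹ * z⁻¹ ∈ T' :=
      mul_mem ((mem_normalizer_iff.mp hl z).mp hzT) (inv_mem hzT)
    have hval : ((l * z * l⁻¹ * z⁻¹ : M) : Y) = ι (u * u) := by
      have hc := hcompat z u⁻¹
      simp only [Subgroup.coe_mul, InvMemClass.coe_inv, hlu, map_inv] at hc ⊢
      rw [mul_assoc (ι u), mul_assoc (ι u), hc, map_mul]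
      congr 1
      rw [← map_inv]
      congr 1
      refine Multiplicative.toAdd.injective ?_
      rw [toAdd_inv, vecAct_apply, hAz]
      simp [Matrix.neg_mulVec]
    obtain ⟨k, hk⟩ := (T.2.map D.subtype) ⟨_, h1⟩
    have hk' : (l * z * l⁻¹ * z⁻¹) ^ 2 ^ k = 1 := congrArg Subtype.val hk
    have hk'' : ι ((u * u) ^ 2 ^ k) = 1 := by
      rw [map_pow, ← hval, ← Subgroup.coe_pow, hk', Subgroup.coe_one]
    have h3 : (u * u) ^ 2 ^ k = 1 := hι (hk''.trans (map_one ι).symm)
    have h4 : (2 : ZMod p) ^ k • (u.toAdd + u.toAdd) = 0 := by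
      have := congrArg Multiplicative.toAdd h3
      rw [toAdd_pow, toAdd_mul, toAdd_one] at this
      rw [← this, ← Nat.cast_smul_eq_nsmul (ZMod p), Nat.cast_pow, Nat.cast_ofNat]
    exact Multiplicative.toAdd.injective (qd_zero_two_half h2
      ((smul_eq_zero.mp h4).resolve_left (pow_ne_zero _ (two_ne_zero_zmod h2))))
  -- the split extension inside `Y`
  let act : L →* MulAut (Multiplicative (Fin 2 → ZMod p)) := vecAct.comp (A.comp L.subtype)
  let Φ : Multiplicative (Fin 2 → ZMod p) ⋊[act] L →* Y :=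
    SemidirectProduct.lift ι (M.subtype.comp L.subtype) fun l => MonoidHom.ext fun u =>
      (hcompat l u).symm
  have hΦ : Function.Injective Φ := by
    rw [injective_iff_map_eq_one]
    intro g hg
    have hg' : ι g.left * ((g.right : M) : Y) = 1 := hg
    have h5 := hLV g.right g.right.2 g.left⁻¹ (by rw [map_inv]; exact eq_inv_of_mul_eq_one_right hg')
    rw [inv_eq_one] at h5
    rw [h5, map_one, one_mul] at hg'
    exact SemidirectProduct.ext h5 (Subtype.ext (Subtype.ext hg'))
  let Ψ : Multiplicative (Fin 2 → ZMod p) ⋊[act] L →* Affine (ZMod p) :=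
    SemidirectProduct.map (MonoidHom.id _) (A.comp L.subtype) fun l => rfl
  have hΨ : Function.Surjective Ψ := fun g => by
    obtain ⟨l, hl, hle⟩ := (hAL.ge (mem_top g.right) : g.right ∈ L.map A)
    exact ⟨⟨g.left, ⟨l, hl⟩⟩, SemidirectProduct.ext rfl hle⟩
  exact involves_mk Φ.range
    (((qdEquiv p).toMonoidHom.comp Ψ).comp (MonoidHom.ofInjective hΦ).symm.toMonoidHom)
    (((qdEquiv p).surjective.comp hΨ).comp (MonoidHom.ofInjective hΦ).symm.surjective)

end Cfsg.Agent.QdFree
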