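import Cfsg.Agent.QdFree.PStable
import Cfsg.Agent.QdFree.Eigen
import Cfsg.Agent.QdFree.Qd

/-!
# A failure of `p`-stability gives a section Qd(p)
-/

namespace Cfsg.Agent.QdFree

open Subgroup
open scoped commutatorElement
open Cfsg.Agent.KInf

universe u

variable {p : ℕ} [hp : Fact p.Prime] {X : Type u} [Group X] [Finite X]

/-- Two elements acting on independent `v`, `w` by opposite transvections give Qd(p). -/
theorem involves_qd_of_pair (h2 : p ≠ 2) (ι : Multiplicative (Fin 2 → ZMod p) →* X)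
    (hι : Function.Injective ι) {n : ZMod p} (hn : n ≠ 0) {x y : X}
    (hx : ∀ u, x * ι u * x⁻¹ = ι (vecAct (RootSub.Dickson.upR n) u))
    (hy : ∀ u, y * ι u * y⁻¹ = ι (vecAct (RootSub.Dickson.lowR 1) u)) :
    Cfsg.Involves (Cfsg.qd p) X := by
  let M : Subgroup X :=
    { carrier := {m | ∃ N : Matrix.SpecialLinearGroup (Fin 2) (ZMod p),
        ∀ u, m * ι u * m⁻¹ = ι (vecAct N u)}
      one_mem' := ⟨1, fun u => by rw [map_one vecAct, MulAut.one_apply, one_mul, inv_one, mul_one]⟩
      mul_mem' := fun {a b} ⟨N, hN⟩ ⟨N', hN'⟩ => ⟨N * N', fun u => by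
        rw [map_mul vecAct, MulAut.mul_apply, ← hN, ← hN']; group⟩
      inv_mem' := fun {a} ⟨N, hN⟩ => ⟨N⁻¹, fun u => by
        have h := hN (vecAct N⁻¹ u)
        rw [← MulAut.mul_apply, ← map_mul, mul_inv_cancel, map_one, MulAut.one_apply] at h
        rw [← h]; group⟩ }
  have huniq : ∀ N N' : Matrix.SpecialLinearGroup (Fin 2) (ZMod p),
      (∀ u, ι (vecAct N u) = ι (vecAct N' u)) → N = N' := by
    intro N N' h
    apply Subtype.ext
    ext i j
    have h' := congrArg Multiplicative.toAdd (hι (h (Multiplicative.ofAdd (Pi.single j 1))))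
    rw [vecAct_apply, vecAct_apply, toAdd_ofAdd, Matrix.mulVec_single_one, Matrix.mulVec_single_one] at h'
    exact congrFun h' i
  choose A hA using fun m : M => m.2
  let A' : M →* Matrix.SpecialLinearGroup (Fin 2) (ZMod p) := MonoidHom.mk' A fun a b =>
    huniq _ _ fun u => by
      rw [map_mul vecAct, MulAut.mul_apply, ← hA, ← hA, ← hA, Subgroup.coe_mul]
      group
  have hx' : x ∈ M := ⟨_, hx⟩
  have hy' : y ∈ M := ⟨_, hy⟩
  have hu : RootSub.Dickson.upR n ∈ A'.range :=
    ⟨⟨x, hx'⟩, huniq _ _ fun u => (hA ⟨x, hx'⟩ u).symm.trans (hx u)⟩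
  have hl : RootSub.Dickson.lowR 1 ∈ A'.range :=
    ⟨⟨y, hy'⟩, huniq _ _ fun u => (hA ⟨y, hy'⟩ u).symm.trans (hy u)⟩
  have htop : A'.range = ⊤ := by
    refine RootSub.Dickson.eq_top_of_trans (fun r => ?_) (fun r => ?_)
    · have key : ∀ k : ℕ, RootSub.Dickson.upR ((k : ZMod p) * n) ∈ A'.range := by
        intro k
        induction k with
        | zero => simp [RootSub.Dickson.upR_zero]
        | succ k ih =>
          rw [Nat.cast_succ, add_mul, one_mul, RootSub.Dickson.upR_add]
          exact mul_mem ih hu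
      have := key (r * n⁻¹).val
      rwa [ZMod.natCast_zmod_val, inv_mul_cancel_right₀ hn] at this
    · have key : ∀ k : ℕ, RootSub.Dickson.lowR (k : ZMod p) ∈ A'.range := by
        intro k
        induction k with
        | zero => simp [RootSub.Dickson.lowR_zero]
        | succ k ih =>
          rw [Nat.cast_succ, RootSub.Dickson.lowR_add]
          exact mul_mem ih hl
      have := key r.val
      rwa [ZMod.natCast_zmod_val] at this
  exact involves_qd_of_natural h2 ι hι A' (MonoidHom.range_eq_top.mp htop) fun m u => hA m u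

open scoped IsMulCommutative in
/-- A quadratic element not trivial on a chief factor acts by a transvection pair with a conjugate. -/
theorem exists_pair_of_chief (h2 : p ≠ 2) {U V : Subgroup X} [V.Normal] (hch : Cfsg.IsChiefFactor U V)
    (hU : IsPGroup p U) {g : X} (hit : Cfsg.iterCommutator U (zpowers g) 2 ≤ V)
    (hnt : ¬ TrivOn g U V) :
    ∃ (ι : Multiplicative (Fin 2 → ZMod p) →* X ⧸ V) (n : ZMod p) (G : X),
      Function.Injective ι ∧ n ≠ 0 ∧ ι.range ≤ U.map (QuotientGroup.mk' V) ∧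
      (∀ u, (g : X ⧸ V) * ι u * (g : X ⧸ V)⁻¹ = ι (vecAct (RootSub.Dickson.upR n) u)) ∧
      ∀ u, ((G * g * G⁻¹ : X) : X ⧸ V) * ι u * ((G * g * G⁻¹ : X) : X ⧸ V)⁻¹ =
        ι (vecAct (RootSub.Dickson.lowR 1) u) := by
  set π := QuotientGroup.mk' V
  have hπs : Function.Surjective π := QuotientGroup.mk'_surjective V
  have hmin := Control.isMinNormal_image hch
  have hUn := hmin.normal
  obtain ⟨hcomm, hexp⟩ := Control.image_facts hch hU
  set W := U.map π
  set C₀ := (MulAut.conjNormal (H := W)).ker with hC₀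
  have hC : ∀ y : X ⧸ V, y ∈ C₀ ↔ y ∈ centralizer (W : Set (X ⧸ V)) := by
    intro y
    rw [hC₀, MonoidHom.mem_ker, MulEquiv.ext_iff, mem_centralizer_iff]
    simp only [MulAut.one_apply, Subtype.forall, Subtype.ext_iff, MulAut.conjNormal_apply,
      mul_inv_eq_iff_eq_mul, SetLike.mem_coe]
    exact ⟨fun h u hu => (h u hu).symm, fun h u hu => (h u hu).symm⟩
  set σ := QuotientGroup.mk' C₀
  have hσs : Function.Surjective σ := QuotientGroup.mk'_surjective C₀
  have hO : Cfsg.pCore p ((X ⧸ V) ⧸ C₀) = ⊥ := by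
    have hDn : ((Cfsg.pCore p ((X ⧸ V) ⧸ C₀)).comap σ).Normal := Normal.comap inferInstance σ
    have hD := le_centralizer_of_pPower (D := (Cfsg.pCore p ((X ⧸ V) ⧸ C₀)).comap σ) (hU.map π) hmin
      (fun d hd => by
        obtain ⟨a, ha⟩ := Core.pCore_isPGroup (p := p) (G := (X ⧸ V) ⧸ C₀) ⟨σ d, hd⟩
        refine ⟨a, (hC _).mp ((QuotientGroup.eq_one_iff _).mp ?_)⟩
        exact (map_pow σ d _).trans (congrArg Subtype.val ha))
    rw [eq_bot_iff]
    intro z hz
    obtain ⟨d, rfl⟩ := hσs z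
    exact mem_bot.mpr ((QuotientGroup.eq_one_iff _).mpr ((hC _).mpr (hD hz)))
  have hit' : ⁅⁅W, zpowers (π g)⁆, zpowers (π g)⁆ = ⊥ := by
    rw [← MonoidHom.map_zpowers, ← map_commutator, ← map_commutator, Subgroup.map_eq_bot_iff,
      QuotientGroup.ker_mk']
    exact hit
  -- the linear action
  let E := AddMonoid.End (Additive W)
  have : Finite E := Finite.of_injective _ DFunLike.coe_injective
  let : Module (ZMod p) (Additive W) := AddCommGroup.zmodModule fun z =>
    Additive.toMul.injective (Subtype.ext (by simpa using hexp _ z.toMul.2))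
  have h0 : ((p : ℕ) : E) = 0 := AddMonoidHom.ext fun z => by
    change p • z = 0
    exact Additive.toMul.injective (Subtype.ext (by simpa using hexp _ z.toMul.2))
  let φ : (X ⧸ V) ⧸ C₀ →* MulAut W := QuotientGroup.kerLift (MulAut.conjNormal (H := W))
  let ρ : (X ⧸ V) ⧸ C₀ →* E :=
    { toFun := fun h => MonoidHom.toAdditive (φ h).toMonoidHom
      map_one' := by rw [map_one]; rfl
      map_mul' := fun a b => by rw [map_mul]; rfl }
  have hρ : Function.Injective ρ := fun a b hab =>
    QuotientGroup.kerLift_injective (MulAut.conjNormal (H := W)) (MulEquiv.ext fun w =>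
      congrArg Additive.toMul (DFunLike.congr_fun hab (Additive.ofMul w)))
  have hact : ∀ (y : X ⧸ V) (z : Additive W),
      (((ρ (σ y) z).toMul : W) : X ⧸ V) = y * (z.toMul : X ⧸ V) * y⁻¹ := fun y z =>
    MulAut.conjNormal_apply y z.toMul
  have hsq : (ρ (σ (π g)) - 1) * (ρ (σ (π g)) - 1) = 0 := by
    refine AddMonoidHom.ext fun z => ?_
    change ρ (σ (π g)) (ρ (σ (π g)) z - z) - (ρ (σ (π g)) z - z) = 0
    rw [sub_eq_zero]
    refine Additive.toMul.injective (Subtype.ext ?_)
    rw [hact, toMul_sub, div_eq_mul_inv, Subgroup.coe_mul, InvMemClass.coe_inv, hact]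
    exact conj_commutator_fixed hit' z.toMul.2
  have hx1 : σ (π g) ≠ 1 := fun h => hnt (by
    rw [trivOn_iff]
    exact (hC _).mp ((QuotientGroup.eq_one_iff _).mp h))
  obtain ⟨h', n, hn, hnu⟩ := exists_eigen_pair h2 h0 ρ hρ hO hx1 hsq
  obtain ⟨G, rfl⟩ := hσs h'
  rw [← map_inv σ, ← map_mul σ, ← map_mul σ] at hnu
  set x := π g
  set y := G * x * G⁻¹
  set a := ρ (σ x) - 1 with ha
  set b := ρ (σ y) - 1 with hb
  obtain ⟨v, hv0, hv⟩ : ∃ v : Additive W, v ≠ 0 ∧ a (b v) = (n : ZMod p) • v := by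
    by_contra hcon
    push Not at hcon
    have hinj : Function.Injective (a * b - (n : E)) := by
      rw [injective_iff_map_eq_zero]
      intro v hv
      by_contra hv0
      refine hcon v hv0 ?_
      change a (b v) - (n : E) v = 0 at hv
      rw [sub_eq_zero] at hv
      rw [hv, Nat.cast_smul_eq_nsmul]
      rfl
    refine hnu (IsUnit.of_mul_eq_one
      (AddEquiv.ofBijective (a * b - (n : E)) (Finite.injective_iff_bijective.mp hinj)).symm.toAddMonoidHom
      (AddMonoidHom.ext fun z => ?_))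
    exact AddEquiv.apply_symm_apply
      (AddEquiv.ofBijective (a * b - (n : E)) (Finite.injective_iff_bijective.mp hinj)) z
  have haa : ∀ z, a (a z) = 0 := fun z => DFunLike.congr_fun hsq z
  have hsq' : b * b = 0 := by
    have hc : ρ (σ y) - 1 = ρ (σ G) * a * ρ (σ G⁻¹) := by
      rw [show σ y = σ G * σ x * σ G⁻¹ by rw [← map_mul, ← map_mul], map_mul, map_mul, ha, mul_sub,
        mul_one, sub_mul, ← map_mul ρ (σ G) (σ G⁻¹), ← map_mul σ, mul_inv_cancel, map_one, map_one]
    rw [hb, hc, show ρ (σ G) * a * ρ (σ G⁻¹) * (ρ (σ G) * a * ρ (σ G⁻¹)) =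
      ρ (σ G) * a * (ρ (σ G⁻¹) * ρ (σ G)) * a * ρ (σ G⁻¹) by simp [mul_assoc], ← map_mul ρ,
      ← map_mul σ, inv_mul_cancel, map_one, map_one, mul_one, mul_assoc (ρ (σ G)) a a,
      show a * a = 0 from hsq, mul_zero, zero_mul]
  have hbb : ∀ z, b (b z) = 0 := fun z => DFunLike.congr_fun hsq' z
  set w := b v with hw
  have hsmul : ∀ (f : E) (c : ZMod p) (z : Additive W), f (c • z) = c • f z := fun f c z =>
    ZMod.map_smul f c z
  have hz0 : ∀ {c : ZMod p} {z : Additive W}, c • z = 0 → c = 0 ∨ z = 0 := fun {c z} h => by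
    rcases eq_or_ne c 0 with hc | hc
    · exact Or.inl hc
    · exact Or.inr (by rw [← inv_smul_smul₀ hc z, h, smul_zero])
  have hav : a v = 0 := by
    have := haa w
    rw [hv, hsmul] at this
    exact (hz0 this).resolve_left hn
  let ι₀ : (Fin 2 → ZMod p) →+ Additive W :=
    AddMonoidHom.mk' (fun u => u 0 • v + u 1 • w) fun u u' => by
      simp only [Pi.add_apply, add_smul]; abel
  let ι : Multiplicative (Fin 2 → ZMod p) →* X ⧸ V :=
    W.subtype.comp (AddMonoidHom.toMultiplicativeLeft ι₀)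
  have hι : Function.Injective ι := by
    rw [injective_iff_map_eq_one]
    intro u hu
    have h1 : ι₀ u.toAdd = 0 := Additive.toMul.injective (Subtype.ext hu)
    have h2' : a (ι₀ u.toAdd) = 0 := by rw [h1, map_zero]
    change a (u.toAdd 0 • v + u.toAdd 1 • w) = 0 at h2'
    rw [map_add, hsmul, hsmul, hav, smul_zero, zero_add, hw, hv, smul_smul] at h2'
    have hu1 : u.toAdd 1 = 0 :=
      (mul_eq_zero.mp ((hz0 h2').resolve_right hv0)).resolve_right hn
    change u.toAdd 0 • v + u.toAdd 1 • w = 0 at h1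
    rw [hu1, zero_smul, add_zero] at h1
    have hu0 : u.toAdd 0 = 0 := (hz0 h1).resolve_right hv0
    refine Multiplicative.toAdd.injective (funext fun i => ?_)
    fin_cases i <;> assumption
  have hconj : ∀ (m : X ⧸ V) (u : Fin 2 → ZMod p) (u' : Fin 2 → ZMod p),
      ρ (σ m) (ι₀ u) = ι₀ u' →
        m * ι (Multiplicative.ofAdd u) * m⁻¹ = ι (Multiplicative.ofAdd u') := fun m u u' h => by
    have := hact m (ι₀ u)
    rw [h] at this
    exact this.symm
  obtain ⟨G₀, hG₀⟩ := hπs G
  refine ⟨ι, n, G₀, hι, hn, fun _ ⟨u, hu⟩ => hu ▸ (AddMonoidHom.toMultiplicativeLeft ι₀ u).2,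
    fun u => hconj x u.toAdd _ ?_, fun u => ?_⟩
  rotate_left
  · rw [show ((G₀ * g * G₀⁻¹ : X) : X ⧸ V) = y from by
      show π (G₀ * g * G₀⁻¹) = y
      rw [map_mul, map_mul, map_inv, hG₀]]
    refine hconj y u.toAdd _ ?_
    change ρ (σ y) (u.toAdd 0 • v + u.toAdd 1 • w) = _
    have h1 : ρ (σ y) = b + 1 := by rw [hb, sub_add_cancel]
    rw [h1]
    change b (u.toAdd 0 • v + u.toAdd 1 • w) + (u.toAdd 0 • v + u.toAdd 1 • w) = _
    rw [map_add, hsmul, hsmul, hw, hbb, smul_zero, add_zero]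
    change _ = ((RootSub.Dickson.lowR (1 : ZMod p)).1.mulVec u.toAdd) 0 • v +
      ((RootSub.Dickson.lowR (1 : ZMod p)).1.mulVec u.toAdd) 1 • w
    simp [RootSub.Dickson.coe_lowR, Matrix.mulVec, dotProduct, Fin.sum_univ_two, add_smul, hw]
    abel
  · change ρ (σ x) (u.toAdd 0 • v + u.toAdd 1 • w) = _
    have h1 : ρ (σ x) = a + 1 := by rw [ha, sub_add_cancel]
    rw [h1]
    change a (u.toAdd 0 • v + u.toAdd 1 • w) + (u.toAdd 0 • v + u.toAdd 1 • w) = _
    rw [map_add, hsmul, hsmul, hav, hw, hv, smul_zero, zero_add, smul_smul]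
    change _ = ((RootSub.Dickson.upR (n : ZMod p)).1.mulVec u.toAdd) 0 • v +
      ((RootSub.Dickson.upR (n : ZMod p)).1.mulVec u.toAdd) 1 • w
    simp [RootSub.Dickson.coe_upR, Matrix.mulVec, dotProduct, Fin.sum_univ_two, add_smul, mul_comm, hw]
    abel

/-- A quadratic element not trivial on a chief factor in a `p`-group gives a section Qd(p). -/
theorem involves_qd_of_chief (h2 : p ≠ 2) {U V : Subgroup X} (hch : Cfsg.IsChiefFactor U V)
    (hU : IsPGroup p U) {g : X} (hit : Cfsg.iterCommutator U (zpowers g) 2 ≤ V)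
    (hnt : ¬ TrivOn g U V) : Cfsg.Involves (Cfsg.qd p) X := by
  obtain ⟨-, -, hVn, -⟩ := id hch
  obtain ⟨ι, n, G, hι, hn, -, hx, hy⟩ := exists_pair_of_chief h2 hch hU hit hnt
  exact involves_of_surjective (involves_qd_of_pair h2 ι hι hn hx hy) (QuotientGroup.mk'_surjective V)

/-- A group without a section Qd(p) is `p`-stable. -/
theorem isNormalizerPStable_of_qd_free (h2 : p ≠ 2) (hfree : ¬ Cfsg.Involves (Cfsg.qd p) X) :
    Cfsg.IsNormalizerPStable p X := by
  intro P hP g hg hq
  set N := normalizer (P : Set X) with hNdef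
  set P' := P.subgroupOf N with hP'
  have hP'n : P'.Normal := normal_in_normalizer
  have hP'map : P'.map N.subtype = P := map_subgroupOf_eq_of_le le_normalizer
  have hP'p : IsPGroup p P' := hP.comap_subtype (K := N)
  set g' : N := ⟨g, hg⟩
  have hq' : ⁅⁅P', zpowers g'⁆, zpowers g'⁆ = ⊥ := by
    rw [← map_eq_bot_iff_of_injective _ N.subtype_injective, map_commutator, map_commutator,
      MonoidHom.map_zpowers, hP'map]
    exact hq
  have hC : (centralizer (P : Set X)).subgroupOf N = centralizer (P' : Set N) := by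
    ext z
    rw [mem_subgroupOf, mem_centralizer_iff, mem_centralizer_iff]
    exact ⟨fun h x hx => Subtype.ext (h x hx),
      fun h x hx => congrArg Subtype.val (h ⟨x, le_normalizer hx⟩ hx)⟩
  by_contra hcon
  obtain ⟨U, V, hUV, hU, hnt⟩ := exists_chief_of_not_mem (P := P') hP'p hC (g := g') hcon
  exact hfree (involves_of_subgroup (involves_qd_of_chief h2 hUV (hP'p.to_le hU)
    ((iter_mono hU _ 2).trans (hq'.le.trans bot_le)) hnt))

/-- All sections of a Qd(p)-free group are `p`-stable. -/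
theorem isNormalizerPStable_section (h2 : p ≠ 2) (hfree : ¬ Cfsg.Involves (Cfsg.qd p) X)
    (K R : Subgroup X) [(R.subgroupOf K).Normal] :
    Cfsg.IsNormalizerPStable p (↥K ⧸ R.subgroupOf K) :=
  isNormalizerPStable_of_qd_free h2 fun h =>
    hfree (involves_of_subgroup (involves_of_surjective h (QuotientGroup.mk'_surjective _)))

end Cfsg.Agent.QdFree
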