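import Cfsg.Agent.QdFree.Qd
import Cfsg.Agent.RootSub.Dickson.Common
import Cfsg.Agent.Classical.Linear2

/-!
# The Sylow subgroup of Qd(p) and the normalizers of its characteristic subgroups
-/

namespace Cfsg.Agent.QdFree

open Subgroup Matrix
open RootSub.Dickson (upR lowR upR_add upR_zero coe_upR coe_lowR upR_inv)

universe u

variable {p : ℕ} [hp : Fact p.Prime]

local notation "Aff" => Affine (ZMod p)
local notation "SLp" => Matrix.SpecialLinearGroup (Fin 2) (ZMod p)

/-- The upper transvections. -/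
def upGroup (p : ℕ) [Fact p.Prime] : Subgroup (Matrix.SpecialLinearGroup (Fin 2) (ZMod p)) where
  carrier := Set.range fun a => upR a
  one_mem' := ⟨0, upR_zero⟩
  mul_mem' := by rintro _ _ ⟨a, rfl⟩ ⟨b, rfl⟩; exact ⟨a + b, upR_add a b⟩
  inv_mem' := by rintro _ ⟨a, rfl⟩; exact ⟨-a, (upR_inv a).symm⟩

theorem upR_injective : Function.Injective fun a : ZMod p => (upR a : SLp) := fun a b h => by
  have := congrArg (fun M : SLp => M 0 1) h
  simpa [coe_upR] using this

/-- The Sylow subgroup: translations and upper transvections. -/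
def sylowModel (p : ℕ) [Fact p.Prime] : Subgroup (Affine (ZMod p)) :=
  (upGroup p).comap SemidirectProduct.rightHom

theorem mem_sylowModel {g : Aff} : g ∈ sylowModel p ↔ ∃ a, upR a = g.right := Iff.rfl

/-- Coordinates on the Sylow subgroup. -/
def mkT (x y a : ZMod p) : Aff := ⟨Multiplicative.ofAdd ![x, y], upR a⟩

theorem mkT_mem (x y a : ZMod p) : mkT x y a ∈ sylowModel p := ⟨a, rfl⟩

theorem mkT_mul (x y a x' y' a' : ZMod p) :
    mkT x y a * mkT x' y' a' = mkT (x + x' + a * y') (y + y') (a + a') := by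
  refine SemidirectProduct.ext (Multiplicative.toAdd.injective ?_) (upR_add a a').symm
  show (![x, y] : Fin 2 → ZMod p) + (upR a : SLp).1 *ᵥ ![x', y'] = ![x + x' + a * y', y + y']
  funext i
  fin_cases i <;> simp [coe_upR, add_assoc, mul_comm]

theorem exists_mkT {g : Aff} (hg : g ∈ sylowModel p) : ∃ x y a, g = mkT x y a := by
  obtain ⟨a, ha⟩ := hg
  refine ⟨g.left.toAdd 0, g.left.toAdd 1, a, SemidirectProduct.ext ?_ ha.symm⟩
  refine Multiplicative.toAdd.injective (funext fun i => ?_)
  fin_cases i <;> rfl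

theorem mkT_inj {x y a x' y' a' : ZMod p} (h : mkT x y a = mkT x' y' a') :
    x = x' ∧ y = y' ∧ a = a' := by
  have hl := congrArg (fun g : Aff => g.left.toAdd) h
  have hr := congrArg (fun g : Aff => g.right) h
  exact ⟨congrFun hl 0, congrFun hl 1, upR_injective hr⟩

theorem card_sylowModel : Nat.card (sylowModel p) = p ^ 3 := by
  let f : ZMod p × ZMod p × ZMod p → sylowModel p := fun v =>
    ⟨mkT v.1 v.2.1 v.2.2, mkT_mem _ _ _⟩
  have hf : Function.Bijective f := by
    constructor
    · intro v w h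
      obtain ⟨h1, h2, h3⟩ := mkT_inj (congrArg Subtype.val h)
      exact Prod.ext h1 (Prod.ext h2 h3)
    · rintro ⟨g, hg⟩
      obtain ⟨x, y, a, rfl⟩ := exists_mkT hg
      exact ⟨(x, y, a), rfl⟩
  rw [← Nat.card_congr (Equiv.ofBijective f hf), Nat.card_prod, Nat.card_prod, Nat.card_zmod]
  ring

theorem card_affine : Nat.card Aff = p ^ 3 * (p ^ 2 - 1) := by
  rw [SemidirectProduct.card, Classical.card_sl2,
    Nat.card_congr (Multiplicative.toAdd (α := Fin 2 → ZMod p)), Nat.card_fun, Nat.card_zmod,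
    Nat.card_eq_fintype_card (α := Fin 2), Fintype.card_fin, ZMod.card]
  ring

theorem isPGroup_sylowModel : IsPGroup p (sylowModel p) := IsPGroup.of_card card_sylowModel

theorem not_dvd_index_sylowModel : ¬ p ∣ (sylowModel p).index := by
  intro hd
  have h := (sylowModel p).card_mul_index
  rw [card_sylowModel, card_affine] at h
  have hp0 : 0 < p ^ 3 := pow_pos hp.out.pos 3
  rw [Nat.eq_of_mul_eq_mul_left hp0 h] at hd
  have h1 : p ∣ p ^ 2 := dvd_pow_self p two_ne_zero
  have h2 : 1 ≤ p ^ 2 := Nat.one_le_pow _ _ hp.out.pos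
  exact hp.out.not_dvd_one ((Nat.dvd_add_right hd).mp (by rwa [Nat.sub_add_cancel h2]))

/-- The swap automorphism of the Sylow subgroup. -/
theorem exists_swap : ∃ θ : sylowModel p →* sylowModel p, Function.Bijective θ ∧
    ∀ x y a, ∀ h : mkT x y a ∈ sylowModel p,
      ((θ ⟨mkT x y a, h⟩ : sylowModel p) : Aff) = mkT (a * y - x) a y := by
  choose X Y A hXYA using fun g : sylowModel p => exists_mkT g.2
  have hmk : ∀ x y a, ∀ h : mkT x y a ∈ sylowModel p,
      X ⟨mkT x y a, h⟩ = x ∧ Y ⟨mkT x y a, h⟩ = y ∧ A ⟨mkT x y a, h⟩ = a := fun x y a h =>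
    mkT_inj (hXYA ⟨mkT x y a, h⟩).symm
  let f : sylowModel p → sylowModel p := fun g => ⟨mkT (A g * Y g - X g) (A g) (Y g), mkT_mem _ _ _⟩
  have hf : ∀ x y a, ∀ h : mkT x y a ∈ sylowModel p,
      ((f ⟨mkT x y a, h⟩ : sylowModel p) : Aff) = mkT (a * y - x) a y := by
    intro x y a h
    obtain ⟨h1, h2, h3⟩ := hmk x y a h
    show mkT _ _ _ = _
    rw [h1, h2, h3]
  have hmul : ∀ g h, f (g * h) = f g * f h := by
    rintro ⟨g, hg⟩ ⟨h, hh⟩
    obtain ⟨x, y, a, rfl⟩ := exists_mkT hg
    obtain ⟨x', y', a', rfl⟩ := exists_mkT hh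
    apply Subtype.ext
    have he : (⟨mkT x y a, hg⟩ : sylowModel p) * ⟨mkT x' y' a', hh⟩ =
        ⟨mkT (x + x' + a * y') (y + y') (a + a'), mkT_mem _ _ _⟩ := Subtype.ext (mkT_mul ..)
    rw [he, Subgroup.coe_mul, hf, hf, hf, mkT_mul]
    congr 1
    ring
  refine ⟨MonoidHom.mk' f hmul, ?_, hf⟩
  have hinv : Function.Involutive f := by
    rintro ⟨g, hg⟩
    obtain ⟨x, y, a, rfl⟩ := exists_mkT hg
    apply Subtype.ext
    have he : f ⟨mkT x y a, hg⟩ = ⟨mkT (a * y - x) a y, mkT_mem _ _ _⟩ := Subtype.ext (hf ..)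
    rw [he, hf]
    congr 1
    ring
  exact hinv.bijective

/-- The translations. -/
theorem inl_eq_mkT (u : Multiplicative (Fin 2 → ZMod p)) :
    (SemidirectProduct.inl u : Aff) = mkT (u.toAdd 0) (u.toAdd 1) 0 := by
  refine SemidirectProduct.ext (Multiplicative.toAdd.injective (funext fun i => ?_)) upR_zero.symm
  fin_cases i <;> rfl

instance instFiniteAffine {F : Type*} [Field F] [Finite F] : Finite (Affine F) :=
  Finite.of_equiv _ SemidirectProduct.equivProd.symm

/-- The Weyl element. -/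
def weyl (p : ℕ) [Fact p.Prime] : Matrix.SpecialLinearGroup (Fin 2) (ZMod p) :=
  ⟨!![0, 1; -1, 0], by simp [det_fin_two]⟩

theorem coe_weyl : ((weyl p : SLp) : Matrix (Fin 2) (Fin 2) (ZMod p)) = !![0, 1; -1, 0] := rfl

theorem eq_translations_of_normal {U : Subgroup Aff} [hU : U.Normal] (hle : U ≤ sylowModel p)
    (hne : U ≠ ⊥) : U = (SemidirectProduct.inl : _ →* Aff).range := by
  have hV : U ≤ (SemidirectProduct.inl : _ →* Aff).range := by
    intro g hg
    rw [SemidirectProduct.range_inl_eq_ker_rightHom, MonoidHom.mem_ker]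
    show g.right = 1
    obtain ⟨a, ha⟩ := mem_sylowModel.mp (hle hg)
    have hc := hU.conj_mem g hg (SemidirectProduct.inr (weyl p))
    obtain ⟨b, hb⟩ := mem_sylowModel.mp (hle hc)
    rw [SemidirectProduct.mul_right, SemidirectProduct.mul_right, SemidirectProduct.inv_right,
      SemidirectProduct.right_inr, ← ha, eq_comm, mul_inv_eq_iff_eq_mul] at hb
    have := congrArg (fun M : SLp => M 1 1) hb
    simp [coe_weyl, coe_upR, Matrix.mul_apply, Fin.sum_univ_two] at this
    rw [← ha, this, upR_zero]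
  refine le_antisymm hV ?_
  let W : AddSubgroup (Fin 2 → ZMod p) :=
    { carrier := {v | (SemidirectProduct.inl (Multiplicative.ofAdd v) : Aff) ∈ U}
      zero_mem' := by
        show SemidirectProduct.inl (1 : Multiplicative (Fin 2 → ZMod p)) ∈ U
        rw [map_one]; exact one_mem U
      add_mem' := fun {a b} ha hb => by
        show SemidirectProduct.inl (Multiplicative.ofAdd a * Multiplicative.ofAdd b) ∈ U
        rw [map_mul]; exact mul_mem ha hb
      neg_mem' := fun {a} ha => by
        show SemidirectProduct.inl (Multiplicative.ofAdd a)⁻¹ ∈ U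
        rw [map_inv]; exact inv_mem ha }
  have hact : ∀ (B : SLp) v, v ∈ W → B.1 *ᵥ v ∈ W := by
    intro B v hv
    show SemidirectProduct.inl (Multiplicative.ofAdd (B.1 *ᵥ v)) ∈ U
    have := hU.conj_mem _ hv (SemidirectProduct.inr B)
    rw [← map_inv SemidirectProduct.inr B, ← SemidirectProduct.inl_aut] at this
    exact this
  obtain ⟨g, hg, hg1⟩ := (bot_or_exists_ne_one U).resolve_left hne
  obtain ⟨u, rfl⟩ := hV hg
  have hu : u.toAdd ∈ W := hg
  have hu0 : u.toAdd ≠ 0 := fun h => hg1 (by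
    rw [show u = 1 from Multiplicative.toAdd.injective h, map_one])
  have hsm : ∀ (c : ZMod p) v, v ∈ W → c • v ∈ W := fun c v hv => by
    rw [← ZMod.natCast_zmod_val c, Nat.cast_smul_eq_nsmul]
    exact nsmul_mem hv _
  -- some nonzero multiple of the first basis vector
  obtain ⟨c, hc, hcW⟩ : ∃ c : ZMod p, c ≠ 0 ∧ ![c, 0] ∈ W := by
    by_cases h1 : u.toAdd 1 = 0
    · refine ⟨u.toAdd 0, fun h0 => hu0 (funext fun i => by fin_cases i <;> assumption), ?_⟩
      convert hu using 1
      funext i; fin_cases i <;> simp [h1]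
    · refine ⟨u.toAdd 1, h1, ?_⟩
      convert sub_mem (hact (upR 1) _ hu) hu using 1
      funext i
      fin_cases i <;> simp [coe_upR, Matrix.mulVec, dotProduct, Fin.sum_univ_two]
  have he1 : ![(1 : ZMod p), 0] ∈ W := by
    convert hsm c⁻¹ _ hcW using 1
    funext i; fin_cases i <;> simp [hc]
  have he2 : ![(0 : ZMod p), 1] ∈ W := by
    convert neg_mem (hact (weyl p) _ he1) using 1
    funext i; fin_cases i <;> simp [coe_weyl, Matrix.mulVec, dotProduct, Fin.sum_univ_two]
  rintro _ ⟨v, rfl⟩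
  show v.toAdd ∈ W
  convert add_mem (hsm (v.toAdd 0) _ he1) (hsm (v.toAdd 1) _ he2) using 1
  funext i; fin_cases i <;> simp

/-- The normalizer of a nontrivial characteristic subgroup of the Sylow subgroup. -/
theorem normalizer_eq_of_invariant {U : Subgroup Aff} (hU : U ≤ sylowModel p) (hne : U ≠ ⊥)
    (hinv : ∀ θ : sylowModel p ≃* sylowModel p, ∀ x : sylowModel p, (x : Aff) ∈ U → ((θ x : sylowModel p) : Aff) ∈ U) :
    normalizer (U : Set Aff) = normalizer (sylowModel p : Set Aff) ∧
      normalizer (sylowModel p : Set Aff) ≠ ⊤ := by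
  have hconj : ∀ g ∈ normalizer (sylowModel p : Set Aff), ∀ x ∈ U, g * x * g⁻¹ ∈ U := by
    intro g hg x hx
    exact hinv ((sylowModel p).normalizerMonoidHom ⟨g, hg⟩) ⟨x, hU hx⟩ hx
  have hle : normalizer (sylowModel p : Set Aff) ≤ normalizer (U : Set Aff) := fun g hg =>
    mem_normalizer_fintype fun x hx => hconj g hg x hx
  -- elements with zero lower corner normalise the Sylow subgroup
  have htri : ∀ g : Aff, g.right 1 0 = 0 → g ∈ normalizer (sylowModel p : Set Aff) := by
    intro g hg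
    refine mem_normalizer_fintype fun x hx => ?_
    obtain ⟨a, ha⟩ := hx
    refine ⟨g.right 0 0 * g.right 0 0 * a, ?_⟩
    show upR _ = (g * x * g⁻¹).right
    have ha' : upR a = x.right := ha
    rw [SemidirectProduct.mul_right, SemidirectProduct.mul_right, SemidirectProduct.inv_right, ← ha',
      eq_mul_inv_iff_mul_eq]
    have hd := RootSub.Dickson.det2 g.right
    rw [hg, mul_zero, sub_zero] at hd
    apply RootSub.Dickson.ext_entries <;>
      simp [coe_upR, Matrix.mul_apply, Fin.sum_univ_two, hg]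
    linear_combination (g.right 0 0 * a) * hd
  have hne' : ∀ H : Subgroup Aff, sylowModel p ≤ H → (∃ g ∈ H, g.right 1 0 ≠ 0) → H = ⊤ := by
    rintro H hH ⟨g, hg, hgc⟩
    set P := H.map (SemidirectProduct.rightHom : Aff →* SLp)
    have hup : ∀ r, upR r ∈ P := fun r => ⟨SemidirectProduct.inr (upR r), hH ⟨r, rfl⟩, rfl⟩
    have hgP : g.right ∈ P := ⟨g, hg, rfl⟩
    have htop : P = ⊤ := by
      refine RootSub.Dickson.eq_top_of_weyl hup (γ := upR (-(g.right 0 0 / g.right 1 0)) * g.right)
        (mul_mem (hup _) hgP) ?_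
      simp [coe_upR, Matrix.mul_apply, Fin.sum_univ_two]
      field_simp
      ring
    refine eq_top_iff.mpr fun x _ => ?_
    obtain ⟨h, hh, hhe⟩ := (htop.ge (mem_top x.right) : x.right ∈ P)
    have : x * h⁻¹ ∈ sylowModel p := ⟨0, by
      refine upR_zero.trans ?_
      show (1 : SLp) = x.right * h.right⁻¹
      rw [show h.right = x.right from hhe, mul_inv_cancel]⟩
    simpa using mul_mem (hH this) hh
  have hntop : normalizer (U : Set Aff) ≠ ⊤ := by
    intro h
    have hn : U.Normal := normalizer_eq_top_iff.mp h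
    have hUV := eq_translations_of_normal hU hne
    obtain ⟨θ, hθ, hθf⟩ := exists_swap (p := p)
    have hy : (SemidirectProduct.inl (Multiplicative.ofAdd ![0, 1]) : Aff) ∈ U := hUV ▸ ⟨_, rfl⟩
    rw [inl_eq_mkT] at hy
    have h2 := hinv (MulEquiv.ofBijective θ hθ) ⟨_, hU hy⟩ hy
    simp only [MulEquiv.ofBijective_apply, hθf, hUV, SemidirectProduct.range_inl_eq_ker_rightHom,
      MonoidHom.mem_ker] at h2
    have h3 : (upR ((![0, 1] : Fin 2 → ZMod p) 1) : SLp) = upR 0 := h2.trans upR_zero.symm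
    have := upR_injective h3
    simp at this
  have hcorner : ∀ g ∈ normalizer (U : Set Aff), g.right 1 0 = 0 := by
    intro g hg
    by_contra h
    exact hntop (hne' _ (le_normalizer.trans hle) ⟨g, hg, h⟩)
  refine ⟨le_antisymm (fun g hg => htri g (hcorner g hg)) hle, fun h => ?_⟩
  exact hntop (top_le_iff.mp (h.ge.trans hle))

/-- The same for every Sylow subgroup. -/
theorem normalizer_eq_of_characteristic (S : Sylow p Aff) {T : Subgroup S} (hT : T ≠ ⊥)
    (hTc : ∀ θ : S ≃* S, T.map θ.toMonoidHom = T) :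
    normalizer (T.map (S : Subgroup Aff).subtype : Set Aff) =
        normalizer ((S : Subgroup Aff) : Set Aff) ∧
      normalizer ((S : Subgroup Aff) : Set Aff) ≠ ⊤ := by
  obtain ⟨g, hg⟩ := MulAction.exists_smul_eq Aff
    ((isPGroup_sylowModel (p := p)).toSylow not_dvd_index_sylowModel) S
  set c := MulAut.conj g
  have hS : (sylowModel p).map c.toMonoidHom = (S : Subgroup Aff) := by
    rw [← hg]; rfl
  let e : sylowModel p ≃* (S : Subgroup Aff) :=
    ((sylowModel p).equivMapOfInjective c.toMonoidHom c.injective).trans (MulEquiv.subgroupCongr hS)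
  set U := (T.map e.symm.toMonoidHom).map (sylowModel p).subtype with hU
  have hne : U ≠ ⊥ := fun h => hT <| by
    rw [hU, map_eq_bot_iff_of_injective _ (sylowModel p).subtype_injective,
      map_eq_bot_iff_of_injective _ e.symm.injective] at h
    exact h
  obtain ⟨h1, h2⟩ := normalizer_eq_of_invariant (U := U) (map_subtype_le _) hne fun θ x hx => by
    obtain ⟨y, ⟨t, ht, rfl⟩, hy⟩ := hx
    obtain rfl : x = e.symm t := (Subtype.ext hy).symm
    refine ⟨_, ⟨e (θ (e.symm t)), ?_, e.symm_apply_apply _⟩, rfl⟩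
    exact (hTc ((e.symm.trans θ).trans e)).le ⟨t, ht, rfl⟩
  have hmap : U.map c.toMonoidHom = T.map (S : Subgroup Aff).subtype := by
    rw [hU, Subgroup.map_map, Subgroup.map_map]
    congr 1
    refine MonoidHom.ext fun t => ?_
    exact congrArg Subtype.val (e.apply_symm_apply t)
  have hn : ∀ H : Subgroup Aff, (normalizer (H : Set Aff)).map c.toMonoidHom =
      normalizer (H.map c.toMonoidHom : Set Aff) := fun H => map_equiv_normalizer_eq H c
  refine ⟨?_, fun h => h2 ?_⟩
  · rw [← hmap, ← hS, ← hn, ← hn, h1]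
  · rw [← hS, ← hn] at h
    exact map_injective c.injective (h.trans (map_top_of_surjective _ c.surjective).symm)

end Cfsg.Agent.QdFree
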