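import Cfsg.Agent.KInf.Control
import Cfsg.Agent.Fusion.ZJ
import Cfsg.Agent.QdFree.NotStable
import Cfsg.Agent.QdFree.QdSylow

/-!
# Control of strong fusion by characteristic functors in Qd(p)-free groups, and its failure in Qd(p)
-/

namespace Cfsg.Agent.QdFree

open Subgroup

universe u

variable {p : ℕ} [hp : Fact p.Prime]

/-- A functor that is normal in all constrained sections controls strong fusion. -/
theorem controlsStrongFusion_of_normal {W : ∀ (Q : Type u) [Group Q], Subgroup Q}
    (hW : Cfsg.IsCharPFunctor.{u} p W) {G : Type u} [Group G] [Finite G]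
    (hloc : ∀ (K R : Subgroup G) [(R.subgroupOf K).Normal],
      centralizer (Cfsg.pCore p (↥K ⧸ R.subgroupOf K) : Set (↥K ⧸ R.subgroupOf K)) ≤
        Cfsg.pCore p (↥K ⧸ R.subgroupOf K) →
      ∀ T : Sylow p (↥K ⧸ R.subgroupOf K),
        (Cfsg.inducedFunctor W (T : Subgroup (↥K ⧸ R.subgroupOf K))).Normal)
    (S : Sylow p G) : Cfsg.ControlsStrongFusion p (Cfsg.inducedFunctor W (S : Subgroup G)) := by
  have hF : ∀ V ∈ ({W} : Set (∀ (Q : Type u) [Group Q], Subgroup Q)), Cfsg.IsCharPFunctor.{u} p V :=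
    fun V hV => hV ▸ hW
  have key : Control.GFus {W} p G := by
    refine Control.gFus_of_quotients hF (fun K' R' _ hc => ?_) Control.IsSec.refl
    obtain ⟨T'⟩ := (inferInstance : Nonempty (Sylow p (↥K' ⧸ R'.subgroupOf K')))
    refine Control.famFus_iff.mpr ⟨_, Control.sylIn_top T', fun A g _ _ hgA =>
      Control.Ctrl.of_mem ⟨_, ⟨W, rfl, rfl⟩, rfl⟩ ⟨mem_top g, ?_⟩ hgA⟩
    rw [normalizer_eq_top_iff.mpr (hloc K' R' hc T')]
    exact mem_top g
  have hc := Control.isConjugacyFunctor_induced (p := p) (X := G) hW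
  refine ⟨S, (hc _ S.2).1, fun A hA => ⟨hA, fun g hg => ?_⟩⟩
  obtain ⟨c, hcR, hce⟩ := (Control.famFus_iff_forall (Control.isConjugacyFunctor_iF hF)
    (Control.sylIn_top S)).mp key A g (mem_top g) hA hg
  refine ⟨c, hcR.mem (fun N hN => ?_), fun a ha => (hce a ha).symm⟩
  obtain ⟨_, ⟨V, hV, rfl⟩, rfl⟩ := hN
  rw [Set.mem_singleton_iff.mp hV]
  exact inf_le_right

/-- `Z(J)` as a functor (`e = 0`), with the variant of exponent `e`. -/
def zjFunctor (e : ℕ) (Q : Type u) [Group Q] : Subgroup Q := Fusion.zInter e (⊤ : Subgroup Q)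

theorem inducedFunctor_zj (e : ℕ) {G : Type u} [Group G] [Finite G] (P : Subgroup G) :
    Cfsg.inducedFunctor (G := G) (zjFunctor e) P = Fusion.zInter e P := by
  show (Fusion.zInter e (⊤ : Subgroup P)).map P.subtype = _
  rw [Fusion.zInter_map P.subtype_injective, ← MonoidHom.range_eq_map, range_subtype]

theorem isCharPFunctor_zj : Cfsg.IsCharPFunctor.{u} p (zjFunctor 0) := by
  refine ⟨fun Q _ _ hQ _ h => ?_, fun Q R _ _ _ _ φ => ?_⟩
  · have := hQ.center_nontrivial
    obtain ⟨z, hz⟩ := exists_ne (1 : center Q)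
    obtain ⟨A, hA⟩ := Fusion.exists_abMax (G := Q) 0 ⊤
    have hmem : (z : Q) ∈ zjFunctor 0 Q := mem_sInf.mpr fun B hB =>
      Fusion.mem_of_commute hB (mem_top _) (pow_zero _) fun b _ => mem_center_iff.mp z.2 b
    rw [h, mem_bot] at hmem
    exact hz (Subtype.ext hmem)
  · show (Fusion.zInter 0 ⊤).map φ.toMonoidHom = Fusion.zInter 0 ⊤
    rw [Fusion.zInter_map (G := Q) φ.injective, ← MonoidHom.range_eq_map,
      MonoidHom.range_eq_top.mpr φ.surjective]

theorem normal_zInter_of_pStable {Y : Type u} [Group Y] [Finite Y] (h2 : p ≠ 2) {e : ℕ}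
    (he : e = 0 ∨ Odd e) (hst : Cfsg.IsNormalizerPStable p Y)
    (hc : centralizer (Cfsg.pCore p Y : Set Y) ≤ Cfsg.pCore p Y) (T : Sylow p Y) :
    (Fusion.zInter e (T : Subgroup Y)).Normal :=
  Fusion.normal_zInter h2 he (Fusion.pStableNormal_of_isNormalizerPStable hst)
    (Fusion.isStronglyClosed_self T) hc

/-! ### Qd(p) -/

/-- No characteristic subgroup of a Sylow subgroup of a copy of Qd(p) controls strong fusion. -/
theorem not_controlsStrongFusion {Y : Type u} [Group Y] [Finite Y] (e : Affine (ZMod p) ≃* Y)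
    (T : Sylow p Y) {U : Subgroup T} (hU : U ≠ ⊥) (hUc : ∀ θ : T ≃* T, U.map θ.toMonoidHom = U) :
    ¬ Cfsg.ControlsStrongFusion p (U.map (T : Subgroup Y).subtype) := by
  set T₀ : Sylow p (Affine (ZMod p)) := T.mapSurjective (f := e.symm.toMonoidHom) e.symm.surjective
  obtain ⟨c, hc⟩ := MulAction.exists_smul_eq (Affine (ZMod p))
    ((isPGroup_sylowModel (p := p)).toSylow not_dvd_index_sylowModel) T₀
  have hS : (sylowModel p).map (MulAut.conj c).toMonoidHom = (T₀ : Subgroup (Affine (ZMod p))) := by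
    rw [← hc]; rfl
  -- transport the subgroup
  let f : T ≃* (T₀ : Subgroup (Affine (ZMod p))) :=
    ((T : Subgroup Y).equivMapOfInjective e.symm.toMonoidHom e.symm.injective).trans
      (MulEquiv.subgroupCongr (Sylow.coe_mapSurjective (f := e.symm.toMonoidHom) e.symm.surjective T).symm)
  obtain ⟨h1, -⟩ := normalizer_eq_of_characteristic T₀ (T := U.map f.toMonoidHom)
    (fun h => hU ((map_eq_bot_iff_of_injective _ f.injective).mp h)) fun θ => by
      conv_rhs => rw [← hUc ((f.trans θ).trans f.symm)]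
      rw [Subgroup.map_map, Subgroup.map_map]
      congr 1
      refine MonoidHom.ext fun t => ?_
      exact (f.apply_symm_apply _).symm
  have hmap : (U.map f.toMonoidHom).map (T₀ : Subgroup (Affine (ZMod p))).subtype =
      (U.map (T : Subgroup Y).subtype).map e.symm.toMonoidHom := by
    rw [Subgroup.map_map, Subgroup.map_map]
    rfl
  rw [hmap] at h1
  set V : Subgroup (Affine (ZMod p)) :=
    (SemidirectProduct.inl : Multiplicative (Fin 2 → ZMod p) →* _).range with hV
  have hVn : V.Normal := by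
    rw [hV, SemidirectProduct.range_inl_eq_ker_rightHom]
    exact MonoidHom.normal_ker _
  have hVp : IsPGroup p V := isPGroup_sylowModel.to_le fun g hg => by
    obtain ⟨v, rfl⟩ := hg
    rw [inl_eq_mkT]
    exact mkT_mem _ _ _
  rintro ⟨T', -, hT'⟩
  let u₀ : Multiplicative (Fin 2 → ZMod p) := Multiplicative.ofAdd ![1, 0]
  let w₀ : Multiplicative (Fin 2 → ZMod p) := Multiplicative.ofAdd ![0, 1]
  let u := c * SemidirectProduct.inl u₀ * c⁻¹
  let w := c * SemidirectProduct.inl w₀ * c⁻¹
  have hmem : ∀ z : Affine (ZMod p), z ∈ V → e z ∈ (T' : Subgroup Y) := by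
    intro z hz
    have hn : (V.map e.toMonoidHom).Normal := hVn.map _ e.surjective
    exact ((Core.le_pCore (hVp.map e.toMonoidHom)).trans (Core.pCore_le_sylow T'))
      (mem_map_of_mem e.toMonoidHom hz)
  have hwu : ∃ g, g * u * g⁻¹ = w := by
    refine ⟨c * SemidirectProduct.inr (weyl p)⁻¹ * c⁻¹, ?_⟩
    have h : SemidirectProduct.inr (weyl p)⁻¹ * SemidirectProduct.inl u₀ *
        (SemidirectProduct.inr (weyl p)⁻¹)⁻¹ = (SemidirectProduct.inl w₀ : Affine (ZMod p)) := by
      rw [← map_inv SemidirectProduct.inr, ← SemidirectProduct.inl_aut]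
      refine congrArg _ (Multiplicative.toAdd.injective ?_)
      rw [vecAct_apply]
      show Matrix.mulVec ((weyl p)⁻¹).1 ![(1 : ZMod p), 0] = ![0, 1]
      funext i
      fin_cases i <;> simp [coe_weyl, Matrix.SpecialLinearGroup.coe_inv, Matrix.adjugate_fin_two]
    rw [show c * SemidirectProduct.inr (weyl p)⁻¹ * c⁻¹ * u *
      (c * SemidirectProduct.inr (weyl p)⁻¹ * c⁻¹)⁻¹ = c * (SemidirectProduct.inr (weyl p)⁻¹ *
        SemidirectProduct.inl u₀ * (SemidirectProduct.inr (weyl p)⁻¹)⁻¹) * c⁻¹ by simp only [u]; group, h]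
  obtain ⟨g, hg⟩ := hwu
  obtain ⟨-, hfus⟩ := hT' {e u} (Set.singleton_subset_iff.mpr (hmem u (hVn.conj_mem _ ⟨u₀, rfl⟩ c)))
  obtain ⟨h, hh, hhe⟩ := hfus (e g) (by
    rintro _ ⟨_, rfl, rfl⟩
    show e g * e u * (e g)⁻¹ ∈ (T' : Subgroup Y)
    rw [← map_mul, ← map_inv, ← map_mul, hg]
    exact hmem w (hVn.conj_mem _ ⟨w₀, rfl⟩ c))
  have hhu := hhe (e u) rfl
  rw [← map_mul, ← map_inv, ← map_mul, hg] at hhu
  -- the normalizer of `U` fixes the line
  set k := c⁻¹ * e.symm h * c
  have hk : k ∈ normalizer (sylowModel p : Set (Affine (ZMod p))) := by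
    have h4 : e.symm h ∈ normalizer
        ((U.map (T : Subgroup Y).subtype).map e.symm.toMonoidHom : Set (Affine (ZMod p))) :=
      le_normalizer_map e.symm.toMonoidHom ⟨h, hh, rfl⟩
    rw [h1, ← hS, ← map_equiv_normalizer_eq] at h4
    obtain ⟨y, hy, hye⟩ := h4
    have h7 : c * y * c⁻¹ = e.symm h := hye
    have : y = k := by
      simp only [k]
      rw [← h7]
      group
    exact this ▸ hy
  have hk10 : k.right 1 0 = 0 := by
    obtain ⟨a, ha⟩ := (mem_normalizer_iff.mp hk (mkT 0 0 1)).mp (mkT_mem _ _ _)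
    have ha' : RootSub.Dickson.upR a = k.right * RootSub.Dickson.upR 1 * k.right⁻¹ := ha
    rw [eq_mul_inv_iff_mul_eq] at ha'
    have := congrArg (fun M : Matrix.SpecialLinearGroup (Fin 2) (ZMod p) => M 1 1) ha'
    simp [RootSub.Dickson.coe_upR, Matrix.mul_apply, Fin.sum_univ_two] at this
    exact this
  have hku : k * SemidirectProduct.inl u₀ * k⁻¹ = SemidirectProduct.inl w₀ := by
    have h5 : e.symm h * u * (e.symm h)⁻¹ = w := by
      apply e.injective
      rw [map_mul, map_mul, map_inv, MulEquiv.apply_symm_apply]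
      exact hhu.symm
    simp only [k, u, w] at h5 ⊢
    calc c⁻¹ * e.symm h * c * SemidirectProduct.inl u₀ * (c⁻¹ * e.symm h * c)⁻¹
        = c⁻¹ * (e.symm h * (c * SemidirectProduct.inl u₀ * c⁻¹) * (e.symm h)⁻¹) * c := by group
      _ = SemidirectProduct.inl w₀ := by rw [h5]; group
  have h6 := congrArg (fun z : Affine (ZMod p) => z.left.toAdd 1) hku
  simp [SemidirectProduct.mul_left, SemidirectProduct.inv_left, vecAct_apply, u₀, w₀, Matrix.mulVec,
    dotProduct, Fin.sum_univ_two, hk10] at h6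

/-- A section isomorphic to Qd(p) in a group involving it. -/
theorem exists_section_equiv {G : Type u} [Group G] (h : Cfsg.Involves (Cfsg.qd p) G) :
    ∃ (K R : Subgroup G) (_ : (R.subgroupOf K).Normal),
      Nonempty (Affine (ZMod p) ≃* (↥K ⧸ R.subgroupOf K)) := by
  obtain ⟨K, R, hn, ⟨e⟩⟩ := h
  exact ⟨K, R, hn, ⟨(qdEquiv p).trans e.symm⟩⟩

/-- Qd(p) is not `p`-stable. -/
theorem not_isNormalizerPStable (h2 : p ≠ 2) {Y : Type u} [Group Y] [Finite Y]
    (e : Affine (ZMod p) ≃* Y) : ¬ Cfsg.IsNormalizerPStable p Y := by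
  intro hst
  set π : Y →* Matrix.SpecialLinearGroup (Fin 2) (ZMod p) :=
    SemidirectProduct.rightHom.comp e.symm.toMonoidHom
  have hπ : Function.Surjective π := SemidirectProduct.rightHom_surjective.comp e.symm.surjective
  set P := π.ker
  have hP : IsPGroup p P := by
    intro z
    have hz : e.symm z ∈ sylowModel p := ⟨0, RootSub.Dickson.upR_zero.trans (z.2 : π z = 1).symm⟩
    obtain ⟨k, hk⟩ := isPGroup_sylowModel ⟨_, hz⟩
    refine ⟨k, Subtype.ext (e.symm.injective ?_)⟩
    rw [Subgroup.coe_pow, map_pow, Subgroup.coe_one, map_one]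
    exact congrArg Subtype.val hk
  set g : Y := e (SemidirectProduct.inr (RootSub.Dickson.upR 1))
  have hgP : g ∈ normalizer (P : Set Y) := by
    rw [normalizer_eq_top_iff.mpr (MonoidHom.normal_ker π)]
    exact mem_top g
  have hC : centralizer (P : Set Y) ≤ P := by
    intro y hy
    refine MonoidHom.mem_ker.mpr ?_
    apply Subtype.ext
    ext i j
    have hm : e (SemidirectProduct.inl (Multiplicative.ofAdd (Pi.single j 1))) ∈ P := by
      simp [P, π]
    have h := congrArg (fun z => ((e.symm z).left.toAdd) i) (mem_centralizer_iff.mp hy _ hm)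
    simp [SemidirectProduct.mul_left, vecAct_apply] at h
    show ((e.symm y).right : Matrix (Fin 2) (Fin 2) (ZMod p)) i j = (1 : Matrix (Fin 2) (Fin 2) (ZMod p)) i j
    rw [Matrix.one_apply]
    rw [Pi.single_apply] at h
    linear_combination -h
  have hq : ⁅⁅P, zpowers g⁆, zpowers g⁆ = ⊥ := by
    let F : Subgroup Y :=
      { carrier := {y | ∃ t : ZMod p, y = e (mkT t 0 0)}
        one_mem' := ⟨0, by
          rw [show mkT (0 : ZMod p) 0 0 = 1 from SemidirectProduct.ext
            (Multiplicative.toAdd.injective (funext fun i => by fin_cases i <;> rfl))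
            RootSub.Dickson.upR_zero, map_one]⟩
        mul_mem' := by
          rintro _ _ ⟨s, rfl⟩ ⟨t, rfl⟩
          exact ⟨s + t, by rw [← map_mul, mkT_mul]; simp⟩
        inv_mem' := by
          rintro _ ⟨t, rfl⟩
          refine ⟨-t, ?_⟩
          rw [← map_inv]
          refine congrArg e (inv_eq_of_mul_eq_one_right ?_)
          rw [mkT_mul]
          refine SemidirectProduct.ext (Multiplicative.toAdd.injective (funext fun i => ?_)) ?_
          · fin_cases i <;> simp [mkT]
          · simp [mkT, RootSub.Dickson.upR_zero] }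
    have hgz : ∀ z ∈ zpowers g, ∃ s : ZMod p, z = e (mkT 0 0 s) := by
      rintro _ ⟨n, rfl⟩
      refine ⟨n, ?_⟩
      show g ^ n = _
      rw [← map_zpow, ← map_zpow]
      refine congrArg e (SemidirectProduct.ext (Multiplicative.toAdd.injective (funext fun i => ?_)) ?_)
      · fin_cases i <;> rfl
      · show RootSub.Dickson.upR 1 ^ n = RootSub.Dickson.upR (n : ZMod p)
        induction n using Int.induction_on with
        | zero => simp [RootSub.Dickson.upR_zero]
        | succ m ih => rw [zpow_add_one, ih, ← RootSub.Dickson.upR_add]; push_cast; rfl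
        | pred m ih =>
          rw [zpow_sub_one, ih, RootSub.Dickson.upR_inv, ← RootSub.Dickson.upR_add]
          congr 1
          push_cast
          ring
    have h1 : ⁅P, zpowers g⁆ ≤ F := by
      refine commutator_le.mpr fun y hy z hz => ?_
      obtain ⟨s, rfl⟩ := hgz z hz
      obtain ⟨a, b, c, hab⟩ := exists_mkT (g := e.symm y)
        ⟨0, RootSub.Dickson.upR_zero.trans (hy : π y = 1).symm⟩
      have hc : c = 0 := upR_injective ((congrArg (fun z : Affine (ZMod p) => z.right) hab).symm.trans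
        ((hy : π y = 1).trans RootSub.Dickson.upR_zero.symm))
      subst hc
      refine ⟨-(s * b), ?_⟩
      apply e.symm.injective
      rw [map_commutatorElement, MulEquiv.symm_apply_apply, MulEquiv.symm_apply_apply, hab,
        commutatorElement_def, mul_inv_eq_iff_eq_mul, mul_inv_eq_iff_eq_mul, mkT_mul, mkT_mul, mkT_mul]
      congr 1 <;> ring
    refine le_bot_iff.mp ((commutator_mono h1 le_rfl).trans (commutator_le.mpr ?_))
    rintro _ ⟨t, rfl⟩ z hz
    obtain ⟨s, rfl⟩ := hgz z hz
    rw [mem_bot, commutatorElement_eq_one_iff_mul_comm, ← map_mul, ← map_mul, mkT_mul, mkT_mul]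
    congr 2 <;> ring
  have h := hst P hP g hgP hq
  set C := (centralizer (P : Set Y)).subgroupOf (normalizer (P : Set Y))
  set D := ((Cfsg.pCore p (↥(normalizer (P : Set Y)) ⧸ C)).comap (QuotientGroup.mk' C)).map
    (normalizer (P : Set Y)).subtype
  have hgD : g ∈ D := ⟨⟨g, hgP⟩, h, rfl⟩
  set Q := D.map π
  have hQp : IsPGroup p Q := by
    rintro ⟨_, _, ⟨d, hd, rfl⟩, rfl⟩
    obtain ⟨k, hk⟩ := Core.pCore_isPGroup (p := p) ⟨_, hd⟩
    refine ⟨k, Subtype.ext ?_⟩
    have hk' : d ^ p ^ k ∈ C := (QuotientGroup.eq_one_iff _).mp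
      (by rw [QuotientGroup.mk_pow]; exact congrArg Subtype.val hk)
    rw [Subgroup.coe_pow, Subgroup.coe_one, ← map_pow]
    exact hC hk'
  have hDn : D.Normal := by
    have hn : ((Cfsg.pCore p (↥(normalizer (P : Set Y)) ⧸ C)).comap (QuotientGroup.mk' C)).Normal :=
      Normal.comap inferInstance _
    refine ⟨fun d hd y => ?_⟩
    obtain ⟨d', hd', rfl⟩ := hd
    exact ⟨_, hn.conj_mem d' hd'
      ⟨y, by rw [normalizer_eq_top_iff.mpr (MonoidHom.normal_ker π)]; exact mem_top y⟩, rfl⟩
  have hQn : Q.Normal := hDn.map π hπ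
  have hu : RootSub.Dickson.upR 1 ∈ Q := ⟨g, hgD, by simp [π, g]⟩
  have hl : RootSub.Dickson.lowR (-1) ∈ Q := by
    have := hQn.conj_mem _ hu (weyl p)
    rw [RootSub.Dickson.conj_upR (by rfl)] at this
    simpa [coe_weyl] using this
  have htop : Q = ⊤ := by
    refine RootSub.Dickson.eq_top_of_trans (fun r => ?_) fun r => ?_
    · have key : ∀ k : ℕ, RootSub.Dickson.upR (k : ZMod p) ∈ Q := fun k => by
        induction k with
        | zero => simp [RootSub.Dickson.upR_zero]
        | succ k ih => rw [Nat.cast_succ, RootSub.Dickson.upR_add]; exact mul_mem ih hu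
      simpa using key r.val
    · have key : ∀ k : ℕ, RootSub.Dickson.lowR (-(k : ZMod p)) ∈ Q := fun k => by
        induction k with
        | zero => simp [RootSub.Dickson.lowR_zero]
        | succ k ih =>
          rw [Nat.cast_succ, neg_add, RootSub.Dickson.lowR_add]
          exact mul_mem ih hl
      simpa using key (-r).val
  obtain ⟨n, hn⟩ := IsPGroup.iff_card.mp hQp
  rw [htop, Subgroup.card_top] at hn
  exact h2 ((Nat.prime_dvd_prime_iff_eq Nat.prime_two hp.out).mp
    (Nat.prime_two.dvd_of_dvd_pow (hn ▸ two_dvd_card_sl2 h2))).symm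

end Cfsg.Agent.QdFree

namespace Cfsg.Agent.QdFree

open Subgroup

universe u

variable {p : ℕ} [hp : Fact p.Prime]

theorem not_involves_section {G : Type u} [Group G] (hfree : ¬ Cfsg.Involves (Cfsg.qd p) G)
    (K R : Subgroup G) [(R.subgroupOf K).Normal] :
    ¬ Cfsg.Involves (Cfsg.qd p) (↥K ⧸ R.subgroupOf K) := fun h =>
  hfree (involves_of_subgroup (involves_of_surjective h (QuotientGroup.mk'_surjective _)))

/-- A functor that controls strong fusion in a copy of Qd(p) is absurd. -/
theorem not_controlsStrongFusion_functor {W : ∀ (Q : Type u) [Group Q], Subgroup Q}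
    (hW : Cfsg.IsCharPFunctor.{u} p W) {Y : Type u} [Group Y] [Finite Y] (e : Affine (ZMod p) ≃* Y)
    (T : Sylow p Y) : ¬ Cfsg.ControlsStrongFusion p (Cfsg.inducedFunctor W (T : Subgroup Y)) := by
  have hd : p ∣ Nat.card Y := by
    rw [← Nat.card_congr e.toEquiv, card_affine]
    exact Dvd.dvd.mul_right (dvd_pow_self p three_ne_zero) _
  have hnt : Nontrivial T :=
    (nontrivial_iff_ne_bot _).mpr fun h => T.ne_bot_of_dvd_card hd h
  exact not_controlsStrongFusion e T (hW.1 T T.2 hnt) (fun θ => hW.2 T T T.2 θ)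

end Cfsg.Agent.QdFree
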