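import Cfsg.Agent.QdFree.Involve
import Mathlib.GroupTheory.Perm.Sign
import Mathlib.Tactic.FinCases
import Mathlib.Tactic.Group

/-!
# A four-group with two transvections gives a section `S₄`

`involves_s4_of_plane` : two involutions `r`, `t` inducing different transvections on a four-group
`{1, u, w, uw}` give a section isomorphic to the symmetric group of degree 4.
-/

set_option autoImplicit false

namespace Cfsg.Agent.QdFree

open Subgroup

variable {G : Type*} [Group G]

/-- Two involutions inducing different transvections on a four-group give a section `S₄`. -/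
theorem involves_s4_of_plane {u w r t : G} (hr : r * r = 1) (ht : t * t = 1) (hu : u * u = 1)
    (hw : w * w = 1) (huw : u * w = w * u) (hu1 : u ≠ 1) (hw1 : w ≠ 1) (hne : u ≠ w)
    (hrw : r * w * r⁻¹ = w) (hru : r * u * r⁻¹ = w * u) (htu : t * u * t⁻¹ = u)
    (htw : t * w * t⁻¹ = u * w) : Cfsg.Involves (Equiv.Perm (Fin 4)) G := by
  classical
  have hri : r⁻¹ = r := inv_eq_of_mul_eq_one_left hr
  have hti : t⁻¹ = t := inv_eq_of_mul_eq_one_left ht
  have hui : u⁻¹ = u := inv_eq_of_mul_eq_one_left hu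
  have hwi : w⁻¹ = w := inv_eq_of_mul_eq_one_left hw
  have hp1 : u * w ≠ 1 := fun h => hne (by rw [eq_inv_of_mul_eq_one_left h, hwi])
  -- the dihedral group
  set H : Subgroup G := closure {r, t} with hH
  have hrH : r ∈ H := subset_closure (Or.inl rfl)
  have htH : t ∈ H := subset_closure (Or.inr rfl)
  set d := r * t with hd
  have hrd : r * d * r⁻¹ = d⁻¹ := by
    rw [hd, mul_inv_rev, hti, hri]
    calc r * (r * t) * r = (r * r) * t * r := by group
      _ = t * r := by rw [hr, one_mul]
  have hrdk : ∀ k : ℤ, r * d ^ k = d ^ (-k) * r := fun k => by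
    rw [zpow_neg, ← inv_zpow, ← hrd, conj_zpow, inv_mul_cancel_right]
  have hstruct : ∀ x ∈ H, x ∈ zpowers d ∨ x * r ∈ zpowers d := by
    have hstep : ∀ y : G, y ∈ zpowers d ∨ y * r ∈ zpowers d →
        (r * y ∈ zpowers d ∨ r * y * r ∈ zpowers d) ∧ (t * y ∈ zpowers d ∨ t * y * r ∈ zpowers d) := by
      have hr' : ∀ y : G, y ∈ zpowers d ∨ y * r ∈ zpowers d →
          (r * y ∈ zpowers d ∨ r * y * r ∈ zpowers d) := by
        rintro y (hy | hy) <;> obtain ⟨k, hk⟩ := mem_zpowers_iff.1 hy
        · right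
          rw [← hk, hrdk, mul_assoc, hr, mul_one]
          exact zpow_mem (mem_zpowers d) _
        · left
          have e : y = d ^ k * r := by rw [hk, mul_assoc, hr, mul_one]
          rw [e, ← mul_assoc, hrdk, mul_assoc, hr, mul_one]
          exact zpow_mem (mem_zpowers d) _
      refine fun y hy => ⟨hr' y hy, ?_⟩
      have e : t * y = r * (d * y) := by rw [hd, ← mul_assoc, ← mul_assoc, hr, one_mul]
      rw [e]
      exact hr' _ (hy.imp (mul_mem (mem_zpowers d))
        fun h => by rw [mul_assoc]; exact mul_mem (mem_zpowers d) h)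
    intro x hx
    refine closure_induction_left (p := fun x _ => x ∈ zpowers d ∨ x * r ∈ zpowers d)
      (Or.inl (one_mem _)) (fun z hz y _ hy => ?_) (fun z hz y _ hy => ?_) hx
    · rcases hz with rfl | rfl
      exacts [(hstep y hy).1, (hstep y hy).2]
    · rcases hz with rfl | rfl
      · rw [hri]; exact (hstep y hy).1
      · rw [hti]; exact (hstep y hy).2
  -- the action on the four-group
  have hrp : r * (u * w) * r⁻¹ = u := by
    rw [show r * (u * w) * r⁻¹ = (r * u * r⁻¹) * (r * w * r⁻¹) by group, hru, hrw, mul_assoc, huw,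
      ← mul_assoc, hw, one_mul]
  have htp : t * (u * w) * t⁻¹ = w := by
    rw [show t * (u * w) * t⁻¹ = (t * u * t⁻¹) * (t * w * t⁻¹) by group, htu, htw, ← mul_assoc, hu,
      one_mul]
  have hdu : d * u * d⁻¹ = u * w := by
    rw [hd, show r * t * u * (r * t)⁻¹ = r * (t * u * t⁻¹) * r⁻¹ by group, htu, hru, huw]
  have hdp : d * (u * w) * d⁻¹ = w := by
    rw [hd, show r * t * (u * w) * (r * t)⁻¹ = r * (t * (u * w) * t⁻¹) * r⁻¹ by group, htp, hrw]
  have hdw : d * w * d⁻¹ = u := by
    rw [hd, show r * t * w * (r * t)⁻¹ = r * (t * w * t⁻¹) * r⁻¹ by group, htw, hrp]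
  have hdH : d ∈ H := mul_mem hrH htH
  have hconj : ∀ {x : G}, x ∈ H → d * x * d⁻¹ ∈ H := fun hx =>
    mul_mem (mul_mem hdH hx) (inv_mem hdH)
  have hno : u ∉ H := by
    intro h1
    have h2 : u * w ∈ H := hdu ▸ hconj h1
    have h3 : w ∈ H := hdp ▸ hconj h2
    have hfix : ∀ y ∈ zpowers d, d * y * d⁻¹ = y := by
      rintro y hy
      obtain ⟨k, rfl⟩ := mem_zpowers_iff.1 hy
      group
    rcases hstruct u h1 with ha | ha
    · have := hdu.symm.trans (hfix u ha)
      exact hw1 (mul_eq_left.1 this)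
    rcases hstruct w h3 with hb | hb
    · exact hne (hdw.symm.trans (hfix w hb))
    have h4 : u * w ∈ zpowers d := by
      have := mul_mem ha (inv_mem hb)
      rwa [mul_inv_rev, ← mul_assoc, mul_inv_cancel_right, hwi] at this
    have := hdp.symm.trans (hfix _ h4)
    exact hu1 (mul_eq_right.1 this.symm)
  have hnw : w ∉ H := fun h => hno (hdw ▸ hconj h)
  have hnp : u * w ∉ H := fun h => hnw (hdp ▸ hconj h)
  -- the cosets
  set L : Subgroup G := closure {u, w, r, t} with hL
  have huL : u ∈ L := subset_closure (by simp)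
  have hwL : w ∈ L := subset_closure (by simp)
  have hrL : r ∈ L := subset_closure (by simp)
  have htL : t ∈ L := subset_closure (by simp)
  let f : Fin 4 → G := ![1, u, w, u * w]
  have hf : ∀ i, f i ∈ L := by
    intro i; fin_cases i
    exacts [one_mem _, huL, hwL, mul_mem huL hwL]
  let e : Fin 4 → L ⧸ H.subgroupOf L := fun i => QuotientGroup.mk (⟨f i, hf i⟩ : L)
  have he : ∀ i j, e i = e j ↔ (f i)⁻¹ * f j ∈ H := fun i j => by
    rw [QuotientGroup.eq]; rfl
  have einj : Function.Injective e := by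
    intro i j hij
    rw [he] at hij
    fin_cases i <;> fin_cases j <;> first
      | rfl
      | (exfalso
         simp only [f, Fin.zero_eta, Fin.mk_one, Fin.reduceFinMk, Matrix.cons_val, Fin.isValue,
           inv_one, one_mul, mul_one, mul_inv_rev, hui, hwi] at hij
         try simp only [huw, ← mul_assoc, hw, one_mul] at hij
         first
           | exact hno hij
           | exact hno (by rwa [← huw, mul_assoc, hw, mul_one] at hij)
           | exact hnw hij
           | exact hnp hij
           | exact hnp (huw.symm ▸ hij)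
           | exact hno (by simpa [mul_assoc, hu, hw] using hij)
           | exact hnw (by simpa [mul_assoc, hu, hw] using hij))
  -- the images of the four generators
  have hmove : ∀ (x : L) (i j : Fin 4) (h : G), h ∈ H → (x : G) * f i = f j * h → x • e i = e j := by
    intro x i j h hh hx
    show QuotientGroup.mk (x * ⟨f i, hf i⟩) = QuotientGroup.mk (⟨f j, hf j⟩ : L)
    refine QuotientGroup.eq.2 ?_
    show ((x : G) * f i)⁻¹ * f j ∈ H
    rw [hx, mul_inv_rev, inv_mul_cancel_right]
    exact inv_mem hh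
  have hcH : ∀ {a b c : G}, a * b * a⁻¹ = c → a * b = c * a := fun h => mul_inv_eq_iff_eq_mul.1 h
  let σr : Equiv.Perm (Fin 4) := Equiv.swap 1 3
  let σt : Equiv.Perm (Fin 4) := Equiv.swap 2 3
  let σu : Equiv.Perm (Fin 4) := Equiv.swap 0 1 * Equiv.swap 2 3
  let σw : Equiv.Perm (Fin 4) := Equiv.swap 0 2 * Equiv.swap 1 3
  have hR : ∀ i, (⟨r, hrL⟩ : L) • e i = e (σr i) := by
    intro i
    refine hmove _ _ _ r hrH ?_
    fin_cases i
    · show r * 1 = 1 * r
      rw [mul_one, one_mul]
    · show r * u = (u * w) * r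
      rw [huw]; exact hcH hru
    · show r * w = w * r
      exact hcH hrw
    · show r * (u * w) = u * r
      exact hcH hrp
  have hT : ∀ i, (⟨t, htL⟩ : L) • e i = e (σt i) := by
    intro i
    refine hmove _ _ _ t htH ?_
    fin_cases i
    · show t * 1 = 1 * t
      rw [mul_one, one_mul]
    · show t * u = u * t
      exact hcH htu
    · show t * w = (u * w) * t
      exact hcH htw
    · show t * (u * w) = w * t
      exact hcH htp
  have hU : ∀ i, (⟨u, huL⟩ : L) • e i = e (σu i) := by
    intro i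
    refine hmove _ _ _ 1 (one_mem _) ?_
    fin_cases i
    · show u * 1 = u * 1
      rfl
    · show u * u = 1 * 1
      rw [hu, one_mul]
    · show u * w = u * w * 1
      rw [mul_one]
    · show u * (u * w) = w * 1
      rw [← mul_assoc, hu, one_mul, mul_one]
  have hW : ∀ i, (⟨w, hwL⟩ : L) • e i = e (σw i) := by
    intro i
    refine hmove _ _ _ 1 (one_mem _) ?_
    fin_cases i
    · show w * 1 = w * 1
      rfl
    · show w * u = u * w * 1
      rw [huw, mul_one]
    · show w * w = 1 * 1
      rw [hw, one_mul]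
    · show w * (u * w) = u * 1
      rw [huw, ← mul_assoc, hw, one_mul, mul_one]
  have esurj : Function.Surjective e := by
    have key : ∀ x (hx : x ∈ L), ∀ i, ∃ j, (⟨x, hx⟩ : L) • e i = e j := by
      intro x hx
      refine closure_induction_left (p := fun x hx => ∀ i, ∃ j, (⟨x, hx⟩ : L) • e i = e j)
        (fun i => ⟨i, one_smul _ _⟩) (fun z hz y hy ih i => ?_) (fun z hz y hy ih i => ?_) hx
      all_goals obtain ⟨j, hj⟩ := ih i
      · have e1 : (⟨z * y, mul_mem (subset_closure hz) hy⟩ : L) =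
          ⟨z, subset_closure hz⟩ * ⟨y, hy⟩ := rfl
        rw [e1, mul_smul, hj]
        rcases hz with rfl | rfl | rfl | rfl
        exacts [⟨_, hU j⟩, ⟨_, hW j⟩, ⟨_, hR j⟩, ⟨_, hT j⟩]
      · have e1 : (⟨z⁻¹ * y, mul_mem (inv_mem (subset_closure hz)) hy⟩ : L) =
          ⟨z⁻¹, inv_mem (subset_closure hz)⟩ * ⟨y, hy⟩ := rfl
        rw [e1, mul_smul, hj]
        rcases hz with rfl | rfl | rfl | rfl
        · exact ⟨_, (congrArg (· • e j) (Subtype.ext hui)).trans (hU j)⟩
        · exact ⟨_, (congrArg (· • e j) (Subtype.ext hwi)).trans (hW j)⟩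
        · exact ⟨_, (congrArg (· • e j) (Subtype.ext hri)).trans (hR j)⟩
        · exact ⟨_, (congrArg (· • e j) (Subtype.ext hti)).trans (hT j)⟩
    intro c
    obtain ⟨⟨x, hx⟩, rfl⟩ := QuotientGroup.mk_surjective c
    obtain ⟨j, hj⟩ := key x hx 0
    refine ⟨j, hj.symm.trans ?_⟩
    show QuotientGroup.mk ((⟨x, hx⟩ : L) * ⟨f 0, hf 0⟩) = _
    congr 1
    exact Subtype.ext (mul_one x)
  let E : Fin 4 ≃ L ⧸ H.subgroupOf L := Equiv.ofBijective e ⟨einj, esurj⟩
  let ψ : L →* Equiv.Perm (Fin 4) :=
    E.symm.permCongrHom.toMonoidHom.comp (MulAction.toPermHom L (L ⧸ H.subgroupOf L))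
  have hψ : ∀ (x : L) (σ : Equiv.Perm (Fin 4)), (∀ i, x • e i = e (σ i)) → σ ∈ ψ.range := by
    refine fun x σ h => ⟨x, Equiv.ext fun i => E.injective ?_⟩
    show E (E.symm (x • E i)) = E (σ i)
    rw [Equiv.apply_symm_apply]
    exact h i
  have ha := hψ _ _ hR
  have hb := hψ _ _ hT
  have hc : Equiv.swap (0 : Fin 4) 1 ∈ ψ.range := by
    have := mul_mem (hψ _ _ hU) hb
    rwa [show σu * σt = Equiv.swap (0 : Fin 4) 1 by decide] at this
  have hsurj : Function.Surjective ψ := by
    rw [← MonoidHom.range_eq_top, eq_top_iff, ← Equiv.Perm.closure_isSwap, closure_le]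
    rintro σ ⟨x, y, hxy, rfl⟩
    have hall : ∀ x y : Fin 4, x ≠ y → Equiv.swap x y = σr ∨ Equiv.swap x y = σt ∨
        Equiv.swap x y = Equiv.swap 0 1 ∨ Equiv.swap x y = σr * σt * σr ∨
        Equiv.swap x y = Equiv.swap 0 1 * σr * Equiv.swap 0 1 ∨
        Equiv.swap x y = Equiv.swap 0 1 * (σr * σt * σr) * Equiv.swap 0 1 := by decide
    rcases hall x y hxy with h | h | h | h | h | h <;> rw [h]
    exacts [ha, hb, hc, mul_mem (mul_mem ha hb) ha, mul_mem (mul_mem hc ha) hc,
      mul_mem (mul_mem hc (mul_mem (mul_mem ha hb) ha)) hc]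
  exact involves_mk L ψ hsurj

end Cfsg.Agent.QdFree
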