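import Cfsg.Agent.FusSys.Transvection
import Cfsg.Agent.Thompson.Basic
import Cfsg.Agent.Core.PCore
import Cfsg.Agent.Coprime.Basic
import Cfsg.Agent.Coprime.Hall
import Cfsg.Agent.QdFree.ZJControl

/-!
# Class two Sylow 2-subgroups in groups without `S₄`

`exists_abelian_faithful` : an elementary 2-group acting on a self-centralizing nilpotent odd normal
subgroup `F` is faithful on an abelian invariant subgroup of `F`.
`le_of_maxEA` : in an `S₄`-free group with `C(T) ≤ T`, `T` a normal 2-subgroup, and `S` of class at most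
two, a largest elementary abelian subgroup of `S` lies in `T`, if `G ⧸ T` has such a subgroup `F`.
-/

set_option autoImplicit false
set_option maxHeartbeats 400000

namespace Cfsg.Agent.QdFree.ClassTwo

open Subgroup
open Cfsg.Agent
open scoped commutatorElement

universe u

variable {G : Type u} [Group G] [Finite G]

theorem eq_one_of_sq {K : Subgroup G} (hK : (Nat.card K).Coprime 2) {z : G} (hz : z ∈ K)
    (h : z * z = 1) : z = 1 := by
  refine orderOf_eq_one_iff.mp (Nat.eq_one_of_dvd_coprimes hK (orderOf_dvd_natCard K hz) ?_)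
  exact orderOf_dvd_of_pow_eq_one (by rw [pow_two, h])

theorem centralizes_of_selfCentral {F Q : Subgroup G} [Group.IsNilpotent F]
    (hF : (Nat.card F).Coprime 2) (hQ : Q ≤ F) (hQs : F ⊓ centralizer (Q : Set G) ≤ Q) {a : G}
    (haF : a ∈ normalizer (F : Set G)) (ha : a * a = 1) (haQ : a ∈ centralizer (Q : Set G)) :
    a ∈ centralizer (F : Set G) := by
  set H := F ⊓ centralizer ({a} : Set G) with hH
  suffices h : F ≤ H from mem_centralizer_iff.mpr fun y hy => mem_centralizer_singleton_iff.mp (h hy).2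
  have hQH : Q ≤ H := fun y hy => ⟨hQ hy, mem_centralizer_singleton_iff.mpr (mem_centralizer_iff.mp haQ y hy)⟩
  by_contra hne
  have hlt : H.subgroupOf F < ⊤ := lt_top_iff_ne_top.mpr fun h => hne (subgroupOf_eq_top.mp h)
  obtain ⟨x, hxN, hxH⟩ := SetLike.exists_of_lt (Group.normalizerCondition_of_isNilpotent (H.subgroupOf F) hlt)
  refine hxH ⟨x.2, mem_centralizer_singleton_iff.mpr ?_⟩
  set z := a * (x : G) * a⁻¹ * (x : G)⁻¹ with hz
  have hzF : z ∈ F := mul_mem ((mem_normalizer_iff.mp haF _).mp x.2) (inv_mem x.2)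
  have hzQ : z ∈ Q := by
    refine hQs ⟨hzF, mem_centralizer_iff.mpr fun y hy => ?_⟩
    have h1 : (x : G)⁻¹ * y * (x : G) ∈ H :=
      (mem_normalizer_iff''.mp hxN ⟨y, hQ hy⟩).mp (hQH hy)
    have h3 : y * a = a * y := mem_centralizer_singleton_iff.mp (hQH hy).2
    have h4 : a * ((x : G)⁻¹ * y * (x : G)) * a⁻¹ = (x : G)⁻¹ * y * (x : G) := by
      rw [← mem_centralizer_singleton_iff.mp h1.2, mul_inv_cancel_right]
    calc y * z = y * a * ((x : G) * a⁻¹ * (x : G)⁻¹) := by rw [hz]; group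
      _ = a * (x : G) * ((x : G)⁻¹ * y * (x : G)) * a⁻¹ * (x : G)⁻¹ := by rw [h3]; group
      _ = a * (x : G) * a⁻¹ * ((x : G)⁻¹ * y * (x : G)) * (x : G)⁻¹ := by
        conv_rhs => rw [← h4]
        group
      _ = z * y := by rw [hz]; group
  have hza : z * a = a * z := mem_centralizer_singleton_iff.mp (hQH hzQ).2
  have hzz : z * z = 1 := by
    have h1 : a * z * a⁻¹ * z = 1 := by
      calc a * z * a⁻¹ * z = (a * a) * (x : G) * (a * a)⁻¹ * (x : G)⁻¹ := by rw [hz]; group
        _ = 1 := by rw [ha]; group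
    rwa [← hza, mul_inv_cancel_right] at h1
  have hz1 := eq_one_of_sq hF hzF hzz
  rw [hz, mul_inv_eq_one, mul_inv_eq_iff_eq_mul] at hz1
  exact hz1.symm

/-- An elementary 2-group is faithful on an abelian subgroup of `F`. -/
theorem exists_abelian_faithful {F A : Subgroup G} [Group.IsNilpotent F] (hF : (Nat.card F).Coprime 2)
    (hA : Cfsg.IsElementaryAbelian 2 A) (hAF : A ≤ normalizer (F : Set G)) :
    ∃ Q, Q ≤ F ∧ IsMulCommutative Q ∧ A ≤ normalizer (Q : Set G) ∧
      A ⊓ centralizer (Q : Set G) ≤ centralizer (F : Set G) := by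
  classical
  have hAc : ∀ a ∈ A, ∀ b ∈ A, Commute a b := fun a ha b hb =>
    congrArg Subtype.val (hA.1.is_comm.comm (⟨a, ha⟩ : A) ⟨b, hb⟩)
  obtain ⟨Q, ⟨hQF, hQc, hAQ⟩, hmax⟩ := (Set.toFinite {Q : Subgroup G | Q ≤ F ∧
      Q ≤ centralizer (Q : Set G) ∧ A ≤ normalizer (Q : Set G)}).exists_maximal
    ⟨⊥, bot_le, bot_le, fun a _ => mem_normalizer_iff.mpr fun x => by simp⟩
  refine ⟨Q, hQF, le_centralizer_iff_isMulCommutative.mp hQc, hAQ, fun a ha => ?_⟩
  refine centralizes_of_selfCentral hF hQF ?_ (hAF ha.1) (by rw [← pow_two]; exact hA.2 a ha.1) ha.2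
  set C := F ⊓ centralizer (Q : Set G) with hC
  have hQC : Q ≤ C := le_inf hQF hQc
  by_contra hne
  have hAC : ∀ b ∈ A, ∀ c ∈ C, b * c * b⁻¹ ∈ C := by
    refine fun b hb c hc => ⟨(mem_normalizer_iff.mp (hAF hb) c).mp hc.1, mem_centralizer_iff.mpr fun y hy => ?_⟩
    have h1 := mem_centralizer_iff.mp hc.2 _ ((mem_normalizer_iff''.mp (hAQ hb) y).mp hy)
    calc y * (b * c * b⁻¹) = b * ((b⁻¹ * y * b) * c) * b⁻¹ := by group
      _ = _ := by rw [h1]; group
  -- the centre of `C` is `Q`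
  set M := C ⊓ centralizer (C : Set G) with hM
  have hMQ : M ≤ Q := by
    refine hmax ⟨inf_le_left.trans inf_le_left,
      le_centralizer_iff.mp (inf_le_right.trans (centralizer_le inf_le_left)), fun b hb => ?_⟩
      (le_inf hQC (le_centralizer_iff.mp inf_le_right))
    refine ZJControl.mem_normalizer_of_conj fun c hc => ⟨hAC b hb c hc.1, mem_centralizer_iff.mpr fun y hy => ?_⟩
    have hy' : b⁻¹ * y * b ∈ C := by simpa using hAC b⁻¹ (inv_mem hb) y hy
    have h1 := mem_centralizer_iff.mp hc.2 _ hy'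
    calc y * (b * c * b⁻¹) = b * ((b⁻¹ * y * b) * c) * b⁻¹ := by group
      _ = _ := by rw [h1]; group
  -- an element of the second centre outside `Q`
  let Z₂ : G → Prop := fun c => c ∈ C ∧ ∀ d ∈ C, ⁅c, d⁆ ∈ Q
  obtain ⟨c₀, hc₀, hc₀Q⟩ : ∃ c, Z₂ c ∧ c ∉ Q := by
    have : Group.IsNilpotent C := Group.nilpotent_of_surjective
      (subgroupOfEquivOfLe (inf_le_left : C ≤ F)).toMonoidHom (subgroupOfEquivOfLe _).surjective
    by_contra hno
    push Not at hno
    have key : ∀ n : ℕ, ∀ y : C, y ∈ Subgroup.upperCentralSeries C n → (y : G) ∈ Q := by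
      intro n
      induction n with
      | zero =>
        intro y hy
        rw [Subgroup.upperCentralSeries_zero, mem_bot] at hy
        rw [hy]; exact one_mem _
      | succ n ih =>
        exact fun y hy => hno _ ⟨y.2, fun d hd =>
          ih ⁅y, (⟨d, hd⟩ : C)⁆ (Subgroup.mem_upperCentralSeries_succ_iff.mp hy ⟨d, hd⟩)⟩
    obtain ⟨n, hn⟩ := Group.IsNilpotent.nilpotent C
    exact hne fun y hy => key n ⟨y, hy⟩ (hn ▸ mem_top _)
  -- conjugation modulo `Q` inside the second centre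
  set Qc := Q.subgroupOf C
  have hQcn : Qc.Normal := ⟨fun y hy c => by
    show (c : G) * (y : G) * (c : G)⁻¹ ∈ Q
    have h1 : (y : G) * c = c * y := mem_centralizer_iff.mp c.2.2 _ hy
    rw [← h1, mul_inv_cancel_right]; exact hy⟩
  let π : C →* C ⧸ Qc := QuotientGroup.mk' Qc
  have hcomm : ∀ {c : C}, Z₂ c → ∀ d : C, Commute (π c) (π d) := fun {c} hc d =>
    commutatorElement_eq_one_iff_commute.mp ((map_commutatorElement π c d).symm.trans
      ((QuotientGroup.eq_one_iff _).mpr (hc.2 d d.2)))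
  have hconjZ : ∀ b ∈ A, ∀ {c}, Z₂ c → Z₂ (b * c * b⁻¹) := by
    refine fun b hb c hc => ⟨hAC b hb c hc.1, fun d hd => ?_⟩
    have h1 := (mem_normalizer_iff.mp (hAQ hb) _).mp
      (hc.2 _ (show b⁻¹ * d * b ∈ C by simpa using hAC b⁻¹ (inv_mem hb) d hd))
    convert h1 using 1
    simp only [commutatorElement_def]; group
  have hmulZ : ∀ {c c'}, Z₂ c → Z₂ c' → Z₂ (c * c') := by
    refine fun {c c'} hc hc' => ⟨mul_mem hc.1 hc'.1, fun d hd => (QuotientGroup.eq_one_iff (N := Qc)
      ⁅(⟨c, hc.1⟩ * ⟨c', hc'.1⟩ : C), ⟨d, hd⟩⁆).mp ?_⟩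
    show π _ = 1
    rw [map_commutatorElement, map_mul, commutatorElement_eq_one_iff_commute]
    exact (hcomm (c := ⟨c, hc.1⟩) hc ⟨d, hd⟩).mul_left (hcomm (c := ⟨c', hc'.1⟩) hc' ⟨d, hd⟩)
  have hinvZ : ∀ {c}, Z₂ c → Z₂ c⁻¹ := by
    refine fun {c} hc => ⟨inv_mem hc.1, fun d hd => (QuotientGroup.eq_one_iff (N := Qc)
      ⁅((⟨c, hc.1⟩ : C)⁻¹), ⟨d, hd⟩⁆).mp ?_⟩
    show π _ = 1
    rw [map_commutatorElement, map_inv, commutatorElement_eq_one_iff_commute]
    exact (hcomm (c := ⟨c, hc.1⟩) hc ⟨d, hd⟩).inv_left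
  let cj : A → C →* C := fun b => MonoidHom.mk'
    (fun c => ⟨(b : G) * (c : G) * (b : G)⁻¹, hAC b b.2 c c.2⟩) fun c d => Subtype.ext (by simp [mul_assoc])
  have hcjQ : ∀ (b : A) {c d : C}, π c = π d → π (cj b c) = π (cj b d) := by
    intro b c d h
    have h1 : c⁻¹ * d ∈ Qc := QuotientGroup.eq.mp h
    refine QuotientGroup.eq.mpr ?_
    rw [← map_inv, ← map_mul]
    exact (mem_normalizer_iff.mp (hAQ b.2) _).mp h1
  let Eig : A → C → Prop := fun b c => π (cj b c) = π c ∨ π (cj b c) = (π c)⁻¹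
  obtain ⟨Bs, ⟨c, hc, hcQ, hcB⟩, hBmax⟩ := (Set.toFinite {B : Set A | ∃ c : C, Z₂ c ∧ (c : G) ∉ Q ∧
      ∀ b ∈ B, Eig b c}).exists_maximal ⟨∅, ⟨c₀, hc₀.1⟩, hc₀, hc₀Q, by simp⟩
  have hall : ∀ b : A, Eig b c := by
    intro b
    by_contra hb
    set d := cj b c with hd
    have hdZ : Z₂ d := hconjZ b b.2 hc
    have hbd : cj b d = c := Subtype.ext (by
      show (b : G) * ((b : G) * (c : G) * (b : G)⁻¹) * (b : G)⁻¹ = c
      have h2 : (b : G) * b = 1 := by rw [← pow_two]; exact hA.2 _ b.2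
      calc (b : G) * ((b : G) * (c : G) * (b : G)⁻¹) * (b : G)⁻¹
          = ((b : G) * b) * c * ((b : G) * b)⁻¹ := by group
        _ = c := by rw [h2]; group)
    have hcd := hcomm hc d
    have hkeep : ∀ b' ∈ Bs, Eig b' (c * d) ∧ Eig b' (c⁻¹ * d) := by
      intro b' hb'
      have hswap : cj b' d = cj b (cj b' c) := Subtype.ext (by
        show (b' : G) * ((b : G) * (c : G) * (b : G)⁻¹) * (b' : G)⁻¹ =
          (b : G) * ((b' : G) * (c : G) * (b' : G)⁻¹) * (b : G)⁻¹
        calc _ = ((b' : G) * b) * c * ((b' : G) * b)⁻¹ := by group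
          _ = _ := by rw [(hAc _ b'.2 _ b.2).eq]; group)
      rcases hcB b' hb' with h | h
      · have h' : π (cj b' d) = π d := by rw [hswap]; exact hcjQ b h
        exact ⟨Or.inl (by rw [map_mul, map_mul, map_mul, h, h']),
          Or.inl (by rw [map_mul, map_inv, map_mul, map_mul, map_inv, map_inv, h, h'])⟩
      · have h' : π (cj b' d) = (π d)⁻¹ := by
          rw [hswap, hcjQ b (d := c⁻¹) (by rw [h, map_inv]), map_inv, map_inv]
        exact ⟨Or.inr (by rw [map_mul, map_mul, map_mul, h, h', mul_inv_rev, (hcd.inv_inv).eq]),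
          Or.inr (by
            rw [map_mul, map_inv, map_mul, map_mul, map_inv, map_inv, h, h', inv_inv, mul_inv_rev, inv_inv]
            exact (hcd.inv_right).eq)⟩
    have hbnot : b ∉ Bs := fun h => hb (hcB b h)
    have hext : ∀ e : C, Z₂ e → (∀ b' ∈ Bs, Eig b' e) → Eig b e → (e : G) ∈ Q := by
      intro e he h1 h2
      by_contra heQ
      exact hbnot ((hBmax (y := insert b Bs) ⟨e, he, heQ, fun b' hb' => by
        rcases Set.mem_insert_iff.mp hb' with rfl | h'
        exacts [h2, h1 b' h']⟩ (Set.subset_insert _ _)) (Set.mem_insert _ _))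
    have q1 := hext (c * d) (hmulZ hc hdZ) (fun b' hb' => (hkeep b' hb').1)
      (Or.inl (by rw [map_mul, map_mul, hbd, map_mul, hcd.eq]))
    have q2 := hext (c⁻¹ * d) (hmulZ (hinvZ hc) hdZ) (fun b' hb' => (hkeep b' hb').2)
      (Or.inr (by rw [map_mul, map_inv, hbd, map_mul, map_inv, map_mul, map_inv, mul_inv_rev, inv_inv]))
    have h3 : (π c) * (π c) = 1 := by
      have e1 : π (c * d) = 1 := (QuotientGroup.eq_one_iff _).mpr q1
      have e2 : π (c⁻¹ * d) = 1 := (QuotientGroup.eq_one_iff _).mpr q2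
      rw [map_mul, map_inv, inv_mul_eq_one] at e2
      rwa [map_mul, ← e2] at e1
    refine hcQ ((QuotientGroup.eq_one_iff (N := Qc) c).mp ?_)
    refine orderOf_eq_one_iff.mp (Nat.eq_one_of_dvd_coprimes hF ?_ (orderOf_dvd_of_pow_eq_one (by rw [pow_two]; exact h3)))
    refine (orderOf_map_dvd π c).trans ?_
    rw [← Subgroup.orderOf_coe]
    exact orderOf_dvd_natCard F c.2.1
  -- contradiction with maximality
  refine hcQ (hmax (y := Q ⊔ zpowers (c : G)) ⟨sup_le hQF (zpowers_le.mpr c.2.1), ?_, fun b hb => ?_⟩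
    le_sup_left (mem_sup_right (mem_zpowers _)))
  · have hcc : zpowers (c : G) ≤ centralizer (Q : Set G) := zpowers_le.mpr c.2.2
    exact sup_le (le_centralizer_iff.mp (sup_le hQc hcc))
      (le_centralizer_iff.mp (sup_le (le_centralizer_iff.mp hcc) (le_centralizer _)))
  · refine ZJControl.mem_normalizer_of_conj fun x hx => ?_
    set R := Q ⊔ zpowers (c : G)
    have hle : R.map (MulAut.conj b).toMonoidHom ≤ R := by
      rw [Subgroup.map_sup, MonoidHom.map_zpowers]
      refine sup_le ?_ (zpowers_le.mpr ?_)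
      · rintro _ ⟨y, hy, rfl⟩
        exact mem_sup_left ((mem_normalizer_iff.mp (hAQ hb) y).mp hy)
      · show b * (c : G) * b⁻¹ ∈ R
        rcases hall ⟨b, hb⟩ with h | h
        · have h1 : ((c⁻¹ * cj ⟨b, hb⟩ c : C) : G) ∈ Q := (QuotientGroup.eq.mp h.symm : c⁻¹ * cj ⟨b, hb⟩ c ∈ Qc)
          have := mul_mem (mem_sup_right (mem_zpowers (c : G)) : (c : G) ∈ R) (mem_sup_left h1)
          simpa [cj] using this
        · rw [← map_inv] at h
          have h1 : ((c⁻¹⁻¹ * cj ⟨b, hb⟩ c : C) : G) ∈ Q := (QuotientGroup.eq.mp h.symm : c⁻¹⁻¹ * cj ⟨b, hb⟩ c ∈ Qc)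
          have := mul_mem (inv_mem (mem_sup_right (mem_zpowers (c : G))) : (c : G)⁻¹ ∈ R) (mem_sup_left h1)
          simpa [cj] using this
    exact hle ⟨x, hx, rfl⟩

/-- A largest elementary abelian subgroup of a class two Sylow 2-subgroup lies in `T`. -/
theorem le_of_maxEA (hS4 : ¬ Cfsg.Involves (Equiv.Perm (Fin 4)) G) {T : Subgroup G} [T.Normal]
    (hT : IsPGroup 2 T) (hCT : centralizer (T : Set G) ≤ T) {F : Subgroup (G ⧸ T)} [F.Normal]
    [Group.IsNilpotent F] (hFo : (Nat.card F).Coprime 2) (hFc : centralizer (F : Set (G ⧸ T)) ≤ F)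
    (S : Sylow 2 G) (hcl : ∀ s ∈ (S : Subgroup G), ∀ t ∈ (S : Subgroup G), ∀ r ∈ (S : Subgroup G),
      Commute ⁅s, t⁆ r) {A : Subgroup G} (hAS : A ≤ (S : Subgroup G))
    (hA : Cfsg.IsElementaryAbelian 2 A)
    (hmax : ∀ B ≤ (S : Subgroup G), Cfsg.IsElementaryAbelian 2 B → Nat.card B ≤ Nat.card A) : A ≤ T := by
  classical
  set q := QuotientGroup.mk' T
  have hq : Function.Surjective q := QuotientGroup.mk'_surjective T
  have hker : ∀ {x : G}, q x = 1 ↔ x ∈ T := fun {x} => QuotientGroup.eq_one_iff x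
  have hTS : T ≤ (S : Subgroup G) := (Core.le_pCore hT).trans (Core.pCore_le_sylow S)
  -- `A` centralizes `T / Z(T)`
  set Z := T ⊓ centralizer (T : Set G)
  have := ZJControl.centralizer_normal T
  have hZn : Z.Normal := inferInstance
  set π := QuotientGroup.mk' Z
  have hTn' : (T.map π).Normal := (inferInstance : T.Normal).map π (QuotientGroup.mk'_surjective Z)
  have := ZJControl.centralizer_normal (T.map π)
  set K := (centralizer (T.map π : Set (G ⧸ Z))).comap π
  have hKn : K.Normal := (inferInstance : (centralizer (T.map π : Set (G ⧸ Z))).Normal).comap π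
  have hcomm_mem : ∀ s ∈ (S : Subgroup G), ∀ t ∈ T, ⁅t, s⁆ ∈ Z := by
    refine fun s hs t ht => ⟨?_, mem_centralizer_iff.mpr fun r hr =>
      (hcl t (hTS ht) s hs r (hTS hr)).eq.symm⟩
    rw [commutatorElement_def, show t * s * t⁻¹ * s⁻¹ = t * (s * t⁻¹ * s⁻¹) by group]
    exact mul_mem ht ((inferInstance : T.Normal).conj_mem _ (inv_mem ht) s)
  have hSK : (S : Subgroup G) ≤ K := by
    intro s hs
    refine mem_centralizer_iff.mpr ?_
    rintro _ ⟨t, ht, rfl⟩
    refine commutatorElement_eq_one_iff_mul_comm.mp ?_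
    rw [← map_commutatorElement]
    exact (QuotientGroup.eq_one_iff _).mpr (hcomm_mem s hs t ht)
  -- an abelian subgroup of `F` on which `A` is faithful
  set Ab := A.map q
  obtain ⟨Qb, hQbF, hQbc, hAQb, hQbf⟩ := exists_abelian_faithful (A := Ab) hFo (Thompson.ea_map hA q)
    (le_normalizer_of_normal)
  by_contra hne
  have hfaith : ∀ a ∈ A, q a ∈ centralizer (Qb : Set (G ⧸ T)) → a ∈ T := by
    intro a ha hac
    have h1 := hFc (hQbf ⟨mem_map_of_mem q ha, hac⟩)
    refine hker.mp (eq_one_of_sq hFo h1 ?_)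
    rw [← map_mul, ← pow_two, hA.2 a ha, map_one]
  -- lift it
  set H := Qb.comap q
  have hTH : T ≤ H := fun t ht => by
    show q t ∈ Qb
    rw [hker.mpr ht]; exact one_mem _
  have hQbcop : (Nat.card Qb).Coprime 2 := hFo.coprime_dvd_left (card_dvd_of_le hQbF)
  obtain ⟨k, hk⟩ := IsPGroup.iff_card.mp hT
  have hidx : (T.subgroupOf H).index = Nat.card Qb := by
    show T.relIndex H = _
    have e1 := Subgroup.relIndex_ker (K := H) q
    rw [map_comap_eq_self_of_surjective hq] at e1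
    rw [← e1]
    exact congrArg (fun X => X.relIndex H) (QuotientGroup.ker_mk' T).symm
  obtain ⟨Q', hQ'⟩ := exists_right_complement'_of_coprime (N := T.subgroupOf H) (by
    rw [hidx, Nat.card_congr (subgroupOfEquivOfLe hTH).toEquiv, hk]
    exact Nat.Coprime.pow_left _ hQbcop.symm)
  set Q := Q'.map H.subtype
  have hQH : Q ≤ H := map_subtype_le _
  have hQcard : Nat.card Q = Nat.card Qb := by
    rw [card_map_of_injective H.subtype_injective, ← hQ'.symm.index_eq_card, hidx]
  have hHeq : H = T ⊔ Q := by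
    have h1 := congrArg (Subgroup.map H.subtype) hQ'.sup_eq_top
    rw [Subgroup.map_sup, map_subgroupOf_eq_of_le hTH, ← MonoidHom.range_eq_map, range_subtype] at h1
    exact h1.symm
  have hQo : (Nat.card Q).Coprime 2 := hQcard ▸ hQbcop
  have hQT : ∀ x ∈ Q, x ∈ T → x = 1 := by
    intro x hx hxT
    obtain ⟨j, hj⟩ := hT ⟨x, hxT⟩
    exact orderOf_eq_one_iff.mp (Nat.eq_one_of_dvd_coprimes (hQo.pow_right j) (orderOf_dvd_natCard Q hx)
      (orderOf_dvd_of_pow_eq_one (congrArg Subtype.val hj)))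
  have hQq : ∀ x ∈ Q, q x ∈ Qb := fun x hx => hQH hx
  have hQc : IsMulCommutative Q := by
    refine ⟨⟨fun x y => Subtype.ext ?_⟩⟩
    show (x : G) * y = y * x
    have h1 : ⁅(x : G), (y : G)⁆ ∈ T := hker.mp (by
      rw [map_commutatorElement, commutatorElement_eq_one_iff_mul_comm]
      exact congrArg Subtype.val (hQbc.is_comm.comm (⟨q x, hQq x x.2⟩ : Qb) ⟨q y, hQq y y.2⟩))
    exact commutatorElement_eq_one_iff_mul_comm.mp (hQT _
      (mul_mem (mul_mem (mul_mem x.2 y.2) (inv_mem x.2)) (inv_mem y.2)) h1)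
  -- a supplement of `T` in `T A` normalizing `Q`
  set A' := normalizer (Q : Set G) ⊓ (T ⊔ A)
  have hA'sup : A ≤ T ⊔ A' := by
    intro a ha
    set B := Q.map (MulAut.conj a).toMonoidHom
    have hBle : B ≤ T ⊔ Q := by
      rintro _ ⟨x, hx, rfl⟩
      rw [← hHeq]
      show q (a * x * a⁻¹) ∈ Qb
      rw [map_mul, map_mul, map_inv]
      exact (mem_normalizer_iff.mp (hAQb (mem_map_of_mem q ha)) _).mp (hQq x hx)
    obtain ⟨t, ht, hte⟩ := Coprime.exists_conj_eq (A := Q) (K := T) (B := B) le_normalizer_of_normal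
      (by rw [hk]; exact hQo.pow_right k) (Or.inr (Layer.isSolvable_of_isPGroup hT)) hBle
      (card_map_of_injective (MulAut.conj a).injective)
    have hta : t * a ∈ A' := by
      refine ⟨ZJControl.mem_normalizer_of_conj fun x hx => ?_, mul_mem (mem_sup_left ht) (mem_sup_right ha)⟩
      rw [← hte]
      exact ⟨a * x * a⁻¹, ⟨x, hx, rfl⟩, by simp [mul_assoc]⟩
    have := mul_mem (mem_sup_left (inv_mem ht) : t⁻¹ ∈ T ⊔ A') (mem_sup_right hta)
    rwa [inv_mul_cancel_left] at this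
  set Q1 := ⁅Q, A'⁆
  have hQ1Q : Q1 ≤ Q := Coprime.commutator_le_of_le_normalizer inf_le_left
  have hA'Q1 : A' ≤ normalizer (Q1 : Set G) := le_sup_right.trans Coprime.le_normalizer_commutator
  have hA'S : A' ≤ (S : Subgroup G) := inf_le_right.trans (sup_le hTS hAS)
  have hQ1K : Q1 ≤ K := commutator_le.mpr fun x _ a ha => by
    rw [commutatorElement_def]
    exact mul_mem (hKn.conj_mem _ (hSK (hA'S ha)) x) (inv_mem (hSK (hA'S ha)))
  set V := Cfsg.omegaOne 2 Z
  have hVea : Cfsg.IsElementaryAbelian 2 V := Thompson.omegaOne_ea (inf_le_right.trans (centralizer_le inf_le_left))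
  have hVZ : V ≤ Z := Thompson.omegaOne_le 2 Z
  have hVn : V.Normal := by
    refine ⟨fun v hv g => ?_⟩
    have h1 : (Z.map (MulAut.conj g).toMonoidHom) = Z := Subgroup.Normal.map_conj_eq Z g
    have h2 := mem_map_of_mem (MulAut.conj g).toMonoidHom hv
    rw [Thompson.omegaOne_map_of_injective (MulAut.conj g).injective, h1] at h2
    simpa using h2
  set C := centralizer (V : Set G)
  have hCn : C.Normal := ZJControl.centralizer_normal V
  have hTC : T ≤ C := le_centralizer_iff.mp (hVZ.trans inf_le_right)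
  -- `Q1` is faithful on `V`
  have hQ1f : Q1 ⊓ C = ⊥ := by
    refine eq_bot_iff.mpr fun x hx => mem_bot.mpr (hQT x (hQ1Q hx.1) (hCT (mem_centralizer_iff.mpr fun t ht => ?_)))
    have hxo : (orderOf x).Coprime 2 := hQo.coprime_dvd_left (orderOf_dvd_natCard Q (hQ1Q hx.1))
    have hZfix : ∀ n : ℕ, ∀ z ∈ Z, z ^ 2 ^ n = 1 → Commute x z := by
      intro n
      induction n with
      | zero => intro z _ hz; simp at hz; rw [hz]; exact Commute.one_right x
      | succ n ih =>
        intro z hz hzn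
        have h1 := ih (z ^ 2) (pow_mem hz 2) (by rw [← pow_mul, ← pow_succ', hzn])
        refine ZJControl.commute_of_stable (Thompson.ea_isPGroup hVea) hxo hx.2 ?_
        have hxz : x * z * x⁻¹ ∈ Z := hZn.conj_mem z hz x
        refine Thompson.mem_omegaOne (mul_mem hxz (inv_mem hz)) ?_
        have hc : Commute (x * z * x⁻¹) z⁻¹ := (mem_centralizer_iff.mp hxz.2 _ (inv_mem hz).1).symm
        rw [hc.mul_pow, inv_pow, conj_pow, h1.eq, mul_inv_cancel_right, mul_inv_cancel]
    have hxZ : x ∈ centralizer (Z : Set G) := mem_centralizer_iff.mpr fun z hz => by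
      obtain ⟨n, hn⟩ := hT ⟨z, hz.1⟩
      exact (hZfix n z hz (congrArg Subtype.val hn)).eq.symm
    refine (ZJControl.commute_of_stable (Q := Z) (hT.to_le inf_le_left) hxo hxZ ?_).eq.symm
    refine (QuotientGroup.eq_one_iff _).mp ?_
    show π (x * t * x⁻¹ * t⁻¹) = 1
    have h1 := mem_centralizer_iff.mp (hQ1K hx.1) _ (mem_map_of_mem π ht)
    rw [map_mul, map_mul, map_mul, map_inv, map_inv, ← h1, mul_inv_cancel_right, mul_inv_cancel]
  have hA'q : ∀ y ∈ A', ∃ a ∈ A, q y = q a := fun y hy => by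
    obtain ⟨t, ht, a, ha, rfl⟩ := mem_sup_of_normal_left.mp hy.2
    exact ⟨a, ha, by rw [map_mul, hker.mpr ht, one_mul]⟩
  have hder : ⁅A', A'⁆ ≤ C := (commutator_le.mpr fun y hy z hz => by
    obtain ⟨a, ha, hya⟩ := hA'q y hy
    obtain ⟨b, hb, hzb⟩ := hA'q z hz
    refine hker.mp ?_
    rw [map_commutatorElement, hya, hzb, ← map_commutatorElement,
      commutatorElement_eq_one_iff_mul_comm.mpr
        (congrArg Subtype.val (hA.1.is_comm.comm (⟨a, ha⟩ : A) ⟨b, hb⟩)), map_one]).trans hTC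
  have hA'f : A' ⊓ centralizer (Q1 : Set G) ≤ T := by
    rintro y ⟨hy, hyc⟩
    obtain ⟨a, ha, hya⟩ := hA'q y hy
    have hy2 : y * y ∈ T := hker.mp (by rw [map_mul, hya, ← map_mul, ← pow_two, hA.2 a ha, map_one])
    have hyQ : ∀ x ∈ Q, ⁅x, y⁆ = 1 := by
      intro x hx
      have hz1 : ⁅x, y⁆ ∈ Q1 := commutator_mem_commutator hx hy
      have hcm := mem_centralizer_iff.mp hyc _ hz1
      have h4 : ⁅x, y * y⁆ = 1 := hQT _ (by
        rw [commutatorElement_def, show x * (y * y) * x⁻¹ * (y * y)⁻¹ = x * ((y * y) * x⁻¹ * (y * y)⁻¹) by group]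
        exact mul_mem hx ((mem_normalizer_iff.mp (mul_mem hy.1 hy.1) _).mp (inv_mem hx))) (by
        rw [commutatorElement_def]
        exact mul_mem ((inferInstance : T.Normal).conj_mem _ hy2 x) (inv_mem hy2))
      refine eq_one_of_sq hQo (hQ1Q hz1) ?_
      calc ⁅x, y⁆ * ⁅x, y⁆ = ⁅x, y⁆ * (y * ⁅x, y⁆ * y⁻¹) := by rw [← hcm, mul_inv_cancel_right]
        _ = ⁅x, y * y⁆ := by simp only [commutatorElement_def]; group
        _ = 1 := h4
    refine hker.mp (hya.trans (hker.mpr (hfaith a ha ?_)))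
    rw [← hya]
    refine mem_centralizer_iff.mpr fun z hz => ?_
    obtain ⟨x, rfl⟩ := hq z
    have hxH : x ∈ T ⊔ Q := hHeq ▸ (hz : x ∈ H)
    obtain ⟨t, ht, x, hx, rfl⟩ := mem_sup_of_normal_left.mp hxH
    rw [map_mul, hker.mpr ht, one_mul, ← map_mul, ← map_mul,
      commutatorElement_eq_one_iff_mul_comm.mp (hyQ x hx)]
  have hne' : ¬ A' ≤ C := by
    intro h
    have hb : Q1 = ⊥ := eq_bot_iff.mpr fun x hx => hQ1f ▸ ⟨hx, (commutator_le.mpr fun u _ a ha => by
      rw [commutatorElement_def]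
      exact mul_mem (hCn.conj_mem _ (h ha) u) (inv_mem (h ha))) hx⟩
    refine hne fun a ha => ?_
    obtain ⟨t, ht, y, hy, hty⟩ := mem_sup_of_normal_left.mp (hA'sup ha)
    refine hker.mp ?_
    rw [← hty, map_mul, hker.mpr ht, one_mul, hker]
    exact hA'f ⟨hy, mem_centralizer_iff.mpr fun z hz => by
      rw [mem_bot.mp (hb ▸ hz : z ∈ (⊥ : Subgroup G))]; simp⟩
  have hineq := FusSys.relIndex_lt_of_s4_free (p := 2) (Or.inr hS4) A' V Q1 hVea
    (S.2.to_le hA'S) le_normalizer_of_normal le_normalizer_of_normal hA'Q1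
    ⟨⟨fun x y => Subtype.ext (congrArg (fun z : Q => (z : G))
      (hQc.is_comm.comm ⟨x, hQ1Q x.2⟩ ⟨y, hQ1Q y.2⟩))⟩⟩
    (hQo.coprime_dvd_left (card_dvd_of_le hQ1Q)) hQ1f hder (hA'f.trans hTC) hne'
  -- same fixed points for `A` and `A'`
  have hsame : A' ⊔ C = A ⊔ C := le_antisymm
    (sup_le (inf_le_right.trans (sup_le (hTC.trans le_sup_right) le_sup_left)) le_sup_right)
    (sup_le (hA'sup.trans (sup_le (hTC.trans le_sup_right) le_sup_left)) le_sup_right)
  have hidxC : C.relIndex A' = C.relIndex A := by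
    rw [← relIndex_sup_right A' C, hsame, relIndex_sup_right]
  have hfixV : V ⊓ centralizer (A' : Set G) = V ⊓ centralizer (A : Set G) := by
    ext v
    refine and_congr_right fun hv => ?_
    have hTv : T ≤ centralizer {v} := fun t ht =>
      mem_centralizer_singleton_iff.mpr (mem_centralizer_iff.mp (hTC ht) v hv).symm
    constructor
    · refine fun h => mem_centralizer_iff.mpr fun a ha => ?_
      exact mem_centralizer_singleton_iff.mp ((hA'sup.trans (sup_le hTv fun y hy =>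
        mem_centralizer_singleton_iff.mpr (mem_centralizer_iff.mp h y hy))) ha)
    · refine fun h => mem_centralizer_iff.mpr fun a ha => ?_
      exact mem_centralizer_singleton_iff.mp ((inf_le_right.trans (sup_le hTv fun y hy =>
        mem_centralizer_singleton_iff.mpr (mem_centralizer_iff.mp h y hy))) ha)
  rw [hidxC, ← inf_relIndex_right (centralizer (A' : Set G)), inf_comm, hfixV] at hineq
  -- a larger elementary abelian subgroup
  set A0 := A ⊓ C
  set B := A0 ⊔ V
  have hBea : Cfsg.IsElementaryAbelian 2 B := Thompson.ea_sup (Thompson.ea_mono hA inf_le_left) hVea inf_le_right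
  have hBS : B ≤ (S : Subgroup G) := sup_le (inf_le_left.trans hAS) (hVZ.trans (inf_le_left.trans hTS))
  have e1 : Nat.card A0 * C.relIndex A = Nat.card A := by
    rw [← inf_relIndex_left A C]; exact Coprime.card_mul_relIndex_of_le inf_le_left
  have e2 : Nat.card (V ⊓ centralizer (A : Set G) : Subgroup G) * (V ⊓ centralizer (A : Set G)).relIndex V =
      Nat.card V := Coprime.card_mul_relIndex_of_le inf_le_left
  have e3 : Nat.card (A0 ⊓ V : Subgroup G) * V.relIndex A0 = Nat.card A0 := by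
    rw [← inf_relIndex_left A0 V]; exact Coprime.card_mul_relIndex_of_le inf_le_left
  have e4 : Nat.card V * V.relIndex A0 = Nat.card B := by
    rw [← relIndex_sup_right A0 V]; exact Coprime.card_mul_relIndex_of_le le_sup_right
  have e5 : Nat.card (A0 ⊓ V : Subgroup G) ≤ Nat.card (V ⊓ centralizer (A : Set G) : Subgroup G) :=
    Nat.le_of_dvd Nat.card_pos (card_dvd_of_le (le_inf inf_le_right fun v hv => mem_centralizer_iff.mpr
      fun a ha => congrArg Subtype.val (hA.1.is_comm.comm (⟨a, ha⟩ : A) ⟨v, hv.1.1⟩)))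
  have e6 := hmax B hBS hBea
  set i := C.relIndex A
  set j := (V ⊓ centralizer (A : Set G)).relIndex V
  set cV := Nat.card (V ⊓ centralizer (A : Set G) : Subgroup G)
  set m := Nat.card (A0 ⊓ V : Subgroup G)
  set r := V.relIndex A0
  rw [← e1, ← e4, ← e2, ← e3] at e6
  have hm : 0 < m := Nat.card_pos
  have hr : 0 < r := Nat.pos_of_ne_zero index_ne_zero_of_finite
  have : cV * j ≤ m * i := Nat.le_of_mul_le_mul_right (by linarith) hr
  have : m * i < cV * j := lt_of_lt_of_le (Nat.mul_lt_mul_of_pos_left hineq hm) (Nat.mul_le_mul_right _ e5)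
  omega

end Cfsg.Agent.QdFree.ClassTwo
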