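import Cfsg.Agent.QdFree.Offender
import Cfsg.Agent.Layer.PConstraint
import Cfsg.Agent.Thompson.Factorizable

/-!
# Thompson subgroup in 2-constrained groups without `S₄` and with Sylow class at most two

`thompson_le_pCore` : if `C(O₂(G)) ≤ O₂(G)`, `S₄` is not involved and the Sylow 2-subgroups have class
at most two, every elementary abelian 2-subgroup of largest order lies in `O₂(G)`.
-/

set_option autoImplicit false

namespace Cfsg.Agent.QdFree.ClassTwoJ

open Subgroup
open Cfsg.Agent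
open scoped commutatorElement

universe u

variable {G : Type u} [Group G] [Finite G]

/-- Triple commutators vanish in the Sylow subgroups. -/
theorem commute_of_class_two (S : Sylow 2 G)
    (hcl : ∀ s ∈ (S : Subgroup G), ∀ t ∈ (S : Subgroup G), ∀ r ∈ (S : Subgroup G), Commute ⁅s, t⁆ r)
    {P : Subgroup G} (hP : IsPGroup 2 P) :
    ∀ s ∈ P, ∀ t ∈ P, ∀ r ∈ P, Commute ⁅s, t⁆ r := by
  have : Fact (Nat.Prime 2) := ⟨Nat.prime_two⟩
  obtain ⟨R, hR⟩ := hP.exists_le_sylow
  obtain ⟨g, rfl⟩ := MulAction.exists_smul_eq G S R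
  have hmem : ∀ x ∈ P, g⁻¹ * x * g ∈ (S : Subgroup G) := fun x hx => by
    have h := hR hx
    rw [Sylow.coe_subgroup_smul, Subgroup.mem_pointwise_smul_iff_inv_smul_mem] at h
    simpa using h
  intro s hs t ht r hr
  have h := hcl _ (hmem s hs) _ (hmem t ht) _ (hmem r hr)
  have h' := h.map (MulAut.conj g).toMonoidHom
  rw [map_commutatorElement] at h'
  simpa [mul_assoc] using h'

theorem thompson_le_pCore (h4 : ¬ Cfsg.Involves (Equiv.Perm (Fin 4)) G)
    (hC : Layer.PCoreSelfCentral 2 G) (S : Sylow 2 G)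
    (hcl : ∀ s ∈ (S : Subgroup G), ∀ t ∈ (S : Subgroup G), ∀ r ∈ (S : Subgroup G), Commute ⁅s, t⁆ r) :
    Cfsg.thompsonSubgroup 2 G ≤ Cfsg.pCore 2 G := by
  classical
  have : Fact (Nat.Prime 2) := ⟨Nat.prime_two⟩
  refine sSup_le fun A hA => ?_
  set T := Cfsg.pCore 2 G
  have hTn : T.Normal := inferInstance
  have hT : IsPGroup 2 T := Core.pCore_isPGroup
  set Z := T ⊓ centralizer (T : Set G)
  have := ZJControl.centralizer_normal T
  have hZn : Z.Normal := inferInstance
  set π := QuotientGroup.mk' Z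
  have : (T.map π).Normal := hTn.map π (QuotientGroup.mk'_surjective Z)
  have := ZJControl.centralizer_normal (T.map π)
  set K := (centralizer (T.map π : Set (G ⧸ Z))).comap π
  have hKn : K.Normal := (inferInstance : (centralizer (T.map π : Set (G ⧸ Z))).Normal).comap π
  set V := Cfsg.omegaOne 2 Z
  have hVea : Cfsg.IsElementaryAbelian 2 V :=
    Thompson.omegaOne_ea (inf_le_right.trans (centralizer_le inf_le_left))
  have hVZ : V ≤ Z := Thompson.omegaOne_le 2 Z
  have hVn : V.Normal := by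
    refine ⟨fun v hv g => ?_⟩
    have h2 := mem_map_of_mem (MulAut.conj g).toMonoidHom hv
    rw [Thompson.omegaOne_map_of_injective (MulAut.conj g).injective,
      show Z.map (MulAut.conj g).toMonoidHom = Z from Subgroup.Normal.map_conj_eq Z g] at h2
    simpa using h2
  -- the Sylow subgroups act quadratically
  have hQ : Offend.Quad V := by
    intro P hP v hv s hs t ht
    obtain ⟨R, hR⟩ := hP.exists_le_sylow
    exact commute_of_class_two S hcl R.isPGroup' v
      (Core.pCore_le_sylow R ((hVZ.trans inf_le_left) hv)) s (hR hs) t (hR ht)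
  have hbest : Offend.Best V A := fun B hB _ => by
    rw [Thompson.fix_eq_inf V hVea hA]
    exact Thompson.bound V hVea hA hB
  obtain ⟨N, hNn, hNt, hAN⟩ := Offend.exists_normal_twoMod h4 hVea hQ hA.1 hbest
  -- `C(V)` and the centralizer of `T / Z` meet in a 2-group
  have hM : ∀ x ∈ centralizer (V : Set G) ⊓ K, (orderOf x).Coprime 2 → x = 1 := by
    intro x hx hxo
    have hZfix : ∀ n : ℕ, ∀ z ∈ Z, z ^ 2 ^ n = 1 → Commute x z := by
      intro n
      induction n with
      | zero => intro z _ hz; simp at hz; rw [hz]; exact Commute.one_right x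
      | succ n ih =>
        intro z hz hzn
        have h1 := ih (z ^ 2) (pow_mem hz 2) (by rw [← pow_mul, ← pow_succ', hzn])
        refine ZJControl.commute_of_stable (Thompson.ea_isPGroup hVea) hxo hx.1 ?_
        have hxz : x * z * x⁻¹ ∈ Z := hZn.conj_mem z hz x
        refine Thompson.mem_omegaOne (mul_mem hxz (inv_mem hz)) ?_
        have hc : Commute (x * z * x⁻¹) z⁻¹ := (mem_centralizer_iff.mp hxz.2 _ (inv_mem hz).1).symm
        rw [hc.mul_pow, inv_pow, conj_pow, h1.eq, mul_inv_cancel_right, mul_inv_cancel]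
    have hxZ : x ∈ centralizer (Z : Set G) := mem_centralizer_iff.mpr fun z hz => by
      obtain ⟨n, hn⟩ := hT ⟨z, hz.1⟩
      exact (hZfix n z hz (congrArg Subtype.val hn)).eq.symm
    have hxT : x ∈ T := hC (mem_centralizer_iff.mpr fun t ht => by
      refine (ZJControl.commute_of_stable (Q := Z) (hT.to_le inf_le_left) hxo hxZ ?_).eq.symm
      refine (QuotientGroup.eq_one_iff _).mp ?_
      show π (x * t * x⁻¹ * t⁻¹) = 1
      have h1 := mem_centralizer_iff.mp hx.2 _ (mem_map_of_mem π ht)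
      rw [map_mul, map_mul, map_mul, map_inv, map_inv, ← h1, mul_inv_cancel_right, mul_inv_cancel])
    obtain ⟨j, hj⟩ := hT ⟨x, hxT⟩
    exact orderOf_eq_one_iff.mp (Nat.eq_one_of_dvd_coprimes (hxo.pow_right j) dvd_rfl
      (orderOf_dvd_of_pow_eq_one (congrArg Subtype.val hj)))
  have hNK : IsPGroup 2 (N ⊓ K : Subgroup G) := by
    rintro ⟨x, hxN, hxK⟩
    obtain ⟨k, hk⟩ := hNt x hxN
    obtain ⟨j, m, hm, hjm⟩ := Nat.exists_eq_pow_mul_and_not_dvd
      (orderOf_pos (x ^ 2 ^ k)).ne' 2 (by norm_num)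
    have h1 : (x ^ 2 ^ k) ^ 2 ^ j = 1 := by
      refine hM _ ⟨pow_mem hk _, pow_mem (pow_mem hxK _) _⟩ ?_
      rw [orderOf_pow_of_dvd (pow_ne_zero _ two_ne_zero) (hjm ▸ dvd_mul_right _ _), hjm,
        Nat.mul_div_cancel_left _ (pow_pos two_pos j)]
      exact ((Nat.Prime.coprime_iff_not_dvd Nat.prime_two).mpr hm).symm
    exact ⟨k + j, Subtype.ext (by
      show x ^ 2 ^ (k + j) = 1
      rw [pow_add, pow_mul, h1])⟩
  -- `A` centralizes `T / Z`
  obtain ⟨R, hR⟩ := (Thompson.ea_isPGroup hA.1).exists_le_sylow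
  have hTR : T ≤ (R : Subgroup G) := Core.pCore_le_sylow R
  have hAK : A ≤ K := by
    intro a ha
    refine mem_centralizer_iff.mpr ?_
    rintro _ ⟨t, ht, rfl⟩
    refine commutatorElement_eq_one_iff_mul_comm.mp ?_
    rw [← map_commutatorElement]
    refine (QuotientGroup.eq_one_iff _).mpr ⟨?_, mem_centralizer_iff.mpr fun r hr =>
      (commute_of_class_two S hcl R.isPGroup' t (hTR ht) a (hR ha) r (hTR hr)).eq.symm⟩
    rw [commutatorElement_def, show t * a * t⁻¹ * a⁻¹ = t * (a * t⁻¹ * a⁻¹) by group]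
    exact mul_mem ht (hTn.conj_mem _ (inv_mem ht) a)
  exact (le_inf hAN hAK).trans (Core.le_pCore hNK)

/-- In a 2-constrained group without `S₄` and with Sylow class at most two,
`G = N(J(S)) O(G)`. -/
theorem normalizer_sup_core_eq_top (hcon : Cfsg.IsPConstrained 2 G)
    (h4 : ¬ Cfsg.Involves (Equiv.Perm (Fin 4)) G) (S : Sylow 2 G)
    (hcl : ∀ s ∈ (S : Subgroup G), ∀ t ∈ (S : Subgroup G), ∀ r ∈ (S : Subgroup G), Commute ⁅s, t⁆ r) :
    Subgroup.normalizer ((Cfsg.thompsonSubgroupOf 2 (S : Subgroup G)) : Set G) ⊔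
      Cfsg.pPrimeCore 2 G = ⊤ := by
  have : Fact (Nat.Prime 2) := ⟨Nat.prime_two⟩
  set f := QuotientGroup.mk' (Cfsg.pPrimeCore 2 G) with hfdef
  have hf : Function.Surjective f := QuotientGroup.mk'_surjective _
  have hker : (Nat.card f.ker).Coprime 2 := by
    rw [hfdef, QuotientGroup.ker_mk']
    exact Core.coprime_card_pPrimeCore
  have hinj : Function.Injective (f.comp (S : Subgroup G).subtype) := by
    rw [injective_iff_map_eq_one]
    intro x hx
    have h1 : ((x : G)) ∈ (S : Subgroup G) ⊓ f.ker := ⟨x.2, hx⟩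
    rw [Layer.inf_eq_bot_of_isPGroup S.isPGroup' hker, mem_bot] at h1
    exact Subtype.ext h1
  have hJ : Cfsg.thompsonSubgroupOf 2 (S.mapSurjective hf : Subgroup _) =
      Cfsg.thompsonSubgroup 2 (G ⧸ Cfsg.pPrimeCore 2 G) := by
    refine Thompson.thompsonOf_eq_of_le ((thompson_le_pCore (fun h => h4 (involves_of_surjective h hf))
      (Layer.isPConstrained_iff_selfCentral.mp hcon) (S.mapSurjective hf) ?_).trans
      (Core.pCore_le_sylow _))
    rintro _ ⟨s, hs, rfl⟩ _ ⟨t, ht, rfl⟩ _ ⟨r, hr, rfl⟩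
    rw [← map_commutatorElement]
    exact (hcl s hs t ht r hr).map f
  have hn : (Cfsg.thompsonSubgroup 2 (G ⧸ Cfsg.pPrimeCore 2 G)).Normal := by
    have := Thompson.thompson_characteristic (G := G ⧸ Cfsg.pPrimeCore 2 G) (p := 2)
    infer_instance
  have hmap : (Subgroup.normalizer ((Cfsg.thompsonSubgroupOf 2 (S : Subgroup G)) : Set G)).map f = ⊤ := by
    rw [Layer.map_normalizer_of_coprime hf hker (S.isPGroup'.to_le (Thompson.thompsonOf_le 2 _)),
      Thompson.thompsonOf_map_of_injOn hinj, ← Sylow.coe_mapSurjective (P := S) hf, hJ]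
    exact normalizer_eq_top_iff.mpr hn
  have h := congrArg (Subgroup.comap f) hmap
  rwa [Subgroup.comap_map_eq, hfdef, QuotientGroup.ker_mk', Subgroup.comap_top] at h

end Cfsg.Agent.QdFree.ClassTwoJ
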