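import Cfsg.Agent.QdFree.PStable
import Cfsg.Agent.QdFree.SL2Facts
import Cfsg.Agent.Fusion.SolvablePSolvable
import Cfsg.Agent.Core.Fitting

/-!
# Stabilisers of chains through the Fitting subgroup of a solvable group

`centralizer_le_fitting`: in a solvable group whose Fitting subgroup `F` has order prime to 6, if
`F` normalises `A` and `F ∩ C(A) ≤ A` then `C(A) ≤ F`.
-/

set_option autoImplicit false
set_option maxHeartbeats 1000000

namespace Cfsg.Agent.QdFree

open Subgroup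
open scoped commutatorElement

universe u

theorem isNormalizerPStable_of_solvable {Y : Type u} [Group Y] [Finite Y] [Group.IsSolvable Y] {q : ℕ}
    [Fact q.Prime] (hq : 5 ≤ q) : Cfsg.IsNormalizerPStable q Y := by
  refine isNormalizerPStable_of_free (by omega) fun P _ _ h => ?_
  obtain ⟨K, f, hf⟩ := exists_surjective_of_involves h
  have := le_three_of_isPSolvable_sl2 (Layer.isPSolvable_of_surjective
    (isPSolvable_subgroup (isPSolvable_subgroup (Fusion.isPSolvable_of_isSolvable (p := q) Y) _) K) hf)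
  omega

variable {Y : Type u} [Group Y] [Finite Y]

/-- Coprime stabilisation. -/
theorem commute_of_commutator_fixed {c x : Y} {q : ℕ} (hc : ∃ k, c ^ q ^ k = 1)
    (hfix : c * ⁅c, x⁆ * c⁻¹ = ⁅c, x⁆) (hco : (orderOf ⁅c, x⁆).Coprime q) : c * x = x * c := by
  obtain ⟨k, hk⟩ := hc
  set e := ⁅c, x⁆ with he
  have hit : ∀ n : ℕ, c ^ n * x * (c ^ n)⁻¹ = e ^ n * x := by
    intro n
    induction n with
    | zero => simp
    | succ n ih =>
      rw [pow_succ', mul_inv_rev, show c * c ^ n * x * ((c ^ n)⁻¹ * c⁻¹) =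
        c * (c ^ n * x * (c ^ n)⁻¹) * c⁻¹ by group, ih,
        show c * (e ^ n * x) * c⁻¹ = c * e ^ n * c⁻¹ * (c * x * c⁻¹) by group, ← conj_pow, hfix,
        show c * x * c⁻¹ = e * x by rw [he, commutatorElement_def]; group, ← mul_assoc, ← pow_succ]
  have h := hit (q ^ k)
  rw [hk, one_mul, inv_one, mul_one, right_eq_mul] at h
  have : e = 1 := orderOf_eq_one_iff.mp
    (Nat.eq_one_of_dvd_coprimes (hco.pow_right k) dvd_rfl (orderOf_dvd_of_pow_eq_one h))
  exact commutatorElement_eq_one_iff_mul_comm.mp this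

theorem centralizer_le_fitting [Group.IsSolvable Y] {A : Subgroup Y}
    (hFA : Cfsg.fittingSubgroup Y ≤ normalizer (A : Set Y))
    (hAA : Cfsg.fittingSubgroup Y ⊓ centralizer (A : Set Y) ≤ A)
    (hF : ∀ r : ℕ, r.Prime → r ∣ Nat.card (Cfsg.fittingSubgroup Y) → 5 ≤ r) :
    centralizer (A : Set Y) ≤ Cfsg.fittingSubgroup Y := by
  classical
  set F := Cfsg.fittingSubgroup Y with hFdef
  have hquad : ∀ c ∈ centralizer (A : Set Y), ∀ x ∈ F, c * ⁅c, x⁆ * c⁻¹ = ⁅c, x⁆ := by
    intro c hc x hx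
    have hin : ⁅c, x⁆ ∈ F := mul_mem ((inferInstance : F.Normal).conj_mem x hx c) (inv_mem hx)
    have hca : ∀ a ∈ A, ⁅c, x⁆ * a * ⁅c, x⁆⁻¹ = a := by
      intro a ha
      have h1 : x⁻¹ * a * x ∈ A := by
        simpa using (mem_normalizer_iff.mp (hFA (inv_mem hx)) a).mp ha
      calc ⁅c, x⁆ * a * ⁅c, x⁆⁻¹ = c * x * (c⁻¹ * (x⁻¹ * a * x) * c) * x⁻¹ * c⁻¹ := by
            rw [commutatorElement_def]; group
        _ = c * x * (x⁻¹ * a * x) * x⁻¹ * c⁻¹ := by
            rw [mul_assoc c⁻¹, mem_centralizer_iff.mp hc _ h1, inv_mul_cancel_left]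
        _ = c * a * c⁻¹ := by group
        _ = a := by rw [← mem_centralizer_iff.mp hc a ha, mul_inv_cancel_right]
    have hA : ⁅c, x⁆ ∈ A := hAA ⟨hin, mem_centralizer_iff.mpr fun a ha =>
      (mul_inv_eq_iff_eq_mul.mp (hca a ha)).symm⟩
    rw [← mem_centralizer_iff.mp hc _ hA, mul_inv_cancel_right]
  -- reduce to elements of prime power order
  intro c₀ hc₀
  suffices key : ∀ (q k : ℕ), q.Prime → ∀ c ∈ centralizer (A : Set Y), c ^ q ^ k = 1 → c ∈ F by
    suffices h : ∀ n : ℕ, ∀ c ∈ centralizer (A : Set Y), orderOf c = n → c ∈ F from h _ c₀ hc₀ rfl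
    intro n
    induction n using Nat.recOnPrimeCoprime with
    | zero => exact fun c _ h => absurd h (orderOf_pos c).ne'
    | prime_pow q k hq => exact fun c hc h => key q k hq c hc (by rw [← h, pow_orderOf_eq_one])
    | coprime a b ha hb hab iha ihb =>
      intro c hc h
      have e1 : orderOf (c ^ b) = a := by
        rw [orderOf_pow_of_dvd (by omega) (h ▸ dvd_mul_left b a), h, Nat.mul_div_cancel a (by omega)]
      have e2 : orderOf (c ^ a) = b := by
        rw [orderOf_pow_of_dvd (by omega) (h ▸ dvd_mul_right a b), h, Nat.mul_div_cancel_left b (by omega)]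
      have h1 := iha _ (pow_mem hc b) e1
      have h2 := ihb _ (pow_mem hc a) e2
      have hcop : Int.gcd (a : ℤ) (b : ℤ) = 1 := by rw [Int.gcd_natCast_natCast]; exact hab
      have hbez := Int.gcd_eq_gcd_ab (a : ℤ) (b : ℤ)
      rw [hcop, Nat.cast_one] at hbez
      have := mul_mem (zpow_mem h2 (Int.gcdA a b)) (zpow_mem h1 (Int.gcdB a b))
      rwa [← zpow_natCast c a, ← zpow_natCast c b, ← zpow_mul, ← zpow_mul, ← zpow_add, ← hbez,
        zpow_one] at this
  intro q k hq c hc hcq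
  have hqF : Fact q.Prime := ⟨hq⟩
  set W : Subgroup Y := ⨆ r : {r : Nat.Primes // (r : ℕ) ≠ q}, Cfsg.pCore (r.1 : ℕ) Y with hW
  set P := Cfsg.pCore q Y
  have hFPW : F = P ⊔ W := by
    rw [hFdef, Core.fittingSubgroup_eq_iSup_pCore]
    refine le_antisymm (iSup_le fun r => ?_) (sup_le ?_ (iSup_le fun r => ?_))
    · by_cases hr : (r : ℕ) = q
      · rw [hr]; exact le_sup_left
      · exact le_sup_of_le_right (le_iSup (fun r : {r : Nat.Primes // (r : ℕ) ≠ q} =>
          Cfsg.pCore (r.1 : ℕ) Y) ⟨r, hr⟩)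
    · exact le_iSup (fun r : Nat.Primes => Cfsg.pCore (r : ℕ) Y) ⟨q, hq⟩
    · exact le_iSup (fun r : Nat.Primes => Cfsg.pCore (r : ℕ) Y) r.1
  have hPF : P ≤ F := hFPW ▸ le_sup_left
  have hcW : c ∈ centralizer (W : Set Y) := by
    rw [← zpowers_le, le_centralizer_iff, hW]
    refine iSup_le fun r => fun x hx => mem_centralizer_iff.mpr ?_
    rintro _ ⟨i, rfl⟩
    have : Fact (r.1 : ℕ).Prime := ⟨r.1.2⟩
    have hrF : Cfsg.pCore (r.1 : ℕ) Y ≤ F := Core.pCore_le_fittingSubgroup _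
    have hcom : ⁅c, x⁆ ∈ Cfsg.pCore (r.1 : ℕ) Y :=
      mul_mem ((inferInstance : (Cfsg.pCore (r.1 : ℕ) Y).Normal).conj_mem x hx c) (inv_mem hx)
    have hco : (orderOf ⁅c, x⁆).Coprime q := by
      obtain ⟨m, hm⟩ := (Core.pCore_isPGroup (p := (r.1 : ℕ)) (G := Y)) ⟨_, hcom⟩
      exact Nat.Coprime.of_dvd_left (orderOf_dvd_of_pow_eq_one (congrArg Subtype.val hm))
        (((Nat.coprime_primes r.1.2 hq).mpr r.2).pow_left m)
    exact ((show Commute c x from commute_of_commutator_fixed ⟨k, hcq⟩ (hquad c hc x (hrF hx)) hco).zpow_left i).eq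
  by_cases hdvd : q ∣ Nat.card F
  swap
  · -- no `q`-part
    refine Core.centralizer_fittingSubgroup_le (mem_centralizer_iff.mpr fun x hx => ?_)
    have hP1 : P = ⊥ := by
      by_contra hne
      obtain ⟨m, hm⟩ := IsPGroup.iff_card.mp (Core.pCore_isPGroup (p := q) (G := Y))
      refine hdvd (Dvd.dvd.trans ?_ (card_dvd_of_le hPF))
      rw [hm]
      refine dvd_pow_self q fun h0 => hne (eq_bot_of_card_eq _ ?_)
      rw [hm, h0, pow_zero]
    have hx' : x ∈ P ⊔ W := hFPW.le hx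
    rw [hP1, bot_sup_eq] at hx'
    exact mem_centralizer_iff.mp hcW x hx'
  have h5 := hF q hq hdvd
  -- p-stability
  have hNtop : normalizer (P : Set Y) = ⊤ := normalizer_eq_top_iff.mpr inferInstance
  set L := normalizer (P : Set Y)
  set CP := (centralizer (P : Set Y)).subgroupOf L
  have hquadP : ⁅⁅P, zpowers c⁆, zpowers c⁆ = ⊥ := by
    rw [commutator_eq_bot_iff_le_centralizer, commutator_le]
    rintro x hx _ ⟨i, rfl⟩
    refine mem_centralizer_iff.mpr ?_
    rintro _ ⟨j, rfl⟩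
    have hci : c ^ i ∈ centralizer (A : Set Y) := zpow_mem hc i
    have hcj : c ^ j ∈ centralizer (A : Set Y) := zpow_mem hc j
    have hin : ⁅x, c ^ i⁆ ∈ A := by
      rw [← commutatorElement_inv]
      refine inv_mem ?_
      have hx' := hPF hx
      refine hAA ⟨(mul_mem ((inferInstance : F.Normal).conj_mem x hx' _) (inv_mem hx') : ⁅c ^ i, x⁆ ∈ F), ?_⟩
      refine mem_centralizer_iff.mpr fun a ha => ?_
      have h1 : x⁻¹ * a * x ∈ A := by
        simpa using (mem_normalizer_iff.mp (hFA (inv_mem hx')) a).mp ha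
      have hh : ⁅c ^ i, x⁆ * a * ⁅c ^ i, x⁆⁻¹ = a := by
        calc ⁅c ^ i, x⁆ * a * ⁅c ^ i, x⁆⁻¹
            = c ^ i * x * ((c ^ i)⁻¹ * (x⁻¹ * a * x) * c ^ i) * x⁻¹ * (c ^ i)⁻¹ := by
              rw [commutatorElement_def]; group
          _ = c ^ i * x * (x⁻¹ * a * x) * x⁻¹ * (c ^ i)⁻¹ := by
              rw [mul_assoc (c ^ i)⁻¹, mem_centralizer_iff.mp hci _ h1, inv_mul_cancel_left]
          _ = c ^ i * a * (c ^ i)⁻¹ := by group
          _ = a := by rw [← mem_centralizer_iff.mp hci a ha, mul_inv_cancel_right]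
      exact (mul_inv_eq_iff_eq_mul.mp hh).symm
    exact (mem_centralizer_iff.mp hcj _ hin).symm
  have hcL : c ∈ L := hNtop ▸ mem_top c
  have hmem := isNormalizerPStable_of_solvable (Y := Y) h5 P (Core.pCore_isPGroup) c hcL hquadP
  set M₀ := (Cfsg.pCore q (↥L ⧸ CP)).comap (QuotientGroup.mk' CP)
  set M := M₀.map L.subtype ⊓ centralizer (W : Set Y) with hM
  have hcM : c ∈ M := ⟨⟨⟨c, hcL⟩, hmem, rfl⟩, hcW⟩
  have hWn : W.Normal := Subgroup.iSup_normal _
  have hM₀n : (M₀.map L.subtype).Normal := by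
    refine ⟨fun x hx g => ?_⟩
    obtain ⟨y, hy, rfl⟩ := hx
    exact ⟨(⟨g, hNtop ▸ mem_top g⟩ : L) * y * (⟨g, hNtop ▸ mem_top g⟩ : L)⁻¹,
      (inferInstance : M₀.Normal).conj_mem y hy _, rfl⟩
  have hMn : M.Normal := by
    have : (centralizer (W : Set Y)).Normal := inferInstance
    exact Subgroup.normal_inf_normal _ _
  have hPW : P ≤ centralizer (W : Set Y) := by
    rw [le_centralizer_iff, hW]
    refine iSup_le fun r => fun x hx => mem_centralizer_iff.mpr fun y hy => ?_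
    have : Fact (r.1 : ℕ).Prime := ⟨r.1.2⟩
    have hdis : Disjoint P (Cfsg.pCore (r.1 : ℕ) Y) :=
      IsPGroup.disjoint_of_ne q (r.1 : ℕ) (Ne.symm r.2) _ _ Core.pCore_isPGroup Core.pCore_isPGroup
    exact (Subgroup.commute_of_normal_of_disjoint P _ inferInstance inferInstance hdis y x hy hx).eq
  have hPM : P ≤ M := fun x hx => ⟨⟨⟨x, hNtop ▸ mem_top x⟩, Core.le_pCore
    (N := (P.subgroupOf L).map (QuotientGroup.mk' CP)) (hN := Subgroup.Normal.map
      (Subgroup.Normal.subgroupOf inferInstance L) _ (QuotientGroup.mk'_surjective _))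
    ((Core.pCore_isPGroup.comap_subtype).map _) ⟨_, hx, rfl⟩, rfl⟩, hPW hx⟩
  -- the Sylow subgroup of `M` is normal
  obtain ⟨T⟩ : Nonempty (Sylow q M) := inferInstance
  set K := (M ⊓ centralizer (P : Set Y)).subgroupOf M with hK
  have hKF : ∀ x : M, x ∈ K → (x : Y) ∈ F := fun x hx => by
    refine Core.centralizer_fittingSubgroup_le (mem_centralizer_iff.mpr fun y hy => ?_)
    have hy' : y ∈ P ⊔ W := hFPW ▸ hy
    refine (show P ⊔ W ≤ centralizer ({(x : Y)} : Set Y) from sup_le ?_ ?_) hy' (x : Y) rfl |>.symm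
    · exact fun a ha => mem_centralizer_singleton_iff.mpr (mem_centralizer_iff.mp hx.2 a ha)
    · exact fun a ha => mem_centralizer_singleton_iff.mpr (mem_centralizer_iff.mp x.2.2 a ha)
  have hFM : (F.subgroupOf M) ≤ normalizer ((T : Subgroup M) : Set M) := by
    intro x hx
    have hx' : (x : Y) ∈ ((P ⊔ W : Subgroup Y) : Set Y) := hFPW ▸ hx
    rw [coe_mul_of_left_le_normalizer_right P W (fun _ _ => by
      rw [normalizer_eq_top_iff.mpr hWn]; exact mem_top _)] at hx'
    obtain ⟨a, ha, w, hw, haw⟩ := hx'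
    have haT : (⟨a, hPM ha⟩ : M) ∈ (T : Subgroup M) := by
      refine Core.pCore_le_sylow T (Core.le_pCore (N := P.subgroupOf M)
        (hN := Subgroup.Normal.subgroupOf inferInstance M) ?_ ha)
      exact Core.pCore_isPGroup.comap_subtype
    have hwM : w ∈ M := by
      have := mul_mem (inv_mem (hPM ha)) x.2
      rwa [show a⁻¹ * (x : Y) = w by rw [← haw]; group] at this
    have e : x = ⟨a, hPM ha⟩ * ⟨w, hwM⟩ := Subtype.ext haw.symm
    rw [e]
    refine mul_mem (le_normalizer haT) (mem_normalizer_iff.mpr fun y => ?_)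
    have hcomm : ⟨w, hwM⟩ * y = y * (⟨w, hwM⟩ : M) := Subtype.ext (mem_centralizer_iff.mp y.2.2 w hw)
    rw [hcomm, mul_inv_cancel_right]
  have hindex : ∃ i, (F.subgroupOf M).index = q ^ i := by
    have hdvd1 : (F.subgroupOf M).index ∣ K.index := index_dvd_of_le fun x hx => hKF x hx
    let g : M →* ↥L ⧸ CP := (QuotientGroup.mk' CP).comp
      (inclusion (show M ≤ L from fun x _ => hNtop ▸ mem_top x))
    have hgK : g.ker = K := by
      ext x
      rw [MonoidHom.mem_ker, hK, mem_subgroupOf, mem_inf]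
      show (QuotientGroup.mk _ : ↥L ⧸ CP) = 1 ↔ _
      rw [QuotientGroup.eq_one_iff]
      exact ⟨fun h => ⟨x.2, h⟩, fun h => h.2⟩
    have hrange : g.range ≤ Cfsg.pCore q (↥L ⧸ CP) := by
      rintro _ ⟨x, rfl⟩
      obtain ⟨⟨y, hy, hyx⟩, -⟩ := x.2
      have e : inclusion (show M ≤ L from fun x _ => hNtop ▸ mem_top x) x = y := Subtype.ext hyx.symm
      show QuotientGroup.mk' CP _ ∈ _
      rw [e]
      exact hy
    obtain ⟨i, hi⟩ := IsPGroup.iff_card.mp ((Core.pCore_isPGroup (p := q)).to_le hrange)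
    rw [← Subgroup.index_ker, hgK] at hi
    obtain ⟨j, -, hj⟩ := (Nat.dvd_prime_pow hq).mp (hi ▸ hdvd1)
    exact ⟨j, hj⟩
  have hTn : (T : Subgroup M).Normal := by
    rw [← normalizer_eq_top_iff, eq_top_iff]
    obtain ⟨i, hi⟩ := hindex
    have hsup : (T : Subgroup M) ⊔ F.subgroupOf M = ⊤ := by
      rw [← index_eq_one]
      refine Nat.eq_one_of_dvd_coprimes ((hq.coprime_iff_not_dvd.mpr T.not_dvd_index).pow_left i)
        (hi ▸ index_dvd_of_le le_sup_right) (index_dvd_of_le le_sup_left)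
    rw [← hsup]
    exact sup_le le_normalizer hFM
  have hTchar : (T : Subgroup M).Characteristic := Sylow.characteristic_of_normal T hTn
  have hTY : ((T : Subgroup M).map M.subtype).Normal := ConjAct.normal_of_characteristic_of_normal
  have hcT : (⟨c, hcM⟩ : M) ∈ (T : Subgroup M) := by
    have hz : IsPGroup q (zpowers (⟨c, hcM⟩ : M)) := by
      rintro ⟨y, j, rfl⟩
      exact ⟨k, Subtype.ext (Subtype.ext (by
        show (c ^ j) ^ q ^ k = 1
        rw [← zpow_natCast, zpow_comm, zpow_natCast, hcq, one_zpow]))⟩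
    obtain ⟨T', hT'⟩ := hz.exists_le_sylow
    have : Unique (Sylow q M) := Sylow.unique_of_normal T hTn
    exact (Subsingleton.elim T' T) ▸ hT' (mem_zpowers _)
  exact hPF (Core.le_pCore (hN := hTY) (T.isPGroup'.map _) ⟨_, hcT, rfl⟩)

end Cfsg.Agent.QdFree
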