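import Mathlib.GroupTheory.Sylow
import Mathlib.GroupTheory.Index
import Mathlib.GroupTheory.GroupAction.Quotient

/-!
# A complement of the fixed points in the centre of a Sylow subgroup
-/

set_option autoImplicit false

namespace Cfsg.Agent.QdFree.IsolatedCenter

open Subgroup

universe u

variable {G : Type u} [Group G] [Finite G] {p : ℕ} [hp : Fact p.Prime]

/-- If `N ⊇ S` normalizes an abelian `A ≤ S` containing `Z(S)`, then `Z(S) ∩ C(N)` is a direct factor
of `Z(S)`. -/
theorem exists_complement (S : Sylow p G) {N A : Subgroup G} (hSN : (S : Subgroup G) ≤ N)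
    (hAS : A ≤ (S : Subgroup G)) (hAc : ∀ a ∈ A, ∀ b ∈ A, Commute a b)
    (hAN : ∀ n ∈ N, ∀ a ∈ A, n * a * n⁻¹ ∈ A)
    (hZA : (S : Subgroup G) ⊓ centralizer ((S : Subgroup G) : Set G) ≤ A) :
    ∃ K : Subgroup G, K ≤ (S : Subgroup G) ⊓ centralizer ((S : Subgroup G) : Set G) ∧
      ((S : Subgroup G) ⊓ centralizer (N : Set G)) ⊓ K = ⊥ ∧
      ((S : Subgroup G) ⊓ centralizer (N : Set G)) ⊔ K =
        (S : Subgroup G) ⊓ centralizer ((S : Subgroup G) : Set G) := by
  classical
  set Z := (S : Subgroup G) ⊓ centralizer ((S : Subgroup G) : Set G)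
  letI : CommGroup A :=
    { (inferInstance : Group A) with mul_comm := fun a b => Subtype.ext (hAc a a.2 b b.2).eq }
  set R := N ⧸ (S : Subgroup G).subgroupOf N
  letI := Fintype.ofFinite R
  let φ : Z → R → A := fun z => Quotient.lift
    (fun g : N => (⟨(g : G) * z * (g : G)⁻¹, hAN g g.2 z (hZA z.2)⟩ : A)) fun a b hab => by
      have hs' : a⁻¹ * b ∈ (S : Subgroup G).subgroupOf N := QuotientGroup.leftRel_apply.mp hab
      have hs : ((a⁻¹ * b : N) : G) ∈ (S : Subgroup G) := hs'
      refine Subtype.ext ?_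
      show (a : G) * z * (a : G)⁻¹ = (b : G) * z * (b : G)⁻¹
      have hc := mem_centralizer_iff.mp z.2.2 _ hs
      have e : (b : G) = a * ((a⁻¹ * b : N) : G) := by simp
      rw [e]
      calc (a : G) * z * (a : G)⁻¹
          = a * (((a⁻¹ * b : N) : G) * z * ((a⁻¹ * b : N) : G)⁻¹) * (a : G)⁻¹ := by
            rw [hc, mul_inv_cancel_right]
        _ = _ := by group
  have hφ : ∀ (z : Z) (g : N), ((φ z (QuotientGroup.mk g) : A) : G) = (g : G) * z * (g : G)⁻¹ := fun _ _ => rfl
  let f : Z →* A := MonoidHom.mk' (fun z => ∏ q, φ z q) fun a b => by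
    rw [← Finset.prod_mul_distrib]
    refine Finset.prod_congr rfl fun q _ => ?_
    induction q using QuotientGroup.induction_on with
    | H g => exact Subtype.ext (by rw [Subgroup.coe_mul, hφ, hφ, hφ, Subgroup.coe_mul]; group)
  set W := (S : Subgroup G) ⊓ centralizer (N : Set G)
  have hWZ : W ≤ Z := inf_le_inf_left _ (centralizer_le hSN)
  -- the values are fixed by `N`
  have hfW : ∀ z, ((f z : A) : G) ∈ W := by
    intro z
    refine mem_inf.mpr ⟨hAS (f z).2, mem_centralizer_iff.mpr fun n hn => ?_⟩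
    let c : A →* A := MonoidHom.mk' (fun a => ⟨n * a * n⁻¹, hAN n hn a a.2⟩) fun a b =>
      Subtype.ext (by simp [mul_assoc])
    have h : c (f z) = f z := by
      show c (∏ q, φ z q) = ∏ q, φ z q
      rw [map_prod]
      refine Fintype.prod_equiv (MulAction.toPerm (⟨n, hn⟩ : N)) _ _ fun q => ?_
      induction q using QuotientGroup.induction_on with
      | H g =>
        refine Subtype.ext ?_
        show n * ((φ z (QuotientGroup.mk g) : A) : G) * n⁻¹ =
          ((φ z (QuotientGroup.mk (⟨n, hn⟩ * g)) : A) : G)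
        rw [hφ, hφ, Subgroup.coe_mul]
        group
    exact mul_inv_eq_iff_eq_mul.mp (congrArg Subtype.val h)
  set m := Nat.card R
  have hm : m.Coprime p := by
    refine ((Fact.out : p.Prime).coprime_iff_not_dvd.mpr fun h => S.not_dvd_index ?_).symm
    exact h.trans ((relIndex_dvd_index_of_le hSN) : (S : Subgroup G).relIndex N ∣ _)
  -- on fixed points it is a power
  have hfix : ∀ (z : Z), (z : G) ∈ W → ((f z : A) : G) = (z : G) ^ m := by
    intro z hz
    have : f z = (⟨z, hZA z.2⟩ : A) ^ m := by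
      show ∏ q, φ z q = _
      rw [show m = (Finset.univ : Finset R).card from Nat.card_eq_fintype_card, ← Finset.prod_const]
      refine Finset.prod_congr rfl fun q _ => ?_
      induction q using QuotientGroup.induction_on with
      | H g => exact Subtype.ext (by rw [hφ, mem_centralizer_iff.mp hz.2 g g.2, mul_inv_cancel_right])
    rw [this, SubmonoidClass.coe_pow]
  have hpow : ∀ x ∈ W, ∃ k : ℕ, (x ^ m) ^ k = x := by
    intro x hx
    obtain ⟨j, hj⟩ := S.2 ⟨x, hx.1⟩
    exact exists_pow_eq_self_of_coprime ((hm.pow_right j).coprime_dvd_right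
      (orderOf_dvd_of_pow_eq_one (congrArg Subtype.val hj)))
  refine ⟨f.ker.map Z.subtype, map_subtype_le _, ?_, ?_⟩
  · refine (eq_bot_iff_forall _).mpr fun x hx => ?_
    obtain ⟨z, hz, rfl⟩ := hx.2
    have h1 : ((z : G)) ^ m = 1 := by rw [← hfix z hx.1, MonoidHom.mem_ker.mp hz, Subgroup.coe_one]
    obtain ⟨k, hk⟩ := hpow _ hx.1
    show (z : G) = 1
    have hk' : ((z : G) ^ m) ^ k = (z : G) := hk
    rw [← hk']
    simp [h1]
  · refine le_antisymm (sup_le hWZ (map_subtype_le _)) fun x hx => ?_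
    set w := ((f ⟨x, hx⟩ : A) : G)
    have hw := hfW ⟨x, hx⟩
    obtain ⟨k, hk⟩ := hpow _ hw
    have hwk : w ^ k ∈ W := pow_mem hw k
    have hker : (⟨x * (w ^ k)⁻¹, mul_mem hx (inv_mem (hWZ hwk))⟩ : Z) ∈ f.ker := by
      rw [MonoidHom.mem_ker, show (⟨x * (w ^ k)⁻¹, mul_mem hx (inv_mem (hWZ hwk))⟩ : Z) =
        ⟨x, hx⟩ * (⟨w ^ k, hWZ hwk⟩ : Z)⁻¹ from rfl, map_mul, map_inv, mul_inv_eq_one]
      refine Subtype.ext ?_
      rw [hfix ⟨w ^ k, hWZ hwk⟩ hwk]
      show w = (w ^ k) ^ m
      rw [← pow_mul, mul_comm, pow_mul, hk]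
    have := mul_mem (mem_sup_right (mem_map_of_mem Z.subtype hker) :
      x * (w ^ k)⁻¹ ∈ W ⊔ f.ker.map Z.subtype) (mem_sup_left hwk)
    rwa [inv_mul_cancel_right] at this

end Cfsg.Agent.QdFree.IsolatedCenter
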