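import Cfsg.Agent.QdFree.Section
import Cfsg.Agent.QdFree.Involve

/-!
# Faithful quadratic action on an abelian group of exponent `p`
-/

namespace Cfsg.Agent.QdFree

open Subgroup

universe u v

variable {p : ℕ} [hp : Fact p.Prime]

open scoped commutatorElement in
/-- A faithful group with trivial `p`-core containing a nontrivial quadratic element involves
`SL₂(p)`. -/
theorem involves_sl2_of_action (h2 : p ≠ 2) {W : Type u} [CommGroup W] [Finite W]
    (hW : ∀ w : W, w ^ p = 1) {H : Type v} [Group H] [Finite H] (φ : H →* MulAut W)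
    (hφ : Function.Injective φ) (hO : Cfsg.pCore p H = ⊥) {x : H} (hx : x ≠ 1)
    (hq : ∀ w, φ x (φ x w * w⁻¹) = φ x w * w⁻¹) :
    Cfsg.Involves (Matrix.SpecialLinearGroup (Fin 2) (ZMod p)) H := by
  have : Finite (AddMonoid.End (Additive W)) := Finite.of_injective _ DFunLike.coe_injective
  have h0 : ((p : ℕ) : AddMonoid.End (Additive W)) = 0 := by
    refine AddMonoidHom.ext fun z => ?_
    change p • z = 0
    exact Additive.toMul.injective (hW z.toMul)
  let ρ : H →* AddMonoid.End (Additive W) :=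
    { toFun := fun h => MonoidHom.toAdditive (φ h).toMonoidHom
      map_one' := by rw [map_one]; rfl
      map_mul' := fun a b => by rw [map_mul]; rfl }
  have hρ : Function.Injective ρ := fun a b hab => hφ (MulEquiv.ext fun w =>
    congrArg Additive.toMul (DFunLike.congr_fun hab (Additive.ofMul w)))
  refine involves_sl2_of_quadratic h2 h0 ρ hρ hO hx (AddMonoidHom.ext fun z => ?_)
  change ρ x (ρ x z - z) - (ρ x z - z) = 0
  rw [sub_eq_zero]
  refine Additive.toMul.injective ?_
  simp only [toMul_sub, div_eq_mul_inv]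
  exact (congrArg (φ x) (div_eq_mul_inv _ _)).trans (hq z.toMul)

open scoped commutatorElement in
theorem conj_commutator_fixed {G : Type u} [Group G] {V : Subgroup G} {x : G}
    (hq : ⁅⁅V, zpowers x⁆, zpowers x⁆ = ⊥) {v : G} (hv : v ∈ V) :
    x * (x * v * x⁻¹ * v⁻¹) * x⁻¹ = x * v * x⁻¹ * v⁻¹ := by
  have h1 : ⁅v, x⁆ ∈ ⁅V, zpowers x⁆ := commutator_mem_commutator hv (mem_zpowers x)
  have h3 : ⁅⁅v, x⁆, x⁆ ∈ (⊥ : Subgroup G) := hq ▸ commutator_mem_commutator h1 (mem_zpowers x)
  rw [mem_bot, commutatorElement_eq_one_iff_mul_comm, ← commutatorElement_inv] at h3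
  have h4 : Commute ⁅x, v⁆⁻¹ x := h3
  have h5 : ⁅x, v⁆ * x = x * ⁅x, v⁆ := by
    simpa using h4.inv_left.eq
  rw [← commutatorElement_def, ← h5, mul_inv_cancel_right]

open scoped commutatorElement IsMulCommutative in
/-- The case of a subgroup acting by conjugation. -/
theorem involves_sl2_of_conj {G : Type u} [Group G] [Finite G] (h2 : p ≠ 2) (V H : Subgroup G)
    [IsMulCommutative V] (hexp : ∀ v ∈ V, v ^ p = 1) (hHV : H ≤ normalizer (V : Set G))
    (hf : H ⊓ centralizer (V : Set G) = ⊥) (hO : Cfsg.pCore p H = ⊥) {x : G} (hxH : x ∈ H)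
    (hx1 : x ≠ 1) (hq : ⁅⁅V, zpowers x⁆, zpowers x⁆ = ⊥) :
    Cfsg.Involves (Matrix.SpecialLinearGroup (Fin 2) (ZMod p)) H := by
  refine involves_sl2_of_action h2 (W := V) (fun v => Subtype.ext (by simpa using hexp v v.2))
    ((V.normalizerMonoidHom).comp (Subgroup.inclusion hHV)) ?_ hO
    (x := ⟨x, hxH⟩) (fun h => hx1 (congrArg Subtype.val h)) ?_
  · rw [injective_iff_map_eq_one]
    intro h hh
    have hk : Subgroup.inclusion hHV h ∈ (V.normalizerMonoidHom).ker := hh
    rw [normalizerMonoidHom_ker] at hk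
    have : (h : G) ∈ H ⊓ centralizer (V : Set G) := ⟨h.2, hk⟩
    rw [hf, mem_bot] at this
    exact Subtype.ext this
  · intro v
    apply Subtype.ext
    exact conj_commutator_fixed hq v.2

end Cfsg.Agent.QdFree
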