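import Cfsg.Agent.QdFree.TwoMod
import Cfsg.Agent.QdFree.S4Plane

/-!
# No best offenders without `S₄` for abelian quadratic Sylow 2-subgroups

`exists_normal_twoMod` : in a group without a section `S₄` in which every 2-subgroup acts
quadratically on the normal elementary abelian 2-subgroup `V`, a best offender lies in a normal
subgroup which is a 2-group modulo `C(V)`.
-/

set_option autoImplicit false
set_option maxHeartbeats 1000000

namespace Cfsg.Agent.QdFree.Offend

open Subgroup
open scoped commutatorElement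

universe u

variable {G : Type u} [Group G]

/-- The key predicate of the induction. -/
def Offends (G : Type u) [Group G] (V : Subgroup G) : Prop :=
  ∀ A : Subgroup G, V.Normal → Cfsg.IsElementaryAbelian 2 V → Quad V →
    Cfsg.IsElementaryAbelian 2 A → Best V A →
    ∃ N : Subgroup G, N.Normal ∧ TwoMod (centralizer (V : Set G)) N ∧ A ≤ N

theorem subgroupOf_centralizer {H X : Subgroup G} (hX : X ≤ H) :
    (centralizer (X : Set G)).subgroupOf H = centralizer (X.subgroupOf H : Set H) := by
  ext y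
  rw [mem_subgroupOf, mem_centralizer_iff, mem_centralizer_iff]
  constructor
  · exact fun h z hz => Subtype.ext (h z hz)
  · exact fun h z hz => congrArg Subtype.val (h ⟨z, hX hz⟩ hz)

variable [Finite G]

/-- Two best offenders inside a proper subgroup commute modulo the centralizer. -/
theorem commutator_le_of_lt {V A B H : Subgroup G} [V.Normal] (hV : Cfsg.IsElementaryAbelian 2 V)
    (hQ : Quad V) (hA : Cfsg.IsElementaryAbelian 2 A) (hB : Cfsg.IsElementaryAbelian 2 B)
    (hbA : Best V A) (hbB : Best V B) (hTH : centralizer (V : Set G) ≤ H) (hAH : A ≤ H)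
    (hBH : B ≤ H) (ih : Offends H (V.subgroupOf H)) : ⁅A, B⁆ ≤ centralizer (V : Set G) := by
  have hVH : V ≤ H := (le_centralizer_self hV).trans hTH
  have hVn : (V.subgroupOf H).Normal := (inferInstance : V.Normal).comap H.subtype
  have hV' : Cfsg.IsElementaryAbelian 2 (V.subgroupOf H) := by
    rw [← Thompson.ea_map_iff H.subtype_injective, map_subgroupOf_eq_of_le hVH]; exact hV
  have hQ' : Quad (V.subgroupOf H) := fun P hP v hv s hs t ht => by
    have h := hQ (P.map H.subtype) (hP.map _) v hv s (mem_map_of_mem _ hs) t (mem_map_of_mem _ ht)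
    exact Subtype.ext h.eq
  have hcard : ∀ X : Subgroup H,
      Nat.card (V.subgroupOf H ⊓ centralizer (X : Set H) : Subgroup H) =
        Nat.card (V ⊓ centralizer (X.map H.subtype : Set G) : Subgroup G) := by
    intro X
    have e : (V.subgroupOf H ⊓ centralizer (X : Set H)).map H.subtype =
        V ⊓ centralizer (X.map H.subtype : Set G) := by
      ext y
      constructor
      · rintro ⟨x, ⟨hx, hxc⟩, rfl⟩
        refine ⟨hx, mem_centralizer_iff.2 ?_⟩
        rintro _ ⟨z, hz, rfl⟩
        exact congrArg Subtype.val (mem_centralizer_iff.1 hxc z hz)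
      · rintro ⟨hy, hyc⟩
        exact ⟨⟨y, hVH hy⟩, ⟨hy, mem_centralizer_iff.2 fun z hz =>
          Subtype.ext (mem_centralizer_iff.1 hyc _ (mem_map_of_mem H.subtype hz))⟩, rfl⟩
    rw [← e, card_map_of_injective H.subtype_injective]
  have hres : ∀ X, X ≤ H → Cfsg.IsElementaryAbelian 2 X → Best V X →
      ∃ N : Subgroup H, N.Normal ∧ TwoMod (centralizer (V.subgroupOf H : Set H)) N ∧
        X.subgroupOf H ≤ N := by
    intro X hXH hX hbX
    refine ih _ hVn hV' hQ' ?_ ?_
    · rw [← Thompson.ea_map_iff H.subtype_injective, map_subgroupOf_eq_of_le hXH]; exact hX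
    intro Y hYX hY
    have h1 : Y.map H.subtype ≤ X := (map_mono hYX).trans_eq (map_subgroupOf_eq_of_le hXH)
    have h2 : X ⊓ centralizer (V : Set G) ≤ Y.map H.subtype := fun x hx =>
      ⟨⟨x, hXH hx.1⟩, hY ⟨hx.1, (subgroupOf_centralizer hVH).le hx.2⟩, rfl⟩
    have h3 := hbX _ h1 h2
    rw [hcard, hcard, map_subgroupOf_eq_of_le hXH,
      Nat.card_congr (subgroupOfEquivOfLe hXH).toEquiv]
    rwa [card_map_of_injective H.subtype_injective] at h3
  obtain ⟨N₁, hN₁, hN₁t, hAN⟩ := hres A hAH hA hbA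
  obtain ⟨N₂, hN₂, hN₂t, hBN⟩ := hres B hBH hB hbB
  have := ZJControl.centralizer_normal (V.subgroupOf H)
  set q := QuotientGroup.mk' (centralizer (V.subgroupOf H : Set H))
  have : (N₁.map q).Normal := hN₁.map q (QuotientGroup.mk'_surjective _)
  have hN : TwoMod (centralizer (V.subgroupOf H : Set H)) (N₁ ⊔ N₂) := by
    rw [← isPGroup_map_iff, Subgroup.map_sup]
    exact (isPGroup_map_iff.2 hN₁t).to_sup_of_normal_left (isPGroup_map_iff.2 hN₂t)
  refine commutator_le.2 fun a ha b hb => ?_
  have h := hQ'.commutator_mem hV' hN (mem_sup_left (hAN (show (⟨a, hAH ha⟩ : H) ∈ _ from ha)))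
    (mem_sup_right (hBN (show (⟨b, hBH hb⟩ : H) ∈ _ from hb)))
  exact (subgroupOf_centralizer hVH).ge h

omit [Finite G] in
/-- A subgroup centralized modulo `C` lies in a normal 2-group modulo `C`. -/
theorem exists_normal_of_central {C : Subgroup G} [C.Normal] {a : G} (ha : a * a ∈ C)
    (h : ∀ x, ⁅a, x⁆ ∈ C) : ∃ N : Subgroup G, N.Normal ∧ TwoMod C N ∧ a ∈ N := by
  set q := QuotientGroup.mk' C
  have hc : zpowers (q a) ≤ center (G ⧸ C) := by
    refine zpowers_le.2 (mem_center_iff.2 fun y => ?_)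
    obtain ⟨x, rfl⟩ := QuotientGroup.mk'_surjective C y
    refine (commutatorElement_eq_one_iff_mul_comm.1 ?_).symm
    rw [← map_commutatorElement]
    exact (QuotientGroup.eq_one_iff _).2 (h x)
  have hn : (zpowers (q a)).Normal := ⟨fun x hx g => by
    rwa [mem_center_iff.1 (hc hx) g, mul_inv_cancel_right]⟩
  have h2 : IsPGroup 2 (zpowers (q a)) := by
    rintro ⟨x, hx⟩
    obtain ⟨k, rfl⟩ := mem_zpowers_iff.1 hx
    refine ⟨1, Subtype.ext ?_⟩
    show (q a ^ k) ^ 2 ^ 1 = 1
    rw [pow_one, ← zpow_natCast, ← zpow_mul, mul_comm, zpow_mul, zpow_natCast, pow_two, ← map_mul,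
      show q (a * a) = 1 from (QuotientGroup.eq_one_iff _).2 ha, one_zpow]
  exact ⟨_, hn.comap q, twoMod_comap h2, mem_zpowers _⟩

theorem offends_aux : ∀ (n : ℕ) (G : Type u) [Group G] [Finite G] (V A : Subgroup G),
    Nat.card G + Nat.card V ≤ n → ¬ Cfsg.Involves (Equiv.Perm (Fin 4)) G → V.Normal →
    Cfsg.IsElementaryAbelian 2 V → Quad V → Cfsg.IsElementaryAbelian 2 A → Best V A →
    ∃ N : Subgroup G, N.Normal ∧ TwoMod (centralizer (V : Set G)) N ∧ A ≤ N := by
  classical
  intro n
  induction n using Nat.strong_induction_on with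
  | _ n ih =>
  intro G _ _ V A hn h4 hVn hV hQ hA hbA
  set T := centralizer (V : Set G) with hT
  have hTn : T.Normal := ZJControl.centralizer_normal V
  set q := QuotientGroup.mk' T with hqdef
  have hq : ∀ {x : G}, q x = 1 ↔ x ∈ T := fun {x} => QuotientGroup.eq_one_iff x
  have hVT : V ≤ T := le_centralizer_self hV
  by_contra hno
  -- smaller modules
  have hsmall : ∀ W : Subgroup G, W.Normal → W ≤ V → W ≠ V →
      (∀ x ∈ centralizer (W : Set G), x * x ∈ T) → False := by
    intro W hWn hWV hne hC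
    have hlt : Nat.card W < Nat.card V := lt_of_le_of_ne
      (Nat.le_of_dvd Nat.card_pos (card_dvd_of_le hWV)) fun e => hne (eq_of_le_of_card_ge hWV e.ge)
    obtain ⟨N, hNn, hNt, hAN⟩ := ih (Nat.card G + Nat.card W) (by omega) G W A le_rfl h4 hWn
      (Thompson.ea_mono hV hWV) (fun P hP v hv => hQ P hP v (hWV hv)) hA (hbA.restrict hV hWV)
    exact hno ⟨N, hNn, hNt.trans (j := 1) (fun x hx => by rw [pow_one, pow_two]; exact hC x hx), hAN⟩
  -- two best offenders generate the group or commute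
  have hproper : ∀ X Y : Subgroup G, Cfsg.IsElementaryAbelian 2 X → Cfsg.IsElementaryAbelian 2 Y →
      Best V X → Best V Y → X ⊔ Y ⊔ T ≠ ⊤ → ⁅X, Y⁆ ≤ T := by
    intro X Y hX hY hbX hbY hne
    set H := X ⊔ Y ⊔ T
    have hlt : Nat.card H < Nat.card G := lt_of_le_of_ne
      (Nat.le_of_dvd Nat.card_pos (card_subgroup_dvd_card H)) fun e => hne (eq_top_of_card_eq _ e)
    refine commutator_le_of_lt hV hQ hX hY hbX hbY le_sup_right (le_sup_left.trans le_sup_left)
      (le_sup_right.trans le_sup_left) fun A' hn' hV' hQ' hA' hb' => ?_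
    refine ih (Nat.card H + Nat.card (V.subgroupOf H)) ?_ H _ A' le_rfl
      (fun h => h4 (involves_of_subgroup h)) hn' hV' hQ' hA' hb'
    rw [Nat.card_congr (subgroupOfEquivOfLe (hVT.trans le_sup_right)).toEquiv]
    omega
  -- a pair of conjugates of `A` generating the group
  obtain ⟨g, hg⟩ : ∃ g, ¬ ⁅A, A.map (MulAut.conj g).toMonoidHom⁆ ≤ T := by
    by_contra hall
    push Not at hall
    set K : Subgroup (G ⧸ T) := Subgroup.normalClosure (A.map q : Set (G ⧸ T))
    have hK : Cfsg.IsElementaryAbelian 2 K := by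
      have hmem : ∀ y ∈ Group.conjugatesOfSet (A.map q : Set (G ⧸ T)),
          ∃ (h : G), ∃ a ∈ A, y = q (h * a * h⁻¹) := by
        intro y hy
        obtain ⟨x, ⟨a, ha, rfl⟩, hxy⟩ := Group.mem_conjugatesOfSet_iff.1 hy
        obtain ⟨c, rfl⟩ := isConj_iff.1 hxy
        obtain ⟨h, rfl⟩ := QuotientGroup.mk'_surjective T c
        exact ⟨h, a, ha, by rw [map_mul, map_mul, map_inv]⟩
      refine Thompson.ea_closure (fun x hx => mem_centralizer_iff.2 fun y hy => ?_) fun x hx => ?_
      · obtain ⟨h, a, ha, rfl⟩ := hmem x hx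
        obtain ⟨k, b, hb, rfl⟩ := hmem y hy
        have h1 := hall (h⁻¹ * k) (commutator_mem_commutator ha (mem_map_of_mem _ hb))
        have h2 := hTn.conj_mem _ h1 h
        refine (commutatorElement_eq_one_iff_mul_comm.1 ?_).symm
        rw [← map_commutatorElement, hq]
        convert h2 using 1
        simp only [commutatorElement_def, MulEquiv.coe_toMonoidHom, MulAut.conj_apply]
        group
      · obtain ⟨h, a, ha, rfl⟩ := hmem x hx
        rw [← map_pow, conj_pow, hA.2 a ha, mul_one, mul_inv_cancel, map_one]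
    exact hno ⟨K.comap q, Subgroup.normalClosure_normal.comap q,
      twoMod_comap (Thompson.ea_isPGroup hK),
      fun a ha => Subgroup.subset_normalClosure (mem_map_of_mem q ha)⟩
  set B := A.map (MulAut.conj g).toMonoidHom with hBdef
  have hB : Cfsg.IsElementaryAbelian 2 B := Thompson.ea_map hA _
  have hbB : Best V B := hbA.conj g
  have hgen : A ⊔ B ⊔ T = ⊤ := by
    by_contra h
    exact hg (hproper A B hA hB hbA hbB h)
  -- normal 2-subgroups modulo `T` are trivial
  have hP : ∀ N : Subgroup G, N.Normal → TwoMod T N → N ≤ T := by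
    intro N hNn hNt
    by_contra hNT
    have hcom : ∀ X : Subgroup G, Cfsg.IsElementaryAbelian 2 X → ∀ x ∈ X, ∀ m ∈ N, ⁅x, m⁆ ∈ T := by
      intro X hX x hx m hm
      have : (N.map q).Normal := hNn.map q (QuotientGroup.mk'_surjective T)
      have hXN : TwoMod T (X ⊔ N) := by
        rw [← isPGroup_map_iff, Subgroup.map_sup]
        exact (isPGroup_map_iff.2 (twoMod_of_ea T hX)).to_sup_of_normal_right (isPGroup_map_iff.2 hNt)
      exact hQ.commutator_mem hV hXN (mem_sup_left hx) (mem_sup_right hm)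
    set W := V ⊓ centralizer (N : Set G)
    refine hsmall W inf_centralizer_normal inf_le_left (fun e => hNT ?_) fun x hx =>
      sq_mem_of_stable hV inf_le_left hx fun v hv => ?_
    · exact le_centralizer_iff.1 (inf_eq_left.1 e)
    have hv' : x * v * x⁻¹ ∈ V := hVn.conj_mem v hv x
    refine ⟨(mul_mem (inv_mem hv) hv' : v⁻¹ * (x * v * x⁻¹) ∈ V), mem_centralizer_iff.2 fun m hm => ?_⟩
    -- `x` fixes the commutators of `V` with `N`
    have hxm : x⁻¹ * m * x ∈ N := by simpa using hNn.conj_mem m hm x⁻¹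
    have hw : ⁅v, x⁻¹ * m * x⁆ ∈ W := ⟨commutator_mem_self hv _, mem_centralizer_iff.2 fun k hk =>
      (hQ.commute hNt hv hxm hk).eq.symm⟩
    have e1 : x * ⁅v, x⁻¹ * m * x⁆ * x⁻¹ = ⁅v, x⁻¹ * m * x⁆ := by
      rw [← mem_centralizer_iff.1 hx _ hw, mul_inv_cancel_right]
    have e2 : x * ⁅v, x⁻¹ * m * x⁆ * x⁻¹ = ⁅x * v * x⁻¹, m⁆ := by
      simp only [commutatorElement_def]; group
    -- conjugates of `m` modulo `T` act alike
    have hmt : ⁅m, x⁻¹⁆ ∈ T := by
      have hgenx : (⊤ : Subgroup G) ≤ (centralizer ({q m} : Set (G ⧸ T))).comap q := by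
        rw [← hgen]
        refine sup_le (sup_le ?_ ?_) ?_
        · intro y hy
          refine mem_centralizer_singleton_iff.2 (commutatorElement_eq_one_iff_mul_comm.1 ?_)
          rw [← map_commutatorElement, hq]
          exact hcom A hA y hy m hm
        · intro y hy
          refine mem_centralizer_singleton_iff.2 (commutatorElement_eq_one_iff_mul_comm.1 ?_)
          rw [← map_commutatorElement, hq]
          exact hcom B hB y hy m hm
        · intro y hy
          show q y ∈ centralizer ({q m} : Set (G ⧸ T))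
          rw [hq.2 hy]; exact one_mem _
      rw [← hq, map_commutatorElement, commutatorElement_eq_one_iff_mul_comm]
      exact (mem_centralizer_singleton_iff.1 (hgenx (mem_top x⁻¹))).symm
    have hmc : m⁻¹ * (x⁻¹ * m * x) ∈ T := by
      have := hTn.conj_mem _ (inv_mem hmt) m⁻¹
      convert this using 1
      simp only [commutatorElement_def]; group
    have e3 : ⁅v, x⁻¹ * m * x⁆ = ⁅v, m⁆ := by
      set c := m⁻¹ * (x⁻¹ * m * x) with hcdef
      have hcv := mem_centralizer_iff.1 hmc v⁻¹ (inv_mem hv)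
      calc ⁅v, x⁻¹ * m * x⁆ = v * m * (c * v⁻¹) * c⁻¹ * m⁻¹ := by
            rw [hcdef]; simp only [commutatorElement_def]; group
        _ = v * m * (v⁻¹ * c) * c⁻¹ * m⁻¹ := by rw [hcv]
        _ = ⁅v, m⁆ := by simp only [commutatorElement_def]; group
    rw [e1, e3] at e2
    have e4 : v⁻¹ * (x * v * x⁻¹) = m * (v⁻¹ * (x * v * x⁻¹)) * m⁻¹ := by
      calc v⁻¹ * (x * v * x⁻¹)
          = v⁻¹ * ⁅x * v * x⁻¹, m⁆ * (m * (x * v * x⁻¹) * m⁻¹) := by
            simp only [commutatorElement_def]; group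
        _ = v⁻¹ * ⁅v, m⁆ * (m * (x * v * x⁻¹) * m⁻¹) := by rw [e2]
        _ = _ := by simp only [commutatorElement_def]; group
    exact (eq_mul_inv_iff_mul_eq.1 e4).symm
  have hcent : ∀ a : G, a * a ∈ T → (∀ x, ⁅a, x⁆ ∈ T) → a ∈ T := fun a ha hc => by
    obtain ⟨N, hNn, hNt, haN⟩ := exists_normal_of_central ha hc
    exact hP N hNn hNt haN
  -- the central elements of `V`
  set D := V ⊓ center G with hD
  have hDn : D.Normal := inferInstance
  have hVfull : ⁅V, ⊤⁆ ⊔ D = V := by
    have hle : ⁅V, ⊤⁆ ⊔ D ≤ V := sup_le (commutator_le_left V ⊤) inf_le_left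
    by_contra hne
    refine hsmall _ inferInstance hle hne fun x hx => sq_mem_of_stable hV hle hx fun v hv => ?_
    refine mem_sup_left ?_
    rw [show v⁻¹ * (x * v * x⁻¹) = ⁅v⁻¹, x⁆ by simp only [commutatorElement_def]; group]
    exact commutator_mem_commutator (inv_mem hv) (mem_top x)
  set U := V ⊓ centralizer (A : Set G)
  set U' := V ⊓ centralizer (B : Set G)
  have hDle : ∀ X : Subgroup G, D ≤ V ⊓ centralizer (X : Set G) := fun X =>
    inf_le_inf_left V (center_le_centralizer _)
  have hUU : U ⊓ U' = D := by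
    refine le_antisymm (fun y hy => ⟨hy.1.1, mem_center_iff.2 fun x => ?_⟩) (le_inf (hDle A) (hDle B))
    have hle : A ⊔ B ⊔ T ≤ centralizer ({y} : Set G) := by
      refine sup_le (sup_le ?_ ?_) ?_ <;> intro z hz <;> refine mem_centralizer_singleton_iff.2 ?_
      · exact mem_centralizer_iff.1 hy.1.2 z hz
      · exact mem_centralizer_iff.1 hy.2.2 z hz
      · exact (mem_centralizer_iff.1 hz y hy.1.1).symm
    exact mem_centralizer_singleton_iff.1 (hle (hgen ▸ mem_top x))
  have hUV : U ⊔ U' = V := by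
    refine le_antisymm (sup_le inf_le_left inf_le_left) (hVfull.ge.trans (sup_le ?_ ((hDle A).trans le_sup_left)))
    let R : Subgroup G :=
      { carrier := {x | ∀ v ∈ V, ⁅v, x⁆ ∈ U ⊔ U' ∧ ⁅v, x⁻¹⁆ ∈ U ⊔ U'}
        one_mem' := fun v _ => by simp [one_mem]
        mul_mem' := by
          intro x y hx hy v hv
          have key : ∀ {x y : G}, (∀ v ∈ V, ⁅v, x⁆ ∈ U ⊔ U') → (∀ v ∈ V, ⁅v, y⁆ ∈ U ⊔ U') →
              ⁅v, x * y⁆ ∈ U ⊔ U' := by
            intro x y hx hy
            have hw := hy v hv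
            have hwV : ⁅v, y⁆ ∈ V := commutator_mem_self hv y
            rw [show ⁅v, x * y⁆ = ⁅v, x⁆ * (⁅⁅v, y⁆, x⁆⁻¹ * ⁅v, y⁆) by
              simp only [commutatorElement_def]; group]
            exact mul_mem (hx v hv) (mul_mem (inv_mem (hx _ hwV)) hw)
          exact ⟨key (fun v hv => (hx v hv).1) (fun v hv => (hy v hv).1), by
            rw [mul_inv_rev]; exact key (fun v hv => (hy v hv).2) (fun v hv => (hx v hv).2)⟩
        inv_mem' := fun {x} hx v hv => by
          rw [inv_inv]; exact ⟨(hx v hv).2, (hx v hv).1⟩ }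
    have hle : A ⊔ B ⊔ T ≤ R := by
      refine sup_le (sup_le ?_ ?_) ?_ <;> intro x hx v hv
      · exact ⟨mem_sup_left ⟨commutator_mem_self hv x, mem_centralizer_iff.2 fun a ha =>
          (hQ A (Thompson.ea_isPGroup hA) v hv x hx a ha).eq.symm⟩,
          mem_sup_left ⟨commutator_mem_self hv x⁻¹, mem_centralizer_iff.2 fun a ha =>
          (hQ A (Thompson.ea_isPGroup hA) v hv _ (inv_mem hx) a ha).eq.symm⟩⟩
      · exact ⟨mem_sup_right ⟨commutator_mem_self hv x, mem_centralizer_iff.2 fun a ha =>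
          (hQ B (Thompson.ea_isPGroup hB) v hv x hx a ha).eq.symm⟩,
          mem_sup_right ⟨commutator_mem_self hv x⁻¹, mem_centralizer_iff.2 fun a ha =>
          (hQ B (Thompson.ea_isPGroup hB) v hv _ (inv_mem hx) a ha).eq.symm⟩⟩
      · have h1 : ∀ c ∈ T, ⁅v, c⁆ = 1 := fun c hc =>
          commutatorElement_eq_one_iff_mul_comm.2 (mem_centralizer_iff.1 hc v hv)
        rw [h1 x hx, h1 _ (inv_mem hx)]
        exact ⟨one_mem _, one_mem _⟩
    exact commutator_le.2 fun v hv x _ => (hle (hgen ▸ mem_top x) v hv).1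
  -- orders
  have hU' : Nat.card U' = Nat.card U := by
    have h := map_inf_centralizer (V := V) (MulAut.conj g) A
    rw [show V.map (MulAut.conj g).toMonoidHom = V from Subgroup.Normal.map_conj_eq V g] at h
    show Nat.card (V ⊓ centralizer (B : Set G) : Subgroup G) = _
    rw [← h, card_map_of_injective (MulAut.conj g).injective]
  have hVD : Nat.card V * Nat.card D = Nat.card U * Nat.card U := by
    have h := Thompson.card_sup_mul_card_inf_of_comm (X := U) (Y := U')
      (inf_le_left.trans ((le_centralizer_self hV).trans (centralizer_le inf_le_left)))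
    rwa [hUV, hUU, hU'] at h
  -- the commutator map of an element of one space is onto the other
  have key : ∀ X Y : Subgroup G, Cfsg.IsElementaryAbelian 2 X → Cfsg.IsElementaryAbelian 2 Y →
      Best V X → Best V Y → X ⊔ Y ⊔ T = ⊤ →
      (V ⊓ centralizer (X : Set G)) ⊓ (V ⊓ centralizer (Y : Set G)) = D →
      Nat.card V * Nat.card D =
        Nat.card (V ⊓ centralizer (X : Set G) : Subgroup G) *
          Nat.card (V ⊓ centralizer (X : Set G) : Subgroup G) →
      ∀ u ∈ V ⊓ centralizer (Y : Set G), u ∉ D → ∀ w ∈ V ⊓ centralizer (X : Set G),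
        ∃ a ∈ X, QuotientGroup.mk' D (a * u * a⁻¹) =
          QuotientGroup.mk' D w * QuotientGroup.mk' D u := by
    intro X Y hX hY hbX hbY hgen' hXY hVD' u hu huD w hw
    set U₀ := V ⊓ centralizer (X : Set G)
    set π := QuotientGroup.mk' D
    have hmemU : ∀ {a : G}, a ∈ X → ⁅u, a⁆ ∈ U₀ := fun {a} ha =>
      ⟨commutator_mem_self hu.1 a, mem_centralizer_iff.2 fun b hb =>
        (hQ X (Thompson.ea_isPGroup hX) u hu.1 a ha b hb).eq.symm⟩
    choose r hrX hr using fun y : X.map q => mem_map.1 y.2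
    let f : X.map q → U₀.map π := fun y => ⟨π ⁅u, r y⁆, mem_map_of_mem π (hmemU (hrX y))⟩
    have hinj : Function.Injective f := by
      intro y₁ y₂ h
      have h' : π ⁅u, r y₁⁆ = π ⁅u, r y₂⁆ := congrArg Subtype.val h
      refine Subtype.ext ?_
      rw [← hr y₁, ← hr y₂, eq_comm, ← inv_mul_eq_one, ← map_inv, ← map_mul, hq]
      set c := (r y₂)⁻¹ * r y₁ with hcdef
      have hcX : c ∈ X := mul_mem (inv_mem (hrX y₂)) (hrX y₁)
      -- `c` fixes `u` modulo `D`
      have hfix : π (c * u * c⁻¹) = π u := by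
        have e : ∀ a : G, π (a * u * a⁻¹) = (π ⁅u, a⁆)⁻¹ * π u := fun a => by
          rw [conj_eq, map_mul, map_inv]
        have e2 : π (r y₁ * u * (r y₁)⁻¹) = π (r y₂ * u * (r y₂)⁻¹) := by rw [e, e, h']
        calc π (c * u * c⁻¹) = (π (r y₂))⁻¹ * π (r y₁ * u * (r y₁)⁻¹) * π (r y₂) := by
              rw [← map_inv, ← map_mul, ← map_mul, hcdef]; congr 1; group
          _ = π u := by rw [e2, ← map_inv, ← map_mul, ← map_mul]; congr 1; group
      have hd : u⁻¹ * (c * u * c⁻¹) ∈ D := QuotientGroup.eq.1 hfix.symm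
      set Y' := Y.map (MulAut.conj c).toMonoidHom
      have hu'Y : c * u * c⁻¹ ∈ V ⊓ centralizer (Y : Set G) := by
        have := mul_mem hu (hDle Y hd)
        rwa [mul_inv_cancel_left] at this
      have hcom : ⁅Y, Y'⁆ ≤ T := by
        refine hproper Y Y' hY (Thompson.ea_map hY _) hbY (hbY.conj c) fun e => huD ?_
        have hcu : c * u * c⁻¹ ∈ D := by
          refine ⟨hu'Y.1, mem_center_iff.2 fun x => ?_⟩
          have hle : Y ⊔ Y' ⊔ T ≤ centralizer ({c * u * c⁻¹} : Set G) := by
            refine sup_le (sup_le ?_ ?_) ?_ <;> intro z hz <;>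
              refine mem_centralizer_singleton_iff.2 ?_
            · exact mem_centralizer_iff.1 hu'Y.2 z hz
            · obtain ⟨y, hy, rfl⟩ := hz
              have h1 := mem_centralizer_iff.1 hu.2 y hy
              show c * y * c⁻¹ * (c * u * c⁻¹) = c * u * c⁻¹ * (c * y * c⁻¹)
              calc c * y * c⁻¹ * (c * u * c⁻¹) = c * (y * u) * c⁻¹ := by group
                _ = _ := by rw [h1]; group
            · exact (mem_centralizer_iff.1 hz _ hu'Y.1).symm
          exact mem_centralizer_singleton_iff.1 (hle (e ▸ mem_top x))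
        simpa [mul_assoc] using hDn.conj_mem _ hcu c⁻¹
      -- `⟨Y, Y', c⟩` is a 2-group modulo `T`
      have hYY : Cfsg.IsElementaryAbelian 2 (Y.map q ⊔ Y'.map q) := by
        refine Thompson.ea_sup (Thompson.ea_map hY q) (Thompson.ea_map (Thompson.ea_map hY _) q) ?_
        rintro _ ⟨a, ha, rfl⟩
        refine mem_centralizer_iff.2 ?_
        rintro _ ⟨b, hb, rfl⟩
        refine (commutatorElement_eq_one_iff_mul_comm.1 ?_).symm
        rw [← map_commutatorElement, hq]
        exact hcom (commutator_mem_commutator ha hb)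
      have hc2 : c * c = 1 := by rw [← pow_two]; exact hX.2 c hcX
      have hnorm : zpowers (q c) ≤ normalizer ((Y.map q ⊔ Y'.map q : Subgroup (G ⧸ T)) : Set (G ⧸ T)) := by
        refine zpowers_le.2 (ZJControl.mem_normalizer_of_conj fun z hz => ?_)
        have hle : Y.map q ⊔ Y'.map q ≤
            (Y.map q ⊔ Y'.map q).comap (MulAut.conj (q c)).toMonoidHom := by
          refine sup_le ?_ ?_
          · rintro _ ⟨a, ha, rfl⟩
            refine mem_sup_right ⟨c * a * c⁻¹, ⟨a, ha, rfl⟩, ?_⟩
            show q (c * a * c⁻¹) = q c * q a * (q c)⁻¹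
            rw [map_mul, map_mul, map_inv]
          · rintro _ ⟨_, ⟨a, ha, rfl⟩, rfl⟩
            refine mem_sup_left ⟨a, ha, ?_⟩
            show q a = q c * q (c * a * c⁻¹) * (q c)⁻¹
            rw [← map_inv, ← map_mul, ← map_mul,
              show c * (c * a * c⁻¹) * c⁻¹ = (c * c) * a * (c * c)⁻¹ by group, hc2, one_mul, inv_one,
              mul_one]
        exact hle hz
      have hN : TwoMod T ((zpowers (q c) ⊔ (Y.map q ⊔ Y'.map q)).comap q) := by
        refine twoMod_comap ((Thompson.ea_isPGroup (Thompson.ea_zpowers ?_)).to_sup_of_normal_right'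
          (Thompson.ea_isPGroup hYY) hnorm)
        rw [← map_pow, pow_two, hc2, map_one]
      refine hcent c (by rw [hc2]; exact one_mem _) fun x => ?_
      have hle : X ⊔ Y ⊔ T ≤ (centralizer ({q c} : Set (G ⧸ T))).comap q := by
        refine sup_le (sup_le ?_ ?_) ?_ <;> intro z hz <;>
          refine mem_centralizer_singleton_iff.2 ?_
        · rw [← map_mul, ← map_mul, show z * c = c * z from
            congrArg Subtype.val (hX.1.is_comm.comm (⟨z, hz⟩ : X) ⟨c, hcX⟩)]
        · refine commutatorElement_eq_one_iff_mul_comm.1 ?_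
          rw [← map_commutatorElement, hq]
          exact hQ.commutator_mem hV hN (mem_sup_right (mem_sup_left (mem_map_of_mem q hz)))
            (mem_sup_left (mem_zpowers _))
        · rw [hq.2 hz, one_mul, mul_one]
      rw [← hq, map_commutatorElement, commutatorElement_eq_one_iff_mul_comm]
      exact (mem_centralizer_singleton_iff.1 (hle (hgen' ▸ mem_top x))).symm
    have hcard : Nat.card (U₀.map π) ≤ Nat.card (X.map q) := by
      have e1 : Nat.card D * Nat.card (U₀.map π) = Nat.card U₀ := by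
        rw [← Coprime.card_mul_relIndex_of_le (hDle X), ← relIndex_ker, QuotientGroup.ker_mk']
      have e2 : Nat.card (X ⊓ T : Subgroup G) * Nat.card (X.map q) = Nat.card X := by
        rw [← Coprime.card_mul_relIndex_of_le (inf_le_left : X ⊓ T ≤ X), inf_relIndex_left,
          ← relIndex_ker, QuotientGroup.ker_mk']
      have h3 := hbX (X ⊓ T) inf_le_left le_rfl
      rw [inf_eq_left.2 (le_centralizer_iff.1 (inf_le_right : X ⊓ T ≤ T)), ← e2, mul_assoc] at h3
      have h4 := Nat.le_of_mul_le_mul_left h3 Nat.card_pos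
      have h5 : Nat.card U₀ * Nat.card U₀ ≤ Nat.card (X.map q) * Nat.card D * Nat.card U₀ := by
        rw [← hVD', mul_right_comm]
        exact Nat.mul_le_mul_right _ h4
      have h6 := Nat.le_of_mul_le_mul_right h5 Nat.card_pos
      rw [← e1, mul_comm] at h6
      exact Nat.le_of_mul_le_mul_right h6 Nat.card_pos
    obtain ⟨y, hy⟩ := (hinj.bijective_of_nat_card_le hcard).2
      ⟨π w⁻¹, mem_map_of_mem π (inv_mem hw)⟩
    refine ⟨r y, hrX y, ?_⟩
    have hy' : π ⁅u, r y⁆ = π w⁻¹ := congrArg Subtype.val hy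
    rw [conj_eq, map_mul, map_inv, hy', map_inv, inv_inv]
  -- the plane
  obtain ⟨w, hw, hwD⟩ : ∃ w ∈ U, w ∉ D := by
    by_contra hU
    push Not at hU
    have e : U = D := le_antisymm hU (hDle A)
    have e' : U' = D := (eq_of_le_of_card_ge (hDle B) (by rw [hU', e])).symm
    have eV : V ≤ center G := by
      rw [← hUV, e, e', sup_idem]; exact inf_le_right
    refine hg (le_trans le_top fun x _ => ?_)
    exact mem_centralizer_iff.2 fun v hv => (mem_center_iff.1 (eV hv) x).symm
  obtain ⟨u, hu, huD⟩ : ∃ u ∈ U', u ∉ D := by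
    by_contra hU
    push Not at hU
    have e : U' = D := le_antisymm hU (hDle B)
    exact hwD ((eq_of_le_of_card_ge (hDle A) (by rw [← hU', e])).ge hw)
  obtain ⟨a, ha, hau⟩ := key A B hA hB hbA hbB hgen hUU hVD u hu huD w hw
  obtain ⟨b, hb, hbw⟩ := key B A hB hA hbB hbA (by rw [sup_comm B A]; exact hgen)
    (by rw [inf_comm]; exact hUU) (by rw [show V ⊓ centralizer (B : Set G) = U' from rfl, hU']; exact hVD)
    w hw hwD u hu
  set π := QuotientGroup.mk' D
  have hπ : ∀ {x : G}, π x = 1 ↔ x ∈ D := fun {x} => QuotientGroup.eq_one_iff x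
  refine h4 (involves_of_surjective (involves_s4_of_plane (u := π u) (w := π w) (r := π a) (t := π b)
    ?_ ?_ ?_ ?_ ?_ ?_ ?_ ?_ ?_ ?_ ?_ ?_) (QuotientGroup.mk'_surjective D))
  · rw [← map_mul, ← pow_two, hA.2 a ha, map_one]
  · rw [← map_mul, ← pow_two, hB.2 b hb, map_one]
  · rw [← map_mul, ← pow_two, hV.2 u hu.1, map_one]
  · rw [← map_mul, ← pow_two, hV.2 w hw.1, map_one]
  · rw [← map_mul, ← map_mul, mem_centralizer_iff.1 (le_centralizer_self hV hw.1) u hu.1]
  · exact fun h => huD (hπ.1 h)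
  · exact fun h => hwD (hπ.1 h)
  · intro h
    have h1 : u⁻¹ * w ∈ D := QuotientGroup.eq.1 h
    have h2 : w ∈ U' := by simpa using mul_mem hu (hDle B h1)
    exact hwD (hUU.le ⟨hw, h2⟩)
  · rw [← map_inv, ← map_mul, ← map_mul, mem_centralizer_iff.1 hw.2 a ha, mul_inv_cancel_right]
  · rw [← map_inv, ← map_mul, ← map_mul]; exact hau
  · rw [← map_inv, ← map_mul, ← map_mul, mem_centralizer_iff.1 hu.2 b hb, mul_inv_cancel_right]
  · rw [← map_inv, ← map_mul, ← map_mul]; exact hbw

/-- A best offender lies in a normal 2-subgroup modulo the centralizer. -/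
theorem exists_normal_twoMod (h4 : ¬ Cfsg.Involves (Equiv.Perm (Fin 4)) G) {V A : Subgroup G}
    [hVn : V.Normal] (hV : Cfsg.IsElementaryAbelian 2 V) (hQ : Quad V)
    (hA : Cfsg.IsElementaryAbelian 2 A) (hbA : Best V A) :
    ∃ N : Subgroup G, N.Normal ∧ TwoMod (centralizer (V : Set G)) N ∧ A ≤ N :=
  offends_aux _ G V A le_rfl h4 hVn hV hQ hA hbA

end Cfsg.Agent.QdFree.Offend
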