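import Cfsg.Agent.QdFree.Linear
import Cfsg.Agent.QdFree.SL2Facts
import Cfsg.Prelude.Def_Transfer

/-!
# Two quadratic generators of a faithful group on an abelian group of exponent `p`
-/

set_option autoImplicit false

namespace Cfsg.Agent.QdFree

open Subgroup
open scoped commutatorElement IsMulCommutative

universe u

variable {p : ℕ} [hp : Fact p.Prime] {G : Type u} [Group G] [Finite G]

/-- The conjugation action as a representation by additive endomorphisms. -/
theorem exists_rep (V H : Subgroup G) [IsMulCommutative V] (hexp : ∀ v ∈ V, v ^ p = 1)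
    (hHV : H ≤ normalizer (V : Set G)) (hf : H ⊓ centralizer (V : Set G) = ⊥) :
    ∃ (R : Type u) (_ : Ring R) (_ : Finite R), (p : R) = 0 ∧ ∃ ρ : H →* R,
      Function.Injective ρ ∧ ∀ x : H, ⁅⁅V, zpowers (x : G)⁆, zpowers (x : G)⁆ = ⊥ →
        (ρ x - 1) * (ρ x - 1) = 0 := by
  have : Finite (AddMonoid.End (Additive V)) := Finite.of_injective _ DFunLike.coe_injective
  let φ : H →* MulAut V := (V.normalizerMonoidHom).comp (Subgroup.inclusion hHV)
  let ρ : H →* AddMonoid.End (Additive V) :=
    { toFun := fun h => MonoidHom.toAdditive (φ h).toMonoidHom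
      map_one' := by rw [map_one]; rfl
      map_mul' := fun a b => by rw [map_mul]; rfl }
  refine ⟨AddMonoid.End (Additive V), inferInstance, inferInstance, ?_, ρ, ?_, fun x hq => ?_⟩
  · refine AddMonoidHom.ext fun z => ?_
    change p • z = 0
    exact Additive.toMul.injective (Subtype.ext (by simpa using hexp _ z.toMul.2))
  · intro a b hab
    have h0 : φ a = φ b := MulEquiv.ext fun w =>
      congrArg Additive.toMul (DFunLike.congr_fun hab (Additive.ofMul w))
    have h1 : φ (a⁻¹ * b) = 1 := by rw [map_mul, map_inv, h0, inv_mul_cancel]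
    have hk : Subgroup.inclusion hHV (a⁻¹ * b) ∈ (V.normalizerMonoidHom).ker := h1
    rw [normalizerMonoidHom_ker] at hk
    have h2 : ((a⁻¹ * b : H) : G) ∈ H ⊓ centralizer (V : Set G) := ⟨(a⁻¹ * b).2, hk⟩
    rw [hf, mem_bot] at h2
    exact inv_mul_eq_one.1 (Subtype.ext h2)
  · refine AddMonoidHom.ext fun z => ?_
    change ρ x (ρ x z - z) - (ρ x z - z) = 0
    rw [sub_eq_zero]
    refine Additive.toMul.injective (Subtype.ext ?_)
    change (x : G) * (((x : G) * (z.toMul : V) * (x : G)⁻¹) / ((z.toMul : V) : G)) * (x : G)⁻¹ =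
      ((x : G) * (z.toMul : V) * (x : G)⁻¹) / ((z.toMul : V) : G)
    rw [div_eq_mul_inv]
    exact conj_commutator_fixed hq z.toMul.2

/-- Two quadratic generators of a group that is not a `p`-group give a section `SL₂(p)`. -/
theorem involves_sl2_of_pair (h2 : p ≠ 2) (V H : Subgroup G) (hV : Cfsg.IsElementaryAbelian p V)
    (hHV : H ≤ normalizer (V : Set G)) (hf : H ⊓ centralizer (V : Set G) = ⊥) {a b : G}
    (hab : H = closure {a, b}) (ha : ⁅⁅V, zpowers a⁆, zpowers a⁆ = ⊥)
    (hb : ⁅⁅V, zpowers b⁆, zpowers b⁆ = ⊥) (hnp : ¬ IsPGroup p H) :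
    Cfsg.Involves (Matrix.SpecialLinearGroup (Fin 2) (ZMod p)) H := by
  have := hV.1
  obtain ⟨R, _, _, h0, ρ, hρ, hq⟩ := exists_rep V H hV.2 hHV hf
  have haH : a ∈ H := hab ▸ subset_closure (Or.inl rfl)
  have hbH : b ∈ H := hab ▸ subset_closure (Or.inr rfl)
  set x : H := ⟨a, haH⟩
  set y : H := ⟨b, hbH⟩
  have hgen : closure ({x, y} : Set H) = ⊤ := by
    refine map_injective H.subtype_injective ?_
    rw [MonoidHom.map_closure, ← MonoidHom.range_eq_map, range_subtype, Set.image_pair]
    exact hab.symm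
  have hx : ρ x = 1 + (ρ x - 1) := by rw [add_sub_cancel]
  have hy : ρ y = 1 + (ρ y - 1) := by rw [add_sub_cancel]
  have hn : ¬ IsNilpotent ((ρ x - 1) * (ρ y - 1)) := fun h =>
    hnp (isPGroup_of_pair h0 ρ hρ hgen hx hy (hq x ha) (hq y hb) h)
  obtain ⟨F, _, _, _, lam, hlam, hF, φ, hφx, hφy, -⟩ :=
    exists_hom_sl2 h0 ρ hgen hx hy (hq x ha) (hq y hb) hn
  exact involves_sl2_pair h2 hlam hF φ hφx hφy

/-- A quadratic element acting nontrivially on a normal `p'`-subgroup forces `p = 3`. -/
theorem eq_three_and_section_of_coprime (h2 : p ≠ 2) (V H : Subgroup G)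
    (hV : Cfsg.IsElementaryAbelian p V) (hHV : H ≤ normalizer (V : Set G))
    (hf : H ⊓ centralizer (V : Set G) = ⊥) {a : G} (haH : a ∈ H)
    (ha : ⁅⁅V, zpowers a⁆, zpowers a⁆ = ⊥) (Q : Subgroup G) (hQH : Q ≤ H)
    (hQn : a ∈ normalizer (Q : Set G)) (hQ : (Nat.card Q).Coprime p)
    (hQa : ⁅Q, zpowers a⁆ ≠ ⊥) :
    p = 3 ∧ ∃ L : Subgroup G, ∃ g : L →* Matrix.SpecialLinearGroup (Fin 2) (ZMod p),
      L ≤ H ∧ Function.Surjective g := by
  have := hV.1
  obtain ⟨R, _, _, h0, ρ, hρ, hq⟩ := exists_rep V H hV.2 hHV hf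
  have ha1 : a ≠ 1 := by
    rintro rfl
    exact hQa (by rw [zpowers_one_eq_bot, commutator_bot_right])
  have hap : a ^ p = 1 := by
    have e : (⟨a, haH⟩ : H) ^ p = 1 := hρ <| by
      set c := ρ ⟨a, haH⟩ - 1 with hc
      have hcc : c * c = 0 := hq ⟨a, haH⟩ ha
      have hn : ∀ n : ℕ, (1 + c) ^ n = 1 + n * c := by
        intro n
        induction n with
        | zero => simp
        | succ n ih =>
          rw [pow_succ, ih, Nat.cast_succ]
          linear_combination (norm := noncomm_ring) (n : R) * hcc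
      rw [map_pow, show ρ ⟨a, haH⟩ = 1 + c by rw [hc, add_sub_cancel], hn, h0, zero_mul, add_zero,
        map_one]
    exact congrArg Subtype.val e
  have hord : Nat.card (zpowers a) = p := by rw [Nat.card_zpowers, orderOf_eq_prime hap ha1]
  set K := Q ⊔ zpowers a with hK
  have hKH : K ≤ H := sup_le hQH (zpowers_le.2 haH)
  have haK : a ∈ K := mem_sup_right (mem_zpowers a)
  have hQK : Q ≤ K := le_sup_left
  have hKn : K ≤ normalizer (Q : Set G) := sup_le le_normalizer (zpowers_le.2 hQn)
  have hdis : Q ⊓ zpowers a = ⊥ := by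
    refine (disjoint_of_coprime_natCard ?_).eq_bot
    rw [hord]; exact hQ
  have hcardK : Nat.card K = Nat.card Q * p := by
    have : (Q.subgroupOf K).Normal := normal_subgroupOf_iff_le_normalizer hQK |>.2 hKn
    have h := Core.card_sup_mul_card_inf ((zpowers a).subgroupOf K) (Q.subgroupOf K)
    rw [← subgroupOf_sup le_sup_right hQK,
      show (zpowers a ⊔ Q).subgroupOf K = ⊤ from subgroupOf_eq_top.2 (by rw [hK, sup_comm]),
      Subgroup.card_top,
      show (zpowers a).subgroupOf K ⊓ Q.subgroupOf K = ⊥ by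
        unfold subgroupOf; rw [← comap_inf, inf_comm, hdis, MonoidHom.comap_bot, ker_subtype],
      Subgroup.card_bot, mul_one,
      Nat.card_congr (subgroupOfEquivOfLe (le_sup_right : zpowers a ≤ K)).toEquiv,
      Nat.card_congr (subgroupOfEquivOfLe hQK).toEquiv, hord, mul_comm] at h
    exact h
  set Q' := Q.subgroupOf K
  have hQ'n : Q'.Normal := normal_subgroupOf_iff_le_normalizer hQK |>.2 hKn
  have hQ'c : Nat.card Q' = Nat.card Q := Nat.card_congr (subgroupOfEquivOfLe hQK).toEquiv
  have hQ'i : Q'.index = p := by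
    have h := Q'.card_mul_index
    rw [hQ'c, hcardK] at h
    exact Nat.eq_of_mul_eq_mul_left Nat.card_pos h
  have hps : Cfsg.IsPSolvable p K := by
    refine ⟨2, ![⊥, Q', ⊤], rfl, rfl, Fin.monotone_iff_le_succ.2 fun i => ?_, fun i => ?_, fun i => ?_⟩
    · fin_cases i
      · exact (bot_le : (⊥ : Subgroup K) ≤ Q')
      · exact (le_top : Q' ≤ (⊤ : Subgroup K))
    · fin_cases i
      · exact (inferInstance : (⊥ : Subgroup K).Normal)
      · exact hQ'n
      · exact (inferInstance : (⊤ : Subgroup K).Normal)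
    · fin_cases i
      · right
        show ((⊥ : Subgroup K).relIndex Q').Coprime p
        rw [relIndex_bot_left, hQ'c]; exact hQ
      · left
        show ∃ m, Q'.relIndex (⊤ : Subgroup K) = p ^ m
        exact ⟨1, by rw [relIndex_top_right, hQ'i, pow_one]⟩
  -- the `p`-core is trivial
  have hO : Cfsg.pCore p K = ⊥ := by
    by_contra hO
    set P := Cfsg.pCore p K
    have hPp : IsPGroup p P := Core.pCore_isPGroup
    have hPQ : P ⊓ Q' = ⊥ := Layer.inf_eq_bot_of_isPGroup hPp (by rw [hQ'c]; exact hQ)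
    have hPcard : Nat.card P = p := by
      obtain ⟨k, hk⟩ := IsPGroup.iff_card.mp hPp
      have hle : Nat.card P ≤ p := by
        have h := Core.card_sup_mul_card_inf P Q'
        rw [hPQ, Subgroup.card_bot, mul_one] at h
        have h' : Nat.card (P ⊔ Q' : Subgroup K) ≤ Nat.card Q' * p := by
          rw [hQ'c, ← hcardK]
          exact Nat.le_of_dvd Nat.card_pos (card_subgroup_dvd_card _)
        rw [h, mul_comm] at h'
        exact Nat.le_of_mul_le_mul_left h' Nat.card_pos
      have hk0 : k ≠ 0 := by rintro rfl; exact hO (Subgroup.card_eq_one.mp (by rw [hk, pow_zero]))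
      exact le_antisymm hle (hk ▸ Nat.le_self_pow hk0 p)
    have hA : IsPGroup p (zpowers (⟨a, haK⟩ : K)) := IsPGroup.of_card (n := 1) (by
      rw [Nat.card_zpowers, pow_one, Subgroup.orderOf_mk, orderOf_eq_prime hap ha1])
    obtain ⟨S, hS⟩ := hA.exists_le_sylow
    have hPS : P ≤ (S : Subgroup K) := Core.pCore_le_sylow S
    have hScard : Nat.card (S : Subgroup K) ≤ p := by
      have h := Layer.inf_eq_bot_of_isPGroup S.2 (show (Nat.card Q').Coprime p by rw [hQ'c]; exact hQ)
      have h' := Core.card_sup_mul_card_inf (S : Subgroup K) Q'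
      rw [h, Subgroup.card_bot, mul_one] at h'
      have h'' : Nat.card ((S : Subgroup K) ⊔ Q' : Subgroup K) ≤ Nat.card Q' * p := by
        rw [hQ'c, ← hcardK]
        exact Nat.le_of_dvd Nat.card_pos (card_subgroup_dvd_card _)
      rw [h', mul_comm] at h''
      exact Nat.le_of_mul_le_mul_left h'' Nat.card_pos
    have haP : (⟨a, haK⟩ : K) ∈ P := by
      rw [eq_of_le_of_card_ge hPS (by rw [hPcard]; exact hScard)]
      exact hS (mem_zpowers _)
    refine hQa (commutator_eq_bot_iff_le_centralizer.2 ?_)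
    refine le_centralizer_iff.1 (zpowers_le.2 (mem_centralizer_iff.2 fun q hq' => ?_))
    have hnP : P.Normal := inferInstance
    have hc : ⁅(⟨q, hQK hq'⟩ : K), ⟨a, haK⟩⁆ ∈ P ⊓ Q' := mem_inf.2
      ⟨commutator_le_right Q' P (commutator_mem_commutator (mem_subgroupOf.2 hq') haP),
       commutator_le_left Q' P (commutator_mem_commutator (mem_subgroupOf.2 hq') haP)⟩
    rw [hPQ, mem_bot, commutatorElement_eq_one_iff_mul_comm] at hc
    exact congrArg Subtype.val hc
  have hinv := involves_sl2_of_conj h2 V K hV.2 (hKH.trans hHV)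
    (le_bot_iff.1 ((inf_le_inf_right _ hKH).trans hf.le)) hO haK ha1 ha
  obtain ⟨M, f, hfs⟩ := exists_surjective_of_involves hinv
  have h3 : p = 3 := by
    have hle := le_three_of_isPSolvable_sl2 (Layer.isPSolvable_of_surjective
      (isPSolvable_subgroup hps M) hfs)
    have := hp.out.two_le
    omega
  obtain ⟨L, g, hLK, hg⟩ := exists_le_of_sec hinv (G := G) (K := K) (f := MonoidHom.id K)
    Function.surjective_id
  exact ⟨h3, L, g, hLK.trans hKH, hg⟩

end Cfsg.Agent.QdFree
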