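import Cfsg.Agent.QdFree.Section
import Mathlib.FieldTheory.IsAlgClosed.AlgebraicClosure
import Mathlib.FieldTheory.Finite.Basic
import Mathlib.Algebra.Algebra.ZMod
import Mathlib.GroupTheory.PGroup

/-!
# Embedding the field of a quadratic pair
-/

set_option autoImplicit false

namespace Cfsg.Agent.QdFree

open Matrix Polynomial
open Cfsg.Agent.RootSub.Dickson

universe u v

variable {p : ℕ} [hp : Fact p.Prime]

/-- If the `p'`-part of the order of `[[1,0],[λ,1]] [[1,1],[0,1]]` divides `|K| - 1`, the field
generated by `λ` embeds in `K`. -/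
theorem exists_ringHom_of_order {F : Type u} [Field F] [Finite F] [CharP F p] {K : Type v} [Field K]
    [Fintype K] [CharP K p] {lam : F} (hgen : Subring.closure ({lam} : Set F) = ⊤) {e k : ℕ}
    (hk : k ∣ Fintype.card K - 1)
    (hM : (lowR lam * upR 1 : SpecialLinearGroup (Fin 2) F) ^ (p ^ e * k) = 1) :
    Nonempty (F →+* K) := by
  classical
  let E := AlgebraicClosure F
  let ι : F →+* E := algebraMap F E
  have : CharP E p := charP_of_injective_algebraMap (algebraMap F E).injective p
  let : Algebra (ZMod p) E := ZMod.algebra E p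
  let : Algebra (ZMod p) K := ZMod.algebra K p
  let σ : K →ₐ[ZMod p] E := IsAlgClosed.lift
  have hq : 1 < Fintype.card K := Fintype.one_lt_card
  obtain ⟨z, hz⟩ : ∃ z : E, z ^ 2 - (2 + ι lam) * z + 1 = 0 := by
    obtain ⟨z, hz⟩ := IsAlgClosed.exists_root
      (Polynomial.C (1 : E) * X ^ 2 + Polynomial.C (-(2 + ι lam)) * X + Polynomial.C 1) (by
      rw [degree_quadratic one_ne_zero]; decide)
    refine ⟨z, ?_⟩
    simp only [IsRoot.def, eval_add, eval_mul, eval_C, eval_pow, eval_X] at hz
    linear_combination hz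
  set M : SpecialLinearGroup (Fin 2) F := lowR lam * upR 1 with hMdef
  set M' : SpecialLinearGroup (Fin 2) E := SpecialLinearGroup.map ι M with hM'def
  have hM' : M' = lowR (ι lam) * upR 1 := by
    rw [hM'def, hMdef, map_mul, map_lowR, map_upR, map_one]
  have hv : ∀ n : ℕ, (M' ^ n).1 *ᵥ ![1, z - 1] = z ^ n • ![1, z - 1] := by
    intro n
    induction n with
    | zero => simp
    | succ n ih =>
      have h1 : M'.1 *ᵥ ![1, z - 1] = z • ![1, z - 1] := by
        rw [hM', Matrix.SpecialLinearGroup.coe_mul]
        funext i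
        fin_cases i <;>
          simp [coe_lowR, coe_upR, Matrix.mulVec, dotProduct, Fin.sum_univ_two, Matrix.mul_apply]
        linear_combination -hz
      rw [pow_succ, Matrix.SpecialLinearGroup.coe_mul, ← Matrix.mulVec_mulVec, h1,
        Matrix.mulVec_smul, ih, smul_smul, ← pow_succ']
  have hzn : z ^ (p ^ e * k) = 1 := by
    have h := congrFun (hv (p ^ e * k)) 0
    rw [hM'def, ← map_pow, hM, map_one, Matrix.SpecialLinearGroup.coe_one, Matrix.one_mulVec] at h
    simpa using h.symm
  have hzk : z ^ k = 1 := by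
    have h : (z ^ k - 1) ^ (p ^ e) = 0 := by
      rw [sub_pow_char_pow, one_pow, ← pow_mul, mul_comm k, hzn, sub_self]
    exact sub_eq_zero.1 (eq_zero_of_pow_eq_zero h)
  have hzq : z ^ Fintype.card K = z := by
    obtain ⟨c, hc⟩ := hk
    rw [show Fintype.card K = k * c + 1 by omega, pow_succ, pow_mul, hzk, one_pow, one_mul]
  obtain ⟨w, hw⟩ : ∃ w : K, σ w = z := by
    by_contra hno
    push Not at hno
    set P : E[X] := X ^ Fintype.card K - X with hP
    have hP0 : P ≠ 0 := FiniteField.X_pow_card_sub_X_ne_zero E hq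
    have hdeg : P.natDegree = Fintype.card K := FiniteField.X_pow_card_sub_X_natDegree_eq E hq
    have hsub : insert z (Finset.univ.image σ) ⊆ P.roots.toFinset := by
      intro y hy
      rw [Multiset.mem_toFinset, mem_roots hP0, IsRoot.def, hP, eval_sub, eval_pow, eval_X]
      rcases Finset.mem_insert.1 hy with rfl | hy
      · rw [hzq, sub_self]
      · obtain ⟨w, -, rfl⟩ := Finset.mem_image.1 hy
        rw [← map_pow, FiniteField.pow_card, sub_self]
    have h1 := (Finset.card_le_card hsub).trans ((Multiset.toFinset_card_le _).trans (card_roots' P))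
    rw [Finset.card_insert_of_notMem (fun h => by
      obtain ⟨w, -, hw⟩ := Finset.mem_image.1 h; exact hno w hw),
      Finset.card_image_of_injective _ (show Function.Injective σ from σ.toRingHom.injective), Finset.card_univ, hdeg] at h1
    omega
  let r : K →+* E := (σ : K →+* E)
  have hlam : ι lam ∈ r.range := by
    refine ⟨w + w⁻¹ - 2, ?_⟩
    have hz0 : z ≠ 0 := by rintro rfl; simp at hz
    show (σ : K →+* E) (w + w⁻¹ - 2) = _
    rw [map_sub, map_add, map_inv₀, map_ofNat, RingHom.coe_coe, hw]
    have hzi : z * z⁻¹ = 1 := mul_inv_cancel₀ hz0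
    linear_combination z⁻¹ * hz - (z - 2 - ι lam) * hzi
  have hall : ∀ x : F, ι x ∈ r.range := fun x => by
    have hx : x ∈ Subring.closure ({lam} : Set F) := hgen ▸ Subring.mem_top x
    exact (Subring.closure_le (t := r.range.comap ι)).2 (Set.singleton_subset_iff.2 hlam) hx
  let er : K ≃+* r.range := RingEquiv.ofBijective r.rangeRestrict
    ⟨fun a b h => r.injective (congrArg Subtype.val h), r.rangeRestrict_surjective⟩
  exact ⟨(er.symm : r.range →+* K).comp (ι.codRestrict r.range hall)⟩

/-- A group containing opposite transvections is not a `p`-group. -/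
theorem not_isPGroup_of_transvections {K : Type u} [Field K] [Finite K] [CharP K p]
    {P : Subgroup (SpecialLinearGroup (Fin 2) K)} {lam : K} (hlam : lam ≠ 0) (hl : lowR lam ∈ P)
    (hu : upR 1 ∈ P) : ¬ IsPGroup p P := by
  intro hP
  let : MulAction P (Fin 2 → K) :=
    { smul := fun g v => g.1.1 *ᵥ v
      one_smul := fun v => Matrix.one_mulVec v
      mul_smul := fun g h v => by
        show (g * h).1.1 *ᵥ v = g.1.1 *ᵥ (h.1.1 *ᵥ v)
        rw [Matrix.mulVec_mulVec]; rfl }
  have hfix : MulAction.fixedPoints P (Fin 2 → K) = {0} := by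
    ext v
    constructor
    · intro hv
      have h1 : (upR 1 : SpecialLinearGroup (Fin 2) K).1 *ᵥ v = v := hv ⟨_, hu⟩
      have h2 : (lowR lam : SpecialLinearGroup (Fin 2) K).1 *ᵥ v = v := hv ⟨_, hl⟩
      have h1' := congrFun h1 0
      have h2' := congrFun h2 1
      simp [coe_upR, coe_lowR, Matrix.mulVec, dotProduct, Fin.sum_univ_two] at h1' h2'
      rw [Set.mem_singleton_iff]
      funext i
      fin_cases i
      · exact h2'.resolve_left hlam
      · exact h1'
    · rintro rfl g
      exact Matrix.mulVec_zero _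
  have h := hP.card_modEq_card_fixedPoints (Fin 2 → K)
  rw [hfix, Nat.card_coe_set_eq, Set.ncard_singleton] at h
  have hdvd : p ∣ Nat.card (Fin 2 → K) := by
    have : Fintype K := Fintype.ofFinite K
    obtain ⟨n, -, hn⟩ := FiniteField.card K p
    rw [Nat.card_fun, Nat.card_eq_fintype_card, Nat.card_eq_fintype_card, hn, ← pow_mul]
    refine dvd_pow_self p (Nat.mul_ne_zero n.ne_zero ?_)
    simp
  have h01 : 0 % p = 1 % p := ((Nat.modEq_zero_iff_dvd.2 hdvd).symm.trans h)
  rw [Nat.zero_mod, Nat.one_mod_eq_one.2 hp.out.ne_one] at h01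
  exact zero_ne_one h01

end Cfsg.Agent.QdFree
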