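import Cfsg.Agent.QdFree.NotStable

/-!
# An involution commuting with a quadratic element

In a group generated by two elements `1 + a`, `1 + b` with `a² = b² = 0` every `y + y⁻¹` is central,
so every involution of the group commutes with both generators.
-/

set_option maxHeartbeats 800000

namespace Cfsg.Agent.QdFree

open Subgroup
open scoped commutatorElement
open Cfsg.Agent.KInf

universe u

section Ring

variable {R : Type*} [Ring R]

/-- The elements of `R` commuting with `a` and `b`. -/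
private def cen (a b : R) : Subring R := Subring.centralizer {a, b}

private theorem mem_cen {a b c : R} : c ∈ cen a b ↔ a * c = c * a ∧ b * c = c * b := by
  simp [cen, Subring.mem_centralizer_iff]

/-- For every word `y` in `1 + a` and `1 + b`, with inverse word `z`, the sum `y + z` commutes with `a`. -/
theorem sum_inv_mem_cen {Y : Type*} [Group Y] [Finite Y] (f : Y →* R) {u v : Y}
    (hgen : Subgroup.closure {u, v} = (⊤ : Subgroup Y)) (ha : (f u - 1) * (f u - 1) = 0)
    (hb : (f v - 1) * (f v - 1) = 0) (y : Y) : Commute (f y + f y⁻¹) (f u - 1) := by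
  set a := f u - 1 with hadef
  set b := f v - 1 with hbdef
  have hfu : f u = 1 + a := by rw [hadef]; abel
  have hfv : f v = 1 + b := by rw [hbdef]; abel
  have hfu' : f u⁻¹ = 1 - a := by
    calc f u⁻¹ = f u⁻¹ * ((1 + a) * (1 - a)) := by
          rw [show (1 + a) * (1 - a) = 1 - a * a by noncomm_ring, ha, sub_zero, mul_one]
      _ = _ := by rw [← mul_assoc, ← hfu, ← map_mul, inv_mul_cancel, map_one, one_mul]
  have hfv' : f v⁻¹ = 1 - b := by
    calc f v⁻¹ = f v⁻¹ * ((1 + b) * (1 - b)) := by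
          rw [show (1 + b) * (1 - b) = 1 - b * b by noncomm_ring, hb, sub_zero, mul_one]
      _ = _ := by rw [← mul_assoc, ← hfv, ← map_mul, inv_mul_cancel, map_one, one_mul]
  set c := a * b + b * a with hc
  have hca : a * c = c * a := by
    rw [hc, mul_add, add_mul, ← mul_assoc, ha, mul_assoc b a a, ha]
    simp [mul_assoc]
  have hcb : b * c = c * b := by
    rw [hc, mul_add, add_mul, mul_assoc a b b, hb, ← mul_assoc b b a, hb]
    simp [mul_assoc]
  have hcy : ∀ w : Y, c * f w = f w * c := by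
    intro w
    have hw : w ∈ Subgroup.closure {u, v} := hgen ▸ mem_top w
    rw [← Subgroup.mem_toSubmonoid, Subgroup.closure_toSubmonoid_of_finite] at hw
    induction hw using Submonoid.closure_induction with
    | mem x hx =>
      rcases hx with rfl | rfl
      · rw [hfu, mul_add c, add_mul 1 a c, one_mul, mul_one, hca]
      · rw [hfv, mul_add c, add_mul 1 b c, one_mul, mul_one, hcb]
    | one => simp
    | mul x z _ _ hx hz => rw [map_mul, ← mul_assoc, hx, mul_assoc, hz, ← mul_assoc]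
  suffices h : f y + f y⁻¹ ∈ cen a b ∧ f y * a - a * f y⁻¹ ∈ cen a b ∧
      f y * b - b * f y⁻¹ ∈ cen a b ∧ f y * (a * b) + b * a * f y⁻¹ ∈ cen a b from
    (mem_cen.mp h.1).1.symm
  have hy : y ∈ Subgroup.closure {u, v} := hgen ▸ mem_top y
  rw [← Subgroup.mem_toSubmonoid, Subgroup.closure_toSubmonoid_of_finite] at hy
  have hcc : c ∈ cen a b := mem_cen.mpr ⟨hca, hcb⟩
  induction hy using Submonoid.closure_induction_right with
  | one =>
    simp only [map_one, inv_one, one_mul, mul_one, sub_self]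
    exact ⟨add_mem (one_mem _) (one_mem _), zero_mem _, zero_mem _, hcc⟩
  | mul_right x hx z hz ih =>
    obtain ⟨hP, hQ, hR, hS⟩ := ih
    rw [mul_inv_rev, map_mul, map_mul]
    rcases hz with rfl | rfl
    · rw [hfu, hfu']
      have e1 : f x * (1 + a) + (1 - a) * f x⁻¹ = (f x + f x⁻¹) + (f x * a - a * f x⁻¹) := by
        noncomm_ring
      have e2 : f x * (1 + a) * a - a * ((1 - a) * f x⁻¹) = f x * a - a * f x⁻¹ := by
        rw [show f x * (1 + a) * a - a * ((1 - a) * f x⁻¹) =
          f x * a - a * f x⁻¹ + (f x * (a * a) + a * a * f x⁻¹) by noncomm_ring, ha]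
        simp
      have e3 : f x * (1 + a) * b - b * ((1 - a) * f x⁻¹) =
          (f x * b - b * f x⁻¹) + (f x * (a * b) + b * a * f x⁻¹) := by noncomm_ring
      have e4 : f x * (1 + a) * (a * b) + b * a * ((1 - a) * f x⁻¹) =
          f x * (a * b) + b * a * f x⁻¹ := by
        rw [show f x * (1 + a) * (a * b) + b * a * ((1 - a) * f x⁻¹) =
          f x * (a * b) + b * a * f x⁻¹ + (f x * (a * a) * b - b * (a * a) * f x⁻¹) by noncomm_ring, ha]
        simp
      rw [e1, e2, e3, e4]
      exact ⟨add_mem hP hQ, hQ, add_mem hR hS, hS⟩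
    · rw [hfv, hfv']
      have hT : f x * (b * a) + a * b * f x⁻¹ ∈ cen a b := by
        rw [show f x * (b * a) + a * b * f x⁻¹ =
          (f x * c + c * f x⁻¹) - (f x * (a * b) + b * a * f x⁻¹) by rw [hc]; noncomm_ring,
          ← hcy, ← mul_add]
        exact sub_mem (mul_mem hcc hP) hS
      have e1 : f x * (1 + b) + (1 - b) * f x⁻¹ = (f x + f x⁻¹) + (f x * b - b * f x⁻¹) := by
        noncomm_ring
      have e2 : f x * (1 + b) * a - a * ((1 - b) * f x⁻¹) =
          (f x * a - a * f x⁻¹) + (f x * (b * a) + a * b * f x⁻¹) := by noncomm_ring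
      have e3 : f x * (1 + b) * b - b * ((1 - b) * f x⁻¹) = f x * b - b * f x⁻¹ := by
        rw [show f x * (1 + b) * b - b * ((1 - b) * f x⁻¹) =
          f x * b - b * f x⁻¹ + (f x * (b * b) + b * b * f x⁻¹) by noncomm_ring, hb]
        simp
      have e4 : f x * (1 + b) * (a * b) + b * a * ((1 - b) * f x⁻¹) =
          f x * (a * b) + b * a * f x⁻¹ + c * (f x * b - b * f x⁻¹) := by
        rw [show f x * (1 + b) * (a * b) + b * a * ((1 - b) * f x⁻¹) =
          f x * (a * b) + b * a * f x⁻¹ + (f x * c * b - b * c * f x⁻¹) -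
            (f x * a * (b * b) - b * b * a * f x⁻¹) by rw [hc]; noncomm_ring, hb, ← hcy, hcb]
        simp [mul_assoc, mul_sub]
      rw [e1, e2, e3, e4]
      exact ⟨add_mem hP hR, add_mem hQ hT, hR, add_mem hS (mul_mem hcc hR)⟩

/-- An involution in a group generated by two quadratic elements commutes with the first. -/
theorem commute_of_sq_eq_one {Y : Type*} [Group Y] [Finite Y] (f : Y →* R) {u v z : Y}
    (hgen : Subgroup.closure {u, v} = (⊤ : Subgroup Y)) (ha : (f u - 1) * (f u - 1) = 0)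
    (hb : (f v - 1) * (f v - 1) = 0) (hz : f z * f z = 1) {m : ℕ} (hm : ((2 * m : ℕ) : R) = 1) :
    Commute (f z) (f u) := by
  have hinv : f z⁻¹ = f z := by
    calc f z⁻¹ = f z⁻¹ * (f z * f z) := by rw [hz, mul_one]
      _ = f z := by rw [← mul_assoc, ← map_mul, inv_mul_cancel, map_one, one_mul]
  have h := sum_inv_mem_cen f hgen ha hb z
  rw [hinv, ← two_mul] at h
  have h1 : Commute (f z) (f u - 1) := by
    have e : f z = (m : R) * (2 * f z) := by
      rw [← mul_assoc, (Nat.cast_commute m (2 : R)).eq, ← Nat.cast_two, ← Nat.cast_mul, hm, one_mul]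
    rw [e]
    exact (Nat.cast_commute m _).mul_left h
  simpa using h1.add_right (Commute.one_right (f z))

end Ring

variable {p : ℕ} [hp : Fact p.Prime] {X : Type u} [Group X] [Finite X]

/-- Two elements acting on independent `v`, `w` by opposite transvections generate an element
inverting both. -/
theorem exists_neg_of_pair {Z : Type*} [Group Z] (ι : Multiplicative (Fin 2 → ZMod p) →* Z)
    (hι : Function.Injective ι) {n : ZMod p} (hn : n ≠ 0) {x y : Z}
    (hx : ∀ u, x * ι u * x⁻¹ = ι (vecAct (RootSub.Dickson.upR n) u))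
    (hy : ∀ u, y * ι u * y⁻¹ = ι (vecAct (RootSub.Dickson.lowR 1) u)) :
    ∃ m ∈ Subgroup.closure {x, y}, ∀ u, m * ι u * m⁻¹ = (ι u)⁻¹ := by
  let M : Subgroup Z :=
    { carrier := {m | ∃ N : Matrix.SpecialLinearGroup (Fin 2) (ZMod p),
        ∀ u, m * ι u * m⁻¹ = ι (vecAct N u)}
      one_mem' := ⟨1, fun u => by rw [map_one vecAct, MulAut.one_apply, one_mul, inv_one, mul_one]⟩
      mul_mem' := fun {a b} ⟨N, hN⟩ ⟨N', hN'⟩ => ⟨N * N', fun u => by
        rw [map_mul vecAct, MulAut.mul_apply, ← hN, ← hN']; group⟩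
      inv_mem' := fun {a} ⟨N, hN⟩ => ⟨N⁻¹, fun u => by
        have h := hN (vecAct N⁻¹ u)
        rw [← MulAut.mul_apply, ← map_mul, mul_inv_cancel, map_one, MulAut.one_apply] at h
        rw [← h]; group⟩ }
  have hKM : Subgroup.closure {x, y} ≤ M := by
    rw [closure_le]
    rintro z (rfl | rfl)
    · exact ⟨_, hx⟩
    · exact ⟨_, hy⟩
  have huniq : ∀ N N' : Matrix.SpecialLinearGroup (Fin 2) (ZMod p),
      (∀ u, ι (vecAct N u) = ι (vecAct N' u)) → N = N' := by
    intro N N' h
    apply Subtype.ext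
    ext i j
    have h' := congrArg Multiplicative.toAdd (hι (h (Multiplicative.ofAdd (Pi.single j 1))))
    rw [vecAct_apply, vecAct_apply, toAdd_ofAdd, Matrix.mulVec_single_one, Matrix.mulVec_single_one] at h'
    exact congrFun h' i
  choose A hA using fun m : Subgroup.closure {x, y} => hKM m.2
  let A' : ↥(Subgroup.closure {x, y}) →* Matrix.SpecialLinearGroup (Fin 2) (ZMod p) :=
    MonoidHom.mk' A fun a b => huniq _ _ fun u => by
      rw [map_mul vecAct, MulAut.mul_apply, ← hA, ← hA, ← hA, Subgroup.coe_mul]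
      group
  have hu : RootSub.Dickson.upR n ∈ A'.range :=
    ⟨⟨x, subset_closure (Or.inl rfl)⟩, huniq _ _ fun u => (hA ⟨x, _⟩ u).symm.trans (hx u)⟩
  have hl : RootSub.Dickson.lowR 1 ∈ A'.range :=
    ⟨⟨y, subset_closure (Or.inr rfl)⟩, huniq _ _ fun u => (hA ⟨y, _⟩ u).symm.trans (hy u)⟩
  have htop : A'.range = ⊤ := by
    refine RootSub.Dickson.eq_top_of_trans (fun r => ?_) (fun r => ?_)
    · have key : ∀ k : ℕ, RootSub.Dickson.upR ((k : ZMod p) * n) ∈ A'.range := by
        intro k
        induction k with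
        | zero => simp [RootSub.Dickson.upR_zero]
        | succ k ih =>
          rw [Nat.cast_succ, add_mul, one_mul, RootSub.Dickson.upR_add]
          exact mul_mem ih hu
      have := key (r * n⁻¹).val
      rwa [ZMod.natCast_zmod_val, inv_mul_cancel_right₀ hn] at this
    · have key : ∀ k : ℕ, RootSub.Dickson.lowR (k : ZMod p) ∈ A'.range := by
        intro k
        induction k with
        | zero => simp [RootSub.Dickson.lowR_zero]
        | succ k ih =>
          rw [Nat.cast_succ, RootSub.Dickson.lowR_add]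
          exact mul_mem ih hl
      have := key r.val
      rwa [ZMod.natCast_zmod_val] at this
  obtain ⟨m, hm⟩ : (⟨-1, by simp [Matrix.det_fin_two]⟩ :
      Matrix.SpecialLinearGroup (Fin 2) (ZMod p)) ∈ A'.range := htop ▸ mem_top _
  refine ⟨m, m.2, fun u => ?_⟩
  rw [hA m u, show A m = _ from hm, ← map_inv ι]
  congr 1
  refine Multiplicative.toAdd.injective ?_
  exact (Matrix.neg_mulVec u.toAdd (1 : Matrix (Fin 2) (Fin 2) (ZMod p))).trans
    (congrArg Neg.neg (Matrix.one_mulVec u.toAdd))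

open scoped IsMulCommutative in
/-- A quadratic element acting nontrivially on a `p`-chief factor commutes, modulo the kernel of that
factor, with a `2`-element acting nontrivially on it. -/
theorem exists_two_element_of_chief (h2 : p ≠ 2) {U V : Subgroup X} (hch : Cfsg.IsChiefFactor U V)
    (hU : IsPGroup p U) {g : X} (hit : Cfsg.iterCommutator U (zpowers g) 2 ≤ V)
    (hnt : ¬ TrivOn g U V) :
    ∃ M : Subgroup X, M.Normal ∧ (∀ x, x ∈ M ↔ TrivOn x U V) ∧ U ≤ M ∧ g ∉ M ∧
      (∀ D : Subgroup X, D.Normal → (∀ d ∈ D, ∃ k : ℕ, d ^ p ^ k ∈ M) → D ≤ M) ∧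
      ∃ t : X, (∃ k : ℕ, t ^ 2 ^ k = 1) ∧ ⁅t, g⁆ ∈ M ∧ ∃ w ∈ U, ⁅t, w⁆ ≠ 1 := by
  classical
  obtain ⟨-, -, hVn, -⟩ := id hch
  obtain ⟨ι, n, G, hι, hn, hrange, hx, hy⟩ := exists_pair_of_chief h2 hch hU hit hnt
  set π := QuotientGroup.mk' V
  have hπs : Function.Surjective π := QuotientGroup.mk'_surjective V
  have hmin := Control.isMinNormal_image hch
  have hUn := hmin.normal
  obtain ⟨hcomm, hexp⟩ := Control.image_facts hch hU
  set W := U.map π
  set C₀ := (MulAut.conjNormal (H := W)).ker with hC₀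
  have hC : ∀ y : X ⧸ V, y ∈ C₀ ↔ y ∈ centralizer (W : Set (X ⧸ V)) := by
    intro y
    rw [hC₀, MonoidHom.mem_ker, MulEquiv.ext_iff, mem_centralizer_iff]
    simp only [MulAut.one_apply, Subtype.forall, Subtype.ext_iff, MulAut.conjNormal_apply,
      mul_inv_eq_iff_eq_mul, SetLike.mem_coe]
    exact ⟨fun h u hu => (h u hu).symm, fun h u hu => (h u hu).symm⟩
  let ψ : X →* MulAut W := (MulAut.conjNormal (H := W)).comp π
  set M := ψ.ker with hMdef
  have hMn : M.Normal := ψ.normal_ker
  have hMmem : ∀ x, x ∈ M ↔ π x ∈ centralizer (W : Set (X ⧸ V)) := fun x => hC (π x)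
  let E := AddMonoid.End (Additive W)
  have h0 : ((p : ℕ) : E) = 0 := AddMonoidHom.ext fun z => by
    change p • z = 0
    exact Additive.toMul.injective (Subtype.ext (by simpa using hexp _ z.toMul.2))
  let f : X →* E :=
    { toFun := fun h => MonoidHom.toAdditive (ψ h).toMonoidHom
      map_one' := by rw [map_one]; rfl
      map_mul' := fun a b => by rw [map_mul]; rfl }
  have hfM : ∀ {a b : X}, f a = f b → ψ a = ψ b := fun hab => MulEquiv.ext fun w =>
    congrArg Additive.toMul (DFunLike.congr_fun hab (Additive.ofMul w))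
  have hact : ∀ (y : X) (z : Additive W),
      (((f y z).toMul : W) : X ⧸ V) = π y * (z.toMul : X ⧸ V) * (π y)⁻¹ := fun y z =>
    MulAut.conjNormal_apply (π y) z.toMul
  have hit' : ⁅⁅W, zpowers (π g)⁆, zpowers (π g)⁆ = ⊥ := by
    rw [← MonoidHom.map_zpowers, ← map_commutator, ← map_commutator, Subgroup.map_eq_bot_iff,
      QuotientGroup.ker_mk']
    exact hit
  have hsq : (f g - 1) * (f g - 1) = 0 := by
    refine AddMonoidHom.ext fun z => ?_
    change f g (f g z - z) - (f g z - z) = 0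
    rw [sub_eq_zero]
    refine Additive.toMul.injective (Subtype.ext ?_)
    rw [hact, toMul_sub, div_eq_mul_inv, Subgroup.coe_mul, InvMemClass.coe_inv, hact]
    exact conj_commutator_fixed hit' z.toMul.2
  set g' := G * g * G⁻¹ with hg'
  have hsq' : (f g' - 1) * (f g' - 1) = 0 := by
    have hc : f g' - 1 = f G * (f g - 1) * f G⁻¹ := by
      rw [hg', map_mul, map_mul, mul_sub, sub_mul, mul_one, ← map_mul f G G⁻¹, mul_inv_cancel, map_one]
    rw [hc, show f G * (f g - 1) * f G⁻¹ * (f G * (f g - 1) * f G⁻¹) =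
      f G * (f g - 1) * (f G⁻¹ * f G) * (f g - 1) * f G⁻¹ by simp [mul_assoc], ← map_mul f G⁻¹ G,
      inv_mul_cancel, map_one, mul_one, mul_assoc (f G) _ _, hsq, mul_zero, zero_mul]
  set Y := Subgroup.closure {g, g'} with hY
  obtain ⟨m, hm, hmu⟩ := exists_neg_of_pair ι hι hn hx hy
  obtain ⟨m₀, hm₀, rfl⟩ : m ∈ Y.map π := by
    rw [hY, MonoidHom.map_closure, Set.image_pair]
    exact hm
  -- a `2`-element acting on the plane by `-1`
  obtain ⟨e, r, hr, he⟩ := Nat.exists_eq_pow_mul_and_not_dvd (orderOf_pos m₀).ne' 2 (by decide)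
  obtain ⟨r, rfl⟩ : ∃ s, r = 2 * s + 1 := ⟨r / 2, by omega⟩
  set t₀ := m₀ ^ (2 * r + 1)
  have ht₀ : t₀ ^ 2 ^ e = 1 := by rw [← pow_mul, mul_comm, ← he, pow_orderOf_eq_one]
  have hpow : ∀ (k : ℕ) (u), π m₀ ^ (2 * k + 1) * ι u * (π m₀ ^ (2 * k + 1))⁻¹ = (ι u)⁻¹ := by
    intro k
    induction k with
    | zero => intro u; rw [mul_zero, zero_add, pow_one]; exact hmu u
    | succ k ih =>
      intro u
      rw [show 2 * (k + 1) + 1 = 2 + (2 * k + 1) by ring, pow_add]
      calc _ = π m₀ ^ 2 * (π m₀ ^ (2 * k + 1) * ι u * (π m₀ ^ (2 * k + 1))⁻¹) * (π m₀ ^ 2)⁻¹ := by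
            group
        _ = π m₀ * (π m₀ * ι u⁻¹ * (π m₀)⁻¹) * (π m₀)⁻¹ := by rw [ih, ← map_inv, pow_two]; group
        _ = _ := by rw [hmu, map_inv, inv_inv, hmu]
  have hodd : Odd p := hp.out.odd_of_ne_two h2
  have ht₀M : t₀ ∉ M := by
    intro hmem
    let u₀ : Multiplicative (Fin 2 → ZMod p) := Multiplicative.ofAdd (Pi.single 0 1)
    have h1 := mem_centralizer_iff.mp ((hMmem t₀).mp hmem) (ι u₀) (hrange ⟨u₀, rfl⟩)
    have h3 := hpow r u₀
    rw [← map_pow, ← h1, mul_inv_cancel_right, eq_inv_iff_mul_eq_one, ← map_mul] at h3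
    have h4 : (Pi.single 0 1 : Fin 2 → ZMod p) + Pi.single 0 1 = 0 :=
      congrArg Multiplicative.toAdd ((map_eq_one_iff ι hι).mp h3)
    have h5 : ((2 : ℕ) : ZMod p) = 0 := by
      have := congrFun h4 0
      simp only [Pi.add_apply, Pi.single_eq_same, Pi.zero_apply] at this
      exact_mod_cast (one_add_one_eq_two (R := ZMod p)) ▸ this
    exact h2 (((Nat.prime_dvd_prime_iff_eq hp.out Nat.prime_two).mp
      ((ZMod.natCast_eq_zero_iff _ _).mp h5)))
  -- its last power acting nontrivially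
  have hex : ∃ j, t₀ ^ 2 ^ j ∈ M := ⟨e, by rw [ht₀]; exact one_mem M⟩
  obtain ⟨j, hj⟩ : ∃ j, Nat.find hex = j + 1 :=
    Nat.exists_eq_succ_of_ne_zero fun h => ht₀M (by simpa [h] using Nat.find_spec hex)
  set t := t₀ ^ 2 ^ j
  have htM : t ∉ M := Nat.find_min hex (by omega)
  have ht2 : t * t ∈ M := by
    rw [← pow_two, ← pow_mul, ← pow_succ, ← hj]; exact Nat.find_spec hex
  have htY : t ∈ Y := pow_mem (pow_mem hm₀ _) _
  have hct : Commute (f t) (f g) := by
    refine commute_of_sq_eq_one (f.comp Y.subtype) (u := ⟨g, subset_closure (Or.inl rfl)⟩)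
      (v := ⟨g', subset_closure (Or.inr rfl)⟩) (z := ⟨t, htY⟩) ?_ hsq hsq' ?_ (m := (p + 1) / 2) ?_
    · refine map_injective Y.subtype_injective ?_
      rw [MonoidHom.map_closure, Set.image_pair, ← MonoidHom.range_eq_map, range_subtype]
      rfl
    · show f t * f t = 1
      rw [← map_mul]
      refine AddMonoidHom.ext fun z => ?_
      change Additive.ofMul (ψ (t * t) z.toMul) = z
      rw [MonoidHom.mem_ker.mp ht2]; rfl
    · rw [show 2 * ((p + 1) / 2) = p + 1 by obtain ⟨k, rfl⟩ := hodd; omega, Nat.cast_add, h0,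
        zero_add, Nat.cast_one]
  refine ⟨M, hMn, fun x => (hMmem x).trans trivOn_iff.symm, fun x hx' => (hMmem x).mpr (mem_centralizer_iff.mpr fun y hy =>
      (congrArg Subtype.val (hcomm.is_comm.comm ⟨y, hy⟩ ⟨π x, mem_map_of_mem π hx'⟩))), fun hgM => hnt ?_, fun D hD hDM => ?_,
    t, ⟨e, ?_⟩, ?_, ?_⟩
  · rw [trivOn_iff]; exact (hMmem g).mp hgM
  · have hle := le_centralizer_of_pPower (D := D.map π) (hU.map π) hmin ?_
    · exact fun d hd => (hMmem d).mpr (hle (mem_map_of_mem π hd))
    · rintro _ ⟨d, hd, rfl⟩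
      obtain ⟨k, hk⟩ := hDM d hd
      exact ⟨k, by rw [← map_pow]; exact (hMmem _).mp hk⟩
  · rw [← pow_mul, mul_comm, pow_mul, ht₀, one_pow]
  · rw [hMdef, MonoidHom.mem_ker, commutatorElement_def, map_mul, map_mul, map_mul, map_inv, map_inv,
      show ψ t * ψ g = ψ g * ψ t by rw [← map_mul, ← map_mul]; exact hfM (by rw [map_mul, map_mul]; exact hct.eq)]
    group
  · by_contra hall
    push Not at hall
    refine htM ((hMmem t).mpr (mem_centralizer_iff.mpr ?_))
    rintro _ ⟨w, hw, rfl⟩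
    rw [← map_mul, ← map_mul, commutatorElement_eq_one_iff_mul_comm.mp (hall w hw)]

end Cfsg.Agent.QdFree
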