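import Cfsg.Agent.RootSub.Dickson.Main
import Cfsg.Agent.KInf.Independence
import Mathlib.RingTheory.LittleWedderburn

/-!
# Two quadratic units generating a group that is not a `p`-group map to SL₂ of a finite field
-/

namespace Cfsg.Agent.QdFree

open Matrix
open Cfsg.Agent.RootSub.Dickson

universe u

variable {R : Type u} [Ring R] [Finite R] {p : ℕ}

theorem isNilpotent_of_forall_prime {C : Type*} [CommRing C] {c : C}
    (h : ∀ P : Ideal C, P.IsPrime → c ∈ P) : IsNilpotent c :=
  nilpotent_iff_mem_prime.mpr h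

/-- If `a² = b² = 0` and `a b` is not nilpotent, the group generated by units acting as `1 + a`,
`1 + b` maps onto the group generated by `[[1,0],[λ,1]]`, `[[1,1],[0,1]]` over a finite field. -/
theorem exists_hom_sl2 [hp : Fact p.Prime] (h0 : (p : R) = 0) {K : Type*} [Group K] (ρ : K →* R)
    {x y : K} (hgen : Subgroup.closure ({x, y} : Set K) = ⊤) {a b : R}
    (hx : ρ x = 1 + a) (hy : ρ y = 1 + b) (ha : a * a = 0) (hb : b * b = 0)
    (hab : ¬ IsNilpotent (a * b)) :
    ∃ (F : Type u) (_ : Field F) (_ : Finite F) (_ : CharP F p) (lam : F), lam ≠ 0 ∧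
      Subring.closure ({lam} : Set F) = ⊤ ∧
        ∃ φ : K →* SpecialLinearGroup (Fin 2) F, φ x = lowR lam ∧ φ y = upR 1 ∧
          ∀ (k l : K) (n : ℕ),
            ((((φ k : SpecialLinearGroup (Fin 2) F) : Matrix (Fin 2) (Fin 2) F) - 1) *
              (((φ l : SpecialLinearGroup (Fin 2) F) : Matrix (Fin 2) (Fin 2) F) - 1) - n).det = 0 →
            ¬ IsUnit ((ρ k - 1) * (ρ l - 1) - n) := by
  set t := a * b with ht
  set C := Subring.closure ({t} : Set R) with hC
  have htC : t ∈ C := Subring.subset_closure rfl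
  have hcomm : ∀ u ∈ ({t} : Set R), ∀ w ∈ ({t} : Set R), u * w = w * u := by
    rintro u rfl w rfl; rfl
  have := Subring.isMulCommutative_closure hcomm
  let : CommRing C := { (inferInstance : Ring C) with
    mul_comm := fun u w => IsMulCommutative.is_comm.comm u w }
  obtain ⟨P, hP, htP⟩ : ∃ P : Ideal C, P.IsPrime ∧ (⟨t, htC⟩ : C) ∉ P := by
    by_contra hcon
    push Not at hcon
    obtain ⟨n, hn⟩ := isNilpotent_of_forall_prime hcon
    exact hab ⟨n, congrArg Subtype.val hn⟩
  have hfin : Finite (C ⧸ P) := Finite.of_surjective _ Ideal.Quotient.mk_surjective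
  have hchar : CharP (C ⧸ P) p := by
    refine (CharP.charP_iff_prime_eq_zero hp.out).mpr ?_
    rw [← map_natCast (Ideal.Quotient.mk P), show (p : C) = 0 from Subtype.ext (by simpa using h0),
      map_zero]
  refine ⟨C ⧸ P, (Finite.isField_of_domain (C ⧸ P)).toField, hfin, hchar,
    Ideal.Quotient.mk P ⟨t, htC⟩,
    fun h => htP (Ideal.Quotient.eq_zero_iff_mem.mp h), ?_, ?_⟩
  · rw [eq_top_iff]
    intro z _
    obtain ⟨⟨c, hc⟩, rfl⟩ := Ideal.Quotient.mk_surjective z
    induction hc using Subring.closure_induction with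
    | mem u hu =>
      rw [Set.mem_singleton_iff] at hu
      subst hu
      exact Subring.subset_closure rfl
    | zero => exact (map_zero (Ideal.Quotient.mk P)).symm ▸ zero_mem _
    | one => exact (map_one (Ideal.Quotient.mk P)).symm ▸ one_mem _
    | add u w hu hw ihu ihw =>
      exact (map_add (Ideal.Quotient.mk P) ⟨u, hu⟩ ⟨w, hw⟩).symm ▸ add_mem (ihu trivial) (ihw trivial)
    | neg u hu ihu => exact (map_neg (Ideal.Quotient.mk P) ⟨u, hu⟩).symm ▸ neg_mem (ihu trivial)
    | mul u w hu hw ihu ihw =>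
      exact (map_mul (Ideal.Quotient.mk P) ⟨u, hu⟩ ⟨w, hw⟩).symm ▸ mul_mem (ihu trivial) (ihw trivial)
  -- `a` absorbs `C` from the right
  have haC : ∀ c ∈ C, ∃ n : ℤ, a * c = n • a := by
    intro c hc
    induction hc using Subring.closure_induction with
    | mem u hu =>
      rw [Set.mem_singleton_iff] at hu
      exact ⟨0, by rw [hu, ht, ← mul_assoc, ha, zero_mul, zero_smul]⟩
    | zero => exact ⟨0, by rw [mul_zero, zero_smul]⟩
    | one => exact ⟨1, by rw [mul_one, one_smul]⟩
    | add u w _ _ hu hw =>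
      obtain ⟨m, hm⟩ := hu
      obtain ⟨n, hn⟩ := hw
      exact ⟨m + n, by rw [mul_add, hm, hn, add_smul]⟩
    | neg u _ hu =>
      obtain ⟨m, hm⟩ := hu
      exact ⟨-m, by rw [mul_neg, hm, neg_smul]⟩
    | mul u w _ _ hu hw =>
      obtain ⟨m, hm⟩ := hu
      obtain ⟨n, hn⟩ := hw
      exact ⟨m * n, by rw [← mul_assoc, hm, smul_mul_assoc, hn, smul_smul]⟩
  have haca : ∀ c : C, a * (c : R) * a = 0 := fun c => by
    obtain ⟨n, hn⟩ := haC c c.2
    rw [hn, smul_mul_assoc, ha, smul_zero]
  -- the two-dimensional lattice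
  let Φ : (Fin 2 → C) → R := fun v => b * (v 0 : R) * a + (v 1 : R) * a
  have hΦsub : ∀ v w, Φ (v - w) = Φ v - Φ w := fun v w => by
    simp only [Φ, Pi.sub_apply]
    push_cast
    noncomm_ring
  have hker : ∀ v, Φ v = 0 → ∀ i, v i ∈ P := by
    intro v hv
    have key : ∀ c : C, t * (c : R) * a = 0 → c ∈ P := by
      intro c hc
      have h1 : (⟨t, htC⟩ : C) * c * ⟨t, htC⟩ = 0 := Subtype.ext (by
        change t * (c : R) * t = 0
        rw [show t * (c : R) * t = t * (c : R) * a * b by rw [ht]; simp [mul_assoc], hc, zero_mul])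
      have h2 : (⟨t, htC⟩ : C) * c * ⟨t, htC⟩ ∈ P := h1 ▸ P.zero_mem
      rcases hP.mem_or_mem h2 with h3 | h3
      · exact (hP.mem_or_mem h3).resolve_left htP
      · exact absurd h3 htP
    have h0' : t * (v 0 : R) * a = 0 := by
      have := congrArg (a * ·) hv
      simp only [Φ, mul_add, mul_zero, ← mul_assoc, haca, add_zero] at this
      rw [ht]; exact this
    have h1' : t * (v 1 : R) * a = 0 := by
      have := congrArg (t * ·) hv
      simp only [Φ, mul_add, mul_zero, ← mul_assoc] at this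
      rw [show t * b = 0 by rw [ht, mul_assoc, hb, mul_zero], zero_mul, zero_mul, zero_add] at this
      exact this
    intro i
    fin_cases i
    · exact key _ h0'
    · exact key _ h1'
  let T : C := ⟨t, htC⟩
  have hX : ∀ v, ρ x * Φ v = Φ ((lowR T : SpecialLinearGroup (Fin 2) C).1.mulVec v) := by
    intro v
    rw [hx]
    simp only [Φ, coe_lowR, Matrix.mulVec, dotProduct, Fin.sum_univ_two]
    simp only [Matrix.of_apply, Matrix.cons_val', Matrix.cons_val_zero, Matrix.cons_val_one,
      Matrix.empty_val', Matrix.cons_val_fin_one, one_mul, zero_mul, add_zero]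
    push_cast
    have e : a * ((v 1 : R) * a) = 0 := by rw [← mul_assoc]; exact haca _
    simp only [add_mul, mul_add, one_mul, e, add_zero, T, ht]
    noncomm_ring
  have hY : ∀ v, ρ y * Φ v = Φ ((upR 1 : SpecialLinearGroup (Fin 2) C).1.mulVec v) := by
    intro v
    rw [hy]
    simp only [Φ, coe_upR, Matrix.mulVec, dotProduct, Fin.sum_univ_two]
    simp only [Matrix.of_apply, Matrix.cons_val', Matrix.cons_val_zero, Matrix.cons_val_one,
      Matrix.empty_val', Matrix.cons_val_fin_one, one_mul, zero_mul, zero_add]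
    push_cast
    have e : b * (b * (v 0 : R) * a) = 0 := by rw [← mul_assoc, ← mul_assoc, hb, zero_mul, zero_mul]
    simp only [add_mul, mul_add, one_mul, e, add_zero]
    noncomm_ring
  set q := Matrix.SpecialLinearGroup.map (n := Fin 2) (Ideal.Quotient.mk P) with hq
  set Γ := Subgroup.closure ({(x, lowR T), (y, upR 1)} : Set (K × SpecialLinearGroup (Fin 2) C))
    with hΓ
  have hrel : ∀ g ∈ Γ, ∀ v, ρ g.1 * Φ v = Φ (g.2.1.mulVec v) := by
    intro g hg
    induction hg using Subgroup.closure_induction with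
    | mem u hu =>
      rcases hu with rfl | hu
      · exact hX
      · rw [Set.mem_singleton_iff] at hu; subst hu; exact hY
    | one => intro v; simp
    | mul u w _ _ hu hw =>
      intro v
      rw [Prod.fst_mul, Prod.snd_mul, map_mul, mul_assoc, hw, hu, Matrix.mulVec_mulVec]
      rfl
    | inv u _ hu =>
      intro v
      have h := hu (u⁻¹.2.1.mulVec v)
      rw [Matrix.mulVec_mulVec, ← Matrix.SpecialLinearGroup.coe_mul, Prod.snd_inv, mul_inv_cancel,
        Matrix.SpecialLinearGroup.coe_one, Matrix.one_mulVec] at h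
      rw [← h, ← mul_assoc, ← map_mul, Prod.fst_inv, inv_mul_cancel, map_one, one_mul]
      rfl
  set Δ := Γ.map ((MonoidHom.id K).prodMap q) with hΔ
  have hbij : Function.Bijective ((MonoidHom.fst K _).comp Δ.subtype) := by
    refine ⟨(injective_iff_map_eq_one _).mpr ?_, fun k => ?_⟩
    · rintro ⟨_, g, hg, rfl⟩ h1
      have hg1 : g.1 = 1 := h1
      refine Subtype.ext (Prod.ext hg1 (Subtype.ext ?_))
      ext i j
      have h2 := hrel g hg (Pi.single j 1)
      rw [hg1, map_one, one_mul] at h2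
      have h3 := hker (g.2.1.mulVec (Pi.single j 1) - Pi.single j 1) (by rw [hΦsub, h2, sub_self]) i
      change Ideal.Quotient.mk P (g.2.1 i j) = _
      rw [Pi.sub_apply, Matrix.mulVec_single_one, ← Ideal.Quotient.eq] at h3
      rw [show g.2.1 i j = g.2.1.col j i from rfl, h3]
      rcases eq_or_ne i j with rfl | hij
      · simp
      · simp [hij]
    · have hk : k ∈ Subgroup.closure ({x, y} : Set K) := hgen ▸ Subgroup.mem_top k
      induction hk using Subgroup.closure_induction with
      | mem u hu =>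
        rcases hu with rfl | hu
        · exact ⟨⟨_, Subgroup.mem_map_of_mem _ (Subgroup.subset_closure (Or.inl rfl))⟩, rfl⟩
        · rw [Set.mem_singleton_iff] at hu; subst hu
          exact ⟨⟨_, Subgroup.mem_map_of_mem _ (Subgroup.subset_closure (Or.inr rfl))⟩, rfl⟩
      | one => exact ⟨1, rfl⟩
      | mul u w _ _ hu hw =>
        obtain ⟨u', rfl⟩ := hu
        obtain ⟨w', rfl⟩ := hw
        exact ⟨u' * w', map_mul _ u' w'⟩
      | inv u _ hu =>
        obtain ⟨u', rfl⟩ := hu
        exact ⟨u'⁻¹, map_inv _ u'⟩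
  let e : Δ ≃* K := MulEquiv.ofBijective _ hbij
  refine ⟨((MonoidHom.snd K _).comp Δ.subtype).comp e.symm.toMonoidHom, ?_, ?_, ?_⟩
  · have hm : (x, lowR T) ∈ Γ := Subgroup.subset_closure (Or.inl rfl)
    have he : e.symm x = ⟨_, Subgroup.mem_map_of_mem _ hm⟩ := e.symm_apply_eq.mpr rfl
    change ((e.symm x : Δ) : K × SpecialLinearGroup (Fin 2) (C ⧸ P)).2 = _
    rw [he]
    exact map_lowR _ _
  · have hm : (y, upR 1) ∈ Γ := Subgroup.subset_closure (Or.inr rfl)
    have he : e.symm y = ⟨_, Subgroup.mem_map_of_mem _ hm⟩ := e.symm_apply_eq.mpr rfl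
    change ((e.symm y : Δ) : K × SpecialLinearGroup (Fin 2) (C ⧸ P)).2 = _
    rw [he]
    exact (map_upR _ _).trans (by rw [map_one])
  · intro k l n hdet hunit
    set φ := ((MonoidHom.snd K _).comp Δ.subtype).comp e.symm.toMonoidHom with hφ
    have hlift : ∀ k : K, ∃ g ∈ Γ, g.1 = k ∧ q g.2 = φ k := by
      intro k
      obtain ⟨g, hg, hge⟩ := (e.symm k).2
      exact ⟨g, hg, (congrArg Prod.fst hge).trans (e.apply_symm_apply k), congrArg Prod.snd hge⟩
    obtain ⟨g, hg, hgk, hgφ⟩ := hlift k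
    obtain ⟨h, hh, hhl, hhφ⟩ := hlift l
    let N : Matrix (Fin 2) (Fin 2) C := (g.2.1 - 1) * (h.2.1 - 1) - (n : Matrix (Fin 2) (Fin 2) C)
    have hΦ0 : Φ 0 = 0 := by simpa using hΦsub 0 0
    have hΦadd : ∀ v w, Φ (v + w) = Φ v + Φ w := fun v w => by
      have := hΦsub (v + w) w
      rw [add_sub_cancel_right] at this
      exact (sub_eq_iff_eq_add.mp this.symm)
    have hnat : ∀ (m : ℕ) v, (m : R) * Φ v = Φ ((m : Matrix (Fin 2) (Fin 2) C) *ᵥ v) := by
      intro m v
      induction m with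
      | zero => simp [hΦ0]
      | succ m ih =>
        rw [Nat.cast_succ, Nat.cast_succ, add_mul, one_mul, ih, Matrix.add_mulVec, Matrix.one_mulVec,
          hΦadd]
    have hN : ∀ v, ((ρ k - 1) * (ρ l - 1) - n) * Φ v = Φ (N *ᵥ v) := by
      intro v
      have h1 : ∀ g ∈ Γ, ∀ v, (ρ g.1 - 1) * Φ v = Φ ((g.2.1 - 1) *ᵥ v) := fun g hg v => by
        rw [sub_mul, one_mul, Matrix.sub_mulVec, Matrix.one_mulVec, hΦsub, hrel g hg]
      rw [sub_mul, Matrix.sub_mulVec, hΦsub, ← hnat, mul_assoc, ← hhl, h1 h hh, ← hgk, h1 g hg,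
        Matrix.mulVec_mulVec]
    obtain ⟨u, hu⟩ := hunit
    have hpow : ∀ j : ℕ, ∀ v, ((u ^ j : Rˣ) : R) * Φ v = Φ (N ^ j *ᵥ v) := by
      intro j
      induction j with
      | zero => intro v; simp
      | succ j ih =>
        intro v
        rw [pow_succ, Units.val_mul, mul_assoc, hu, hN, ih, Matrix.mulVec_mulVec, ← pow_succ]
    obtain ⟨J, hJ, huJ⟩ := (isOfFinOrder_of_finite u).exists_pow_eq_one
    have hNJ : (N ^ J).map (Ideal.Quotient.mk P) = 1 := by
      ext i j
      have h2 := hpow J (Pi.single j 1)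
      rw [huJ, Units.val_one, one_mul] at h2
      have h3 := hker (N ^ J *ᵥ Pi.single j 1 - Pi.single j 1) (by rw [hΦsub, ← h2, sub_self]) i
      rw [Pi.sub_apply, Matrix.mulVec_single_one, ← Ideal.Quotient.eq] at h3
      rw [Matrix.map_apply, show (N ^ J) i j = (N ^ J).col j i from rfl, h3]
      rcases eq_or_ne i j with rfl | hij
      · simp
      · simp [hij]
    have hmap : (Ideal.Quotient.mk P).mapMatrix N =
        (((φ k : SpecialLinearGroup (Fin 2) (C ⧸ P)) : Matrix (Fin 2) (Fin 2) (C ⧸ P)) - 1) *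
          (((φ l : SpecialLinearGroup (Fin 2) (C ⧸ P)) : Matrix (Fin 2) (Fin 2) (C ⧸ P)) - 1) - n := by
      rw [← hgφ, ← hhφ, map_sub, map_mul, map_sub, map_sub, map_one, map_natCast]
      rfl
    rw [← hmap, ← RingHom.map_det] at hdet
    have h4 : ((Ideal.Quotient.mk P).mapMatrix N) ^ J = 1 := by
      rw [← map_pow]; exact hNJ
    have h5 := congrArg Matrix.det h4
    rw [Matrix.det_pow, ← RingHom.map_det, Matrix.det_one] at h5
    rw [hdet, zero_pow hJ.ne'] at h5
    have := hP.ne_top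
    exact this (Ideal.eq_top_iff_one P |>.mpr (Ideal.Quotient.eq_zero_iff_mem.mp
      ((map_one (Ideal.Quotient.mk P)).trans h5.symm)))

end Cfsg.Agent.QdFree
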