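import Cfsg.Agent.QdFree.QuadPair
import Cfsg.Agent.QdFree.SL2Three
import Cfsg.Agent.Invol.BaerSuzuki
import Cfsg.Agent.Core.PCore
import Cfsg.Prelude.Def_LocalEven

/-!
# A section isomorphic to SL₂(p) from quadratic action
-/

namespace Cfsg.Agent.QdFree

open Subgroup Matrix
open Cfsg.Agent.RootSub.Dickson

universe u v

theorem isPGroup_of_pair {R : Type u} [Ring R] {p : ℕ} [hp : Fact p.Prime] (h0 : (p : R) = 0)
    {K : Type v} [Group K] (ρ : K →* R) (hρ : Function.Injective ρ) {x y : K}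
    (hgen : closure ({x, y} : Set K) = ⊤) {a b : R} (hx : ρ x = 1 + a) (hy : ρ y = 1 + b)
    (ha : a * a = 0) (hb : b * b = 0) (hab : IsNilpotent (a * b)) : IsPGroup p K := by
  -- alternating words
  let w : ℕ → R × R := fun n => (fun q => (a * q.2, b * q.1))^[n] (1, 1)
  have hw : ∀ n, w (n + 1) = (a * (w n).2, b * (w n).1) := fun n =>
    Function.iterate_succ_apply' _ n _
  let U : ℕ → Set R := fun n => {r | ∃ s t, r = (w n).1 * s + (w n).2 * t}
  have hadd : ∀ n, ∀ r ∈ U n, ∀ r' ∈ U n, r + r' ∈ U n := by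
    rintro n _ ⟨s, t, rfl⟩ _ ⟨s', t', rfl⟩
    exact ⟨s + s', t + t', by rw [mul_add, mul_add]; abel⟩
  have hneg : ∀ n, ∀ r ∈ U n, -r ∈ U n := by
    rintro n _ ⟨s, t, rfl⟩
    exact ⟨-s, -t, by rw [neg_add, mul_neg, mul_neg]⟩
  have hwa : ∀ n, ∀ r ∈ U n, a * r ∈ U (n + 1) := by
    rintro n _ ⟨s, t, rfl⟩
    rcases n with _ | n
    · exact ⟨s + t, 0, by rw [hw]; simp [w, mul_add]⟩
    · refine ⟨t, 0, ?_⟩
      rw [hw (n + 1), mul_add, mul_zero, add_zero, show a * ((w (n + 1)).1 * s) = 0 by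
        rw [hw, ← mul_assoc, ← mul_assoc, ha, zero_mul, zero_mul], zero_add, ← mul_assoc]
  have hwb : ∀ n, ∀ r ∈ U n, b * r ∈ U (n + 1) := by
    rintro n _ ⟨s, t, rfl⟩
    rcases n with _ | n
    · exact ⟨0, s + t, by rw [hw]; simp [w, mul_add]⟩
    · refine ⟨0, s, ?_⟩
      rw [hw (n + 1), mul_add, mul_zero, zero_add, show b * ((w (n + 1)).2 * t) = 0 by
        rw [hw, ← mul_assoc, ← mul_assoc, hb, zero_mul, zero_mul], add_zero, ← mul_assoc]
  have hmono : ∀ n, ∀ r ∈ U (n + 1), r ∈ U n := by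
    intro n
    induction n with
    | zero => intro r _; exact ⟨r, 0, by simp [w]⟩
    | succ n ih =>
      rintro _ ⟨s, t, rfl⟩
      refine hadd _ _ ?_ _ ?_ <;> rw [hw (n + 1), mul_assoc]
      · exact hwa n _ (ih _ ⟨0, s, by simp⟩)
      · exact hwb n _ (ih _ ⟨t, 0, by simp⟩)
  have hw2 : ∀ i, (w (2 * i)).1 = (a * b) ^ i ∧ (w (2 * i)).2 = (b * a) ^ i := by
    intro i
    induction i with
    | zero => simp [w]
    | succ i ih =>
      rw [show 2 * (i + 1) = 2 * i + 1 + 1 by ring, hw, hw]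
      simp only [ih.1, ih.2, ← mul_assoc]
      simp only [mul_assoc]
      exact ⟨by rw [pow_succ', mul_assoc], by rw [pow_succ', mul_assoc]⟩
  have hba : ∀ i, (b * a) ^ (i + 1) = b * (a * b) ^ i * a := by
    intro i
    induction i with
    | zero => simp
    | succ i ih => rw [pow_succ, ih, pow_succ (a * b)]; simp [mul_assoc]
  -- every element moves each layer into the next
  have hk : ∀ k : K, ∀ n, ∀ r ∈ U n, ρ k * r - r ∈ U (n + 1) := by
    intro k
    have hkm : k ∈ closure ({x, y} : Set K) := hgen ▸ mem_top k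
    induction hkm using closure_induction with
    | mem z hz =>
      intro n r hr
      rcases hz with rfl | hz
      · rw [hx, add_mul, one_mul, add_sub_cancel_left]; exact hwa n r hr
      · rw [Set.mem_singleton_iff] at hz; subst hz
        rw [hy, add_mul, one_mul, add_sub_cancel_left]; exact hwb n r hr
    | one => intro n r _; exact ⟨0, 0, by simp⟩
    | mul z z' _ _ hz hz' =>
      intro n r hr
      have h1 := hz' n r hr
      have h2 := hadd _ _ h1 _ (hmono _ _ (hz _ _ h1))
      rw [map_mul, show ρ z * ρ z' * r - r = (ρ z' * r - r) + (ρ z * (ρ z' * r - r) - (ρ z' * r - r))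
        + (ρ z * r - r) by noncomm_ring]
      exact hadd _ _ h2 _ (hz n r hr)
    | inv z _ hz =>
      intro n r hr
      -- `ρ z⁻¹ - 1` is a power series in `ρ z - 1`
      have hinv : ρ z⁻¹ * ρ z = 1 := by rw [← map_mul, inv_mul_cancel, map_one]
      obtain ⟨N, hN⟩ := hab
      have hstep : ∀ j : ℕ, ∀ m, ∀ r' ∈ U m, 2 * N + 2 ≤ m + j → ρ z⁻¹ * r' - r' ∈ U (m + 1) := by
        intro j
        induction j with
        | zero =>
          intro m r' hr' hm
          have hz0 : ∀ m, 2 * N + 2 ≤ m → ∀ r' ∈ U m, r' = 0 := by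
            intro m hm
            induction m, hm using Nat.le_induction with
            | base =>
              rintro _ ⟨s, t, rfl⟩
              rw [show 2 * N + 2 = 2 * (N + 1) by ring, (hw2 _).1, (hw2 _).2, pow_succ, hN, zero_mul,
                zero_mul, hba, hN, mul_zero, zero_mul, zero_mul, add_zero]
            | succ m _ ih => exact fun r' hr' => ih r' (hmono m r' hr')
          rw [hz0 m hm r' hr', mul_zero, sub_zero]
          exact ⟨0, 0, by simp⟩
        | succ j ih =>
          intro m r' hr' hm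
          have h1 := hz m r' hr'
          have h2 := ih (m + 1) _ h1 (by omega)
          rw [show ρ z⁻¹ * r' - r' = -(ρ z * r' - r') + -(ρ z⁻¹ * (ρ z * r' - r') - (ρ z * r' - r')) by
            rw [mul_sub, ← mul_assoc, hinv]; noncomm_ring]
          exact hadd _ _ (hneg _ _ h1) _ (hneg _ _ (hmono _ _ h2))
      exact hstep (2 * N + 2) n r hr (by omega)
  intro k
  obtain ⟨N, hN⟩ := hab
  have hpow : ∀ j, (ρ k - 1) ^ j ∈ U j := by
    intro j
    induction j with
    | zero => exact ⟨1, 0, by simp [w]⟩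
    | succ j ih =>
      rw [pow_succ', sub_mul, one_mul]
      exact hk k j _ ih
  have hnil : (ρ k - 1) ^ (2 * (N + 1)) = 0 := by
    obtain ⟨s, t, hst⟩ := hpow (2 * (N + 1))
    rw [hst, (hw2 _).1, (hw2 _).2, pow_succ, hN, zero_mul, zero_mul, hba, hN, mul_zero, zero_mul,
      zero_mul, add_zero]
  refine ⟨2 * (N + 1), hρ ?_⟩
  rw [map_pow, map_one]
  have hn : (ρ k - 1) ^ p ^ (2 * (N + 1)) = 0 :=
    pow_eq_zero_of_le (Nat.lt_pow_self hp.out.one_lt).le hnil
  obtain ⟨r, hr⟩ := (Commute.one_right (ρ k - 1)).exists_add_pow_prime_pow_eq hp.out (2 * (N + 1))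
  rw [sub_add_cancel, hn, h0, one_pow, zero_add] at hr
  simpa using hr

/-- `SL₂(p)` embeds in SL₂ of a field of characteristic `p`. -/
theorem map_castHom_injective {F : Type u} [Field F] {p : ℕ} [Fact p.Prime] [CharP F p] :
    Function.Injective (SpecialLinearGroup.map (n := Fin 2) (ZMod.castHom (dvd_refl p) F)) := by
  intro g h hgh
  apply Subtype.ext
  ext i j
  have := congrArg (fun M : SpecialLinearGroup (Fin 2) F => M.1 i j) hgh
  exact (ZMod.castHom (dvd_refl p) F).injective this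

theorem closure_pair_eq_top {F : Type u} [Field F] [Finite F] {p : ℕ} [hp : Fact p.Prime]
    [CharP F p] (h5 : 5 ≤ p) {lam : F} (hlam : lam ≠ 0) (hgen : Subring.closure ({lam} : Set F) = ⊤) :
    closure ({lowR lam, upR 1} : Set (SpecialLinearGroup (Fin 2) F)) = ⊤ := by
  let : Algebra (ZMod p) F := ZMod.algebra F p
  have h2 : (2 : ZMod p) ≠ 0 := by
    intro h
    have h' : ((2 : ℕ) : ZMod p) = 0 := by exact_mod_cast h
    have := Nat.le_of_dvd two_pos ((ZMod.natCast_eq_zero_iff 2 p).mp h')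
    omega
  have h3 : Nat.card (ZMod p) ≠ 3 := by rw [Nat.card_zmod]; omega
  have hadj : Algebra.adjoin (ZMod p) ({lam} : Set F) = ⊤ := eq_top_iff.mpr fun z _ => by
    have hz : z ∈ Subring.closure ({lam} : Set F) := hgen ▸ Subring.mem_top z
    exact (Subring.closure_le (t := (Algebra.adjoin (ZMod p) ({lam} : Set F)).toSubring)).mpr
      Algebra.subset_adjoin hz
  have htop := dicksonGroup_eq_top (K := F) h2 h3 hlam hadj
  refine eq_top_iff.mpr (htop ▸ (Subgroup.closure_le _).mpr ?_)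
  rintro _ (⟨t, rfl⟩ | ⟨t, rfl⟩)
  · obtain ⟨n, rfl⟩ : ∃ n : ℕ, (n : ZMod p) = t := ⟨t.val, ZMod.natCast_zmod_val t⟩
    have : upR (algebraMap (ZMod p) F (n : ZMod p)) = upR (1 : F) ^ n := by
      induction n with
      | zero => simp [upR_zero]
      | succ n ih => rw [Nat.cast_succ, map_add, map_one, upR_add, ih, pow_succ]
    change upR _ ∈ Subgroup.closure _
    rw [this]
    exact pow_mem (Subgroup.subset_closure (by simp)) n
  · obtain ⟨n, rfl⟩ : ∃ n : ℕ, (n : ZMod p) = t := ⟨t.val, ZMod.natCast_zmod_val t⟩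
    have : lowR (algebraMap (ZMod p) F (n : ZMod p) * lam) = lowR lam ^ n := by
      induction n with
      | zero => simp [lowR_zero]
      | succ n ih => rw [Nat.cast_succ, map_add, map_one, add_mul, one_mul, lowR_add, ih, pow_succ]
    change lowR _ ∈ Subgroup.closure _
    rw [this]
    exact pow_mem (Subgroup.subset_closure (by simp)) n

theorem involves_of_hom {K : Type u} {M : Type v} {X : Type*} [Group K] [Group M] [Group X]
    {φ : K →* M} (σ : X →* M) (hσ : Function.Injective σ) (hle : σ.range ≤ φ.range) :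
    Cfsg.Involves X K := by
  let K₀ := σ.range.comap φ
  let ψ : K₀ →* σ.range := φ.subgroupComap σ.range
  have hψ : Function.Surjective ψ := fun z => by
    obtain ⟨k, hk⟩ := hle z.2
    exact ⟨⟨k, show φ k ∈ σ.range from hk ▸ z.2⟩, Subtype.ext hk⟩
  have hR : (ψ.ker.map K₀.subtype).subgroupOf K₀ = ψ.ker :=
    comap_map_eq_self_of_injective K₀.subtype_injective _
  have : ((ψ.ker.map K₀.subtype).subgroupOf K₀).Normal := by rw [hR]; infer_instance
  exact ⟨K₀, ψ.ker.map K₀.subtype, this, ⟨((QuotientGroup.quotientMulEquivOfEq hR).trans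
    (QuotientGroup.quotientKerEquivOfSurjective ψ hψ)).trans (MonoidHom.ofInjective hσ).symm⟩⟩

theorem involves_sl2_pair {K : Type u} [Group K] {F : Type v} [Field F] [Finite F] {p : ℕ}
    [hp : Fact p.Prime] [CharP F p] (h2 : p ≠ 2) {lam : F} (hlam : lam ≠ 0)
    (hgen : Subring.closure ({lam} : Set F) = ⊤) (φ : K →* SpecialLinearGroup (Fin 2) F) {x y : K}
    (hx : φ x = lowR lam) (hy : φ y = upR 1) :
    Cfsg.Involves (SpecialLinearGroup (Fin 2) (ZMod p)) K := by
  have hle : closure ({lowR lam, upR 1} : Set (SpecialLinearGroup (Fin 2) F)) ≤ φ.range := by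
    rw [closure_le]
    rintro _ (rfl | hz)
    · exact ⟨x, hx⟩
    · rw [Set.mem_singleton_iff] at hz; exact ⟨y, hy.trans hz.symm⟩
  by_cases h5 : 5 ≤ p
  · exact involves_of_hom _ map_castHom_injective
      (((closure_pair_eq_top h5 hlam hgen).symm ▸ le_top).trans hle)
  have h3 : p = 3 := by
    have h4 : p < 5 := by omega
    have := hp.out.two_le
    interval_cases p
    · exact absurd rfl h2
    · rfl
    · exact absurd hp.out (by norm_num)
  subst h3
  obtain ⟨σ, hσ, hσle⟩ := exists_sl2_three hlam hgen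
  exact involves_of_hom σ hσ (hσle.trans hle)

/-- A faithful quadratic element outside the `p`-core gives a section `SL₂(p)`. -/
theorem involves_sl2_of_quadratic {R : Type u} [Ring R] [Finite R] {p : ℕ} [hp : Fact p.Prime]
    (h2 : p ≠ 2) (h0 : (p : R) = 0) {H : Type v} [Group H] [Finite H] (ρ : H →* R)
    (hρ : Function.Injective ρ) (hO : Cfsg.pCore p H = ⊥) {x : H} (hx1 : x ≠ 1)
    (hq : (ρ x - 1) * (ρ x - 1) = 0) : Cfsg.Involves (SpecialLinearGroup (Fin 2) (ZMod p)) H := by
  set a := ρ x - 1 with ha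
  have hxa : ρ x = 1 + a := by rw [ha, add_sub_cancel]
  have hxp : x ^ p = 1 := hρ <| by
    have hn : ∀ n : ℕ, (1 + a) ^ n = 1 + n * a := by
      intro n
      induction n with
      | zero => simp
      | succ n ih => rw [pow_succ, ih, Nat.cast_succ]; linear_combination (norm := noncomm_ring) (n : R) * hq
    rw [map_pow, hxa, hn, h0, zero_mul, add_zero, map_one]
  have hX : IsPGroup p (zpowers x) := IsPGroup.of_card (n := 1)
    (by rw [Nat.card_zpowers, pow_one, orderOf_eq_prime hxp hx1])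
  obtain ⟨g, hg⟩ : ∃ g : H, ¬ IsPGroup p
      ↥(zpowers x ⊔ (zpowers x).map (MulAut.conj g).toMonoidHom) := by
    by_contra hcon
    push Not at hcon
    obtain ⟨N, hN, hNp, hxN⟩ := Invol.baerSuzuki (p := p) (zpowers x) hX hcon
    have := Core.le_pCore hNp
    rw [hO, le_bot_iff] at this
    rw [this, le_bot_iff, zpowers_eq_bot] at hxN
    exact hx1 hxN
  set K := zpowers x ⊔ (zpowers x).map (MulAut.conj g).toMonoidHom with hK
  set x' : K := ⟨x, mem_sup_left (mem_zpowers x)⟩
  set y' : K := ⟨g * x * g⁻¹, mem_sup_right ⟨x, mem_zpowers x, rfl⟩⟩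
  have hgenK : closure ({x', y'} : Set K) = ⊤ := by
    refine map_injective K.subtype_injective ?_
    rw [MonoidHom.map_closure, ← MonoidHom.range_eq_map, range_subtype, Set.image_pair]
    show Subgroup.closure ({x, g * x * g⁻¹} : Set H) = _
    conv_rhs => rw [hK, MonoidHom.map_zpowers, zpowers_eq_closure, zpowers_eq_closure,
      ← Subgroup.closure_union, Set.singleton_union]
    rfl
  set b := ρ g * a * ρ g⁻¹ with hb
  have hgg : ρ g * ρ g⁻¹ = 1 := by rw [← map_mul, mul_inv_cancel, map_one]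
  have hgg' : ρ g⁻¹ * ρ g = 1 := by rw [← map_mul, inv_mul_cancel, map_one]
  have hyb : ρ (g * x * g⁻¹) = 1 + b := by
    rw [map_mul, map_mul, hxa, hb, mul_add, mul_one, add_mul, hgg]
  have hbb : b * b = 0 := by
    rw [hb, show ρ g * a * ρ g⁻¹ * (ρ g * a * ρ g⁻¹) = ρ g * a * (ρ g⁻¹ * ρ g) * a * ρ g⁻¹ by
      simp [mul_assoc], hgg', mul_one, mul_assoc (ρ g) a a, hq, mul_zero, zero_mul]
  let ρK : K →* R := ρ.comp K.subtype
  have hρK : Function.Injective ρK := hρ.comp K.subtype_injective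
  have hab : ¬ IsNilpotent (a * b) := fun hn => hg
    (isPGroup_of_pair h0 ρK hρK hgenK hxa hyb hq hbb hn)
  obtain ⟨F, iF, hFfin, hFchar, lam, hlam, hgen, φ, hφx, hφy, -⟩ :=
    exists_hom_sl2 h0 ρK hgenK hxa hyb hq hbb hab
  obtain ⟨K', R', hn, ⟨e⟩⟩ := involves_sl2_pair h2 hlam hgen φ hφx hφy
  have hcm : (R'.map K.subtype).subgroupOf (K'.map K.subtype) =
      (R'.subgroupOf K').map (K'.equivMapOfInjective K.subtype K.subtype_injective).toMonoidHom := by
    ext ⟨z, hz⟩
    obtain ⟨w, hw, rfl⟩ := hz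
    rw [mem_subgroupOf, mem_map_iff_mem K.subtype_injective]
    constructor
    · exact fun h => ⟨⟨w, hw⟩, h, rfl⟩
    · rintro ⟨⟨w', hw'⟩, h, he⟩
      have : w' = w := Subtype.ext (congrArg (fun z : K'.map K.subtype => (z : H)) he)
      exact this ▸ h
  have hn' : ((R'.map K.subtype).subgroupOf (K'.map K.subtype)).Normal := by
    rw [hcm]; exact hn.map _ (MulEquiv.surjective _)
  exact ⟨K'.map K.subtype, R'.map K.subtype, hn',
    ⟨(QuotientGroup.congr _ _ (K'.equivMapOfInjective K.subtype K.subtype_injective) hcm.symm).symm.trans e⟩⟩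

end Cfsg.Agent.QdFree
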