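import Cfsg.Agent.QdFree.ZJControl
import Cfsg.Agent.Coprime.Generation
import Cfsg.Agent.Coprime.Hall
import Cfsg.Agent.Thompson.Replacement
import Mathlib.GroupTheory.Index

/-!
# Elementary abelian 2-groups acting on a group of odd order faithful on a module

`involves_s3_of_small` : if `A` acts faithfully on `K` of odd order, `K` faithfully on the elementary
abelian 2-group `V`, and `|V : C_V(A)| < |A| ^ 2`, a dihedral subgroup of order 6 occurs.
-/

set_option autoImplicit false

namespace Cfsg.Agent.QdFree.SquareBound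

open Subgroup

variable {G : Type*} [Group G] [Finite G]

omit [Finite G] in
theorem commute_of_conj {x y : G} (h : x * y * x⁻¹ = y) : Commute x y :=
  mul_inv_eq_iff_eq_mul.mp h

/-- Thompson's `P × Q` lemma for elementary abelian `B`. -/
theorem centralizes_of_fix {V B : Subgroup G} (hV : Cfsg.IsElementaryAbelian 2 V)
    (hB : Cfsg.IsElementaryAbelian 2 B) (hBV : B ≤ normalizer (V : Set G)) {q : G}
    (hqo : (orderOf q).Coprime 2) (hqB : q ∈ centralizer (B : Set G))
    (hqV : q ∈ normalizer (V : Set G))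
    (hfix : q ∈ centralizer ((V ⊓ centralizer (B : Set G) : Subgroup G) : Set G)) :
    q ∈ centralizer (V : Set G) := by
  have hVc : ∀ {x y : G}, x ∈ V → y ∈ V → Commute x y := fun hx hy =>
    congrArg Subtype.val (hV.1.is_comm.comm (⟨_, hx⟩ : V) ⟨_, hy⟩)
  suffices key : ∀ B₀ : Subgroup G, B₀ ≤ B → ∀ v ∈ V ⊓ centralizer (B₀ : Set G), Commute q v from
    mem_centralizer_iff.mpr fun v hv => (key ⊥ bot_le v ⟨hv, mem_centralizer_iff.mpr fun z hz => by
      rw [mem_bot.mp hz, one_mul, mul_one]⟩).eq.symm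
  intro B₀
  induction B₀ using WellFoundedGT.induction with
  | _ B₀ ih =>
  intro hB₀ v hv
  set c := q * v * q⁻¹ * v⁻¹ with hc
  have hcV : c ∈ V := mul_mem ((mem_normalizer_iff.mp hqV v).mp hv.1) (inv_mem hv.1)
  refine ZJControl.commute_of_stable
    ((Thompson.ea_isPGroup hV).to_le (inf_le_left : V ⊓ centralizer (B : Set G) ≤ V)) hqo hfix
    ⟨hcV, mem_centralizer_iff.mpr fun b hb => ?_⟩
  -- `b` fixes `v` modulo the fixed points of `q`
  set f := b * v * b⁻¹ * v⁻¹ with hf
  have hbv : b * v * b⁻¹ ∈ V := (mem_normalizer_iff.mp (hBV hb) v).mp hv.1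
  have hfV : f ∈ V := mul_mem hbv (inv_mem hv.1)
  have hqf : Commute q f := by
    by_cases hbB : b ∈ B₀
    · have : f = 1 := by
        rw [hf, mem_centralizer_iff.mp hv.2 b hbB, mul_inv_cancel_right, mul_inv_cancel]
      rw [this]; exact Commute.one_right q
    have hlt : B₀ < B₀ ⊔ zpowers b :=
      lt_of_le_of_ne le_sup_left fun h => hbB (h ▸ mem_sup_right (mem_zpowers b))
    refine ih _ hlt (sup_le hB₀ (zpowers_le.mpr hb)) f ⟨hfV, ?_⟩
    refine le_centralizer_iff.mp (sup_le ?_ (zpowers_le.mpr ?_) : B₀ ⊔ zpowers b ≤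
      centralizer (zpowers f : Set G)) (mem_zpowers f)
    · intro z hz
      refine mem_centralizer_iff.mpr fun y hy => ?_
      obtain ⟨i, rfl⟩ := mem_zpowers_iff.mp hy
      have h1 : Commute z v := mem_centralizer_iff.mp hv.2 z hz
      have h2 : Commute z b := congrArg Subtype.val (hB.1.is_comm.comm (⟨z, hB₀ hz⟩ : B) ⟨b, hb⟩)
      exact ((((h2.mul_right h1).mul_right h2.inv_right).mul_right h1.inv_right).zpow_right i).eq.symm
    · refine mem_centralizer_iff.mpr fun y hy => ?_
      obtain ⟨i, rfl⟩ := mem_zpowers_iff.mp hy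
      refine (Commute.zpow_right (?_ : Commute b f) i).eq.symm
      have hb2 : b * b = 1 := by rw [← pow_two]; exact hB.2 b hb
      refine commute_of_conj ?_
      have e : b * f * b⁻¹ = f⁻¹ := by
        rw [hf]
        calc b * (b * v * b⁻¹ * v⁻¹) * b⁻¹ = (b * b) * v * (b⁻¹ * v⁻¹ * b⁻¹) := by group
          _ = (b * v * b⁻¹ * v⁻¹)⁻¹ := by
            rw [hb2, one_mul, show (b * v * b⁻¹ * v⁻¹)⁻¹ = v * b * v⁻¹ * b⁻¹ by group]
            simp only [inv_eq_of_mul_eq_one_left hb2, mul_assoc]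
      rw [e, inv_eq_of_mul_eq_one_left (show f * f = 1 by rw [← pow_two]; exact hV.2 f hfV)]
  have h1 : Commute b q := mem_centralizer_iff.mp hqB b hb
  refine (commute_of_conj (?_ : b * c * b⁻¹ = c)).eq
  calc b * c * b⁻¹ = (b * q) * v * q⁻¹ * v⁻¹ * b⁻¹ := by rw [hc]; group
    _ = q * (b * v * b⁻¹) * q⁻¹ * (b * v * b⁻¹)⁻¹ := by
        rw [show q * (b * v * b⁻¹) * q⁻¹ * (b * v * b⁻¹)⁻¹ =
          (q * b) * v * (q * b)⁻¹ * b * v⁻¹ * b⁻¹ by group, ← h1.eq]
        group
    _ = q * (f * v) * q⁻¹ * (f * v)⁻¹ := by rw [hf]; group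
    _ = (q * f * q⁻¹) * ((q * v * q⁻¹ * v⁻¹) * f⁻¹) := by group
    _ = f * (f⁻¹ * c) := by
        rw [hqf.eq, mul_inv_cancel_right, ← hc, (hVc hcV (inv_mem hfV)).eq]
    _ = c := mul_inv_cancel_left f c

/-- An element of prime order at least 5 fixes a set of at most four points. -/
theorem perm_eq_one {α : Type*} [Finite α] (hα : Nat.card α ≤ 4) {σ : Equiv.Perm α} {r : ℕ}
    (hr : r.Prime) (hr5 : 5 ≤ r) (hσ : σ ^ r = 1) : σ = 1 := by
  rcases (Nat.dvd_prime hr).mp (orderOf_dvd_of_pow_eq_one hσ) with h | h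
  · exact orderOf_eq_one_iff.mp h
  · exfalso
    have h1 : r ∣ Nat.factorial (Nat.card α) := by
      rw [← Nat.card_perm, ← h]; exact _root_.orderOf_dvd_natCard σ
    have := (hr.dvd_factorial).mp h1
    omega

/-- The bound `|V : C_V(A)| ≥ |A| ^ 2` without dihedral subgroups of order 6. -/
theorem card_sq_mul_le {V K : Subgroup G} (hV : Cfsg.IsElementaryAbelian 2 V)
    (hK : (Nat.card K).Coprime 2) (hKV : K ≤ normalizer (V : Set G))
    (hKf : K ⊓ centralizer (V : Set G) = ⊥) :
    ∀ A : Subgroup G, Cfsg.IsElementaryAbelian 2 A → A ≤ normalizer (V : Set G) →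
      A ≤ normalizer (K : Set G) → A ⊓ centralizer (K : Set G) = ⊥ →
      (∀ a ∈ A, ∀ q ∈ K, orderOf q = 3 → a * q * a⁻¹ ≠ q⁻¹) →
      Nat.card A ^ 2 * Nat.card (V ⊓ centralizer (A : Set G) : Subgroup G) ≤ Nat.card V := by
  intro A
  induction A using WellFoundedLT.induction with
  | _ A ih =>
  intro hA hAV hAK hAf h3
  rcases eq_or_ne A ⊥ with rfl | hA0
  · rw [Subgroup.card_bot, one_pow, one_mul]
    exact Nat.le_of_dvd Nat.card_pos (card_dvd_of_le inf_le_left)
  have hAc : IsMulCommutative A := hA.1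
  have hcop : (Nat.card A).Coprime (Nat.card K) := by
    have : Fact (Nat.Prime 2) := ⟨Nat.prime_two⟩
    obtain ⟨n, hn⟩ := IsPGroup.iff_card.mp (Thompson.ea_isPGroup hA)
    rw [hn]; exact hK.symm.pow_left n
  -- a hyperplane whose fixed points in `K` are moved
  obtain ⟨B, hBc, x, hx, hxA⟩ : ∃ B ∈ Coprime.Cocyclic A, ∃ x ∈ K ⊓ centralizer (B : Set G),
      x ∉ centralizer (A : Set G) := by
    by_contra hno
    push Not at hno
    have hle : K ≤ centralizer (A : Set G) := by
      rw [← Coprime.iSup_cocyclic_centralizer_eq hAK hcop]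
      exact iSup₂_le fun B hB x hx => hno B hB x hx
    exact hA0 (hAf ▸ (inf_eq_left.mpr (le_centralizer_iff.mp hle)).symm)
  obtain ⟨hBA, a, ha, hBa⟩ := hBc
  have ha2 : a * a = 1 := by rw [← pow_two]; exact hA.2 a ha
  have haB : a ∉ B := fun h => by
    have e : B = A := by rw [← hBa, sup_eq_left.mpr (zpowers_le.mpr h)]
    exact hxA (e ▸ hx.2)
  have hlt : B < A := lt_of_le_of_ne hBA fun e => haB (e ▸ ha)
  have hax : ¬ Commute a x := by
    intro h
    refine hxA (hBa ▸ ?_)
    have : B ⊔ zpowers a ≤ centralizer (zpowers x : Set G) := by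
      refine sup_le (le_centralizer_iff.mp (zpowers_le.mpr hx.2)) (zpowers_le.mpr ?_)
      refine mem_centralizer_iff.mpr fun y hy => ?_
      obtain ⟨i, rfl⟩ := mem_zpowers_iff.mp hy
      exact (h.zpow_right i).eq.symm
    exact le_centralizer_iff.mp this (mem_zpowers x)
  -- an inverted element of prime order
  set q₀ := x⁻¹ * (a * x * a⁻¹) with hq₀
  have haC : a ∈ centralizer (B : Set G) := mem_centralizer_iff.mpr fun b hb =>
    congrArg Subtype.val (hA.1.is_comm.comm (⟨b, hBA hb⟩ : A) ⟨a, ha⟩)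
  have hq₀K : q₀ ∈ K := mul_mem (inv_mem hx.1) ((mem_normalizer_iff.mp (hAK ha) x).mp hx.1)
  have hq₀B : q₀ ∈ centralizer (B : Set G) :=
    mul_mem (inv_mem hx.2) (mul_mem (mul_mem haC hx.2) (inv_mem haC))
  have hinv₀ : a * q₀ * a⁻¹ = q₀⁻¹ := by
    rw [hq₀]
    calc a * (x⁻¹ * (a * x * a⁻¹)) * a⁻¹ = a * x⁻¹ * a * x * (a * a)⁻¹ := by group
      _ = a * x⁻¹ * a⁻¹ * x := by rw [ha2, inv_one, mul_one, inv_eq_of_mul_eq_one_left ha2]
      _ = (x⁻¹ * (a * x * a⁻¹))⁻¹ := by group
  have hq₀1 : q₀ ≠ 1 := fun h => hax (commute_of_conj (inv_mul_eq_one.mp (hq₀ ▸ h)).symm)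
  have hn1 : orderOf q₀ ≠ 1 := fun h => hq₀1 (orderOf_eq_one_iff.mp h)
  set r := (orderOf q₀).minFac with hr
  have hrp : r.Prime := Nat.minFac_prime hn1
  have hrd : r ∣ orderOf q₀ := Nat.minFac_dvd _
  set q := q₀ ^ (orderOf q₀ / r) with hq
  have hqK : q ∈ K := pow_mem hq₀K _
  have hqo : orderOf q = r := by
    rw [hq, orderOf_pow_of_dvd (Nat.div_pos (Nat.le_of_dvd (orderOf_pos _) hrd) hrp.pos).ne'
      (Nat.div_dvd_of_dvd hrd), Nat.div_div_self hrd (orderOf_pos _).ne']
  have hqB : q ∈ centralizer (B : Set G) := pow_mem hq₀B _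
  have hinv : a * q * a⁻¹ = q⁻¹ := by rw [hq, ← conj_pow, hinv₀, inv_pow]
  have hqcop : (orderOf q).Coprime 2 := hK.coprime_dvd_left (orderOf_dvd_natCard K hqK)
  have hr5 : 5 ≤ r := by
    have h2 : r ≠ 2 := fun e => by rw [hqo, e] at hqcop; norm_num at hqcop
    have h3' : r ≠ 3 := fun e => h3 a ha q hqK (hqo.trans e) hinv
    rcases Nat.lt_or_ge r 5 with h | h
    · exfalso
      have := hrp.two_le
      interval_cases r <;> first | exact h2 rfl | exact h3' rfl | exact absurd hrp (by norm_num)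
    · exact h
  -- the induction
  have hBea := Thompson.ea_mono hA hBA
  have hIH := ih B hlt hBea (hBA.trans hAV) (hBA.trans hAK)
    (eq_bot_iff.mpr fun y hy => hAf.le ⟨hBA hy.1, hy.2⟩) fun b hb => h3 b (hBA hb)
  set W := V ⊓ centralizer (B : Set G) with hW
  set C := V ⊓ centralizer (A : Set G) with hC
  have hCW : C ≤ W := inf_le_inf_left V (centralizer_le hBA)
  have hidx : 4 * Nat.card C ≤ Nat.card W := by
    by_contra hlt4
    push Not at hlt4
    have h2 : C.relIndex W ≤ 2 := by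
      have e := Coprime.card_mul_relIndex_of_le hCW
      have h4 : C.relIndex W < 4 := by
        rw [← e, mul_comm 4] at hlt4
        exact Nat.lt_of_mul_lt_mul_left hlt4
      have h2W : IsPGroup 2 W := (Thompson.ea_isPGroup hV).to_le inf_le_left
      have : Fact (Nat.Prime 2) := ⟨Nat.prime_two⟩
      obtain ⟨k, hk⟩ := h2W.index (C.subgroupOf W)
      change C.relIndex W = 2 ^ k at hk
      rw [hk] at h4 ⊢
      match k, h4 with
      | 0, _ => norm_num
      | 1, _ => norm_num
      | k + 2, h4 =>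
        have : 2 ^ 2 ≤ 2 ^ (k + 2) := Nat.pow_le_pow_right two_pos (by omega)
        omega
    -- `q` acts on the commutators `[W, q]`
    have hWq : ∀ w ∈ W, q * w * q⁻¹ ∈ W := fun w hw =>
      ⟨(mem_normalizer_iff.mp (hKV hqK) w).mp hw.1,
        (mul_mem (mul_mem hqB hw.2) (inv_mem hqB) : q * w * q⁻¹ ∈ centralizer (B : Set G))⟩
    have hVc : ∀ {x y : G}, x ∈ V → y ∈ V → Commute x y := fun hx hy =>
      congrArg Subtype.val (hV.1.is_comm.comm (⟨_, hx⟩ : V) ⟨_, hy⟩)
    let θ : W →* G := MonoidHom.mk' (fun w => q * w * q⁻¹ * (w : G)⁻¹) fun w v => by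
      have e := (hVc (mul_mem (hWq v v.2).1 (inv_mem v.2.1)) (inv_mem w.2.1)).eq
      calc q * ((w : G) * v) * q⁻¹ * ((w : G) * v)⁻¹
          = q * w * q⁻¹ * ((q * v * q⁻¹ * (v : G)⁻¹) * (w : G)⁻¹) := by group
        _ = q * w * q⁻¹ * ((w : G)⁻¹ * (q * v * q⁻¹ * (v : G)⁻¹)) := by rw [e]
        _ = _ := by group
    set F := W ⊓ centralizer ({q} : Set G)
    have hker : θ.ker = F.subgroupOf W := by
      ext w
      rw [MonoidHom.mem_ker, mem_subgroupOf]
      show q * w * q⁻¹ * (w : G)⁻¹ = 1 ↔ _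
      rw [mul_inv_eq_one, mul_inv_eq_iff_eq_mul, mem_inf, mem_centralizer_singleton_iff]
      exact ⟨fun h => ⟨w.2, h.symm⟩, fun h => h.2.symm⟩
    have hR : Nat.card θ.range ≤ 4 := by
      rw [← index_ker, hker]
      show F.relIndex W ≤ 4
      have hFle : C ⊓ C.map (MulAut.conj q).toMonoidHom ≤ F := by
        rintro w ⟨hw, c, hc, rfl⟩
        refine ⟨hCW hw, mem_centralizer_singleton_iff.mpr ?_⟩
        set w := (MulAut.conj q).toMonoidHom c with hwdef
        have h1 : Commute a w := mem_centralizer_iff.mp hw.2 a ha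
        have h2 : Commute (q * a * q⁻¹) w := by
          have h0 : Commute a c := mem_centralizer_iff.mp hc.2 a ha
          have := h0.map (MulAut.conj q).toMonoidHom
          simpa [hwdef] using this
        have e : q * a * q⁻¹ * a⁻¹ = q * q := by
          calc q * a * q⁻¹ * a⁻¹ = q * (a * q * a⁻¹)⁻¹ := by group
            _ = q * q := by rw [hinv, inv_inv]
        have h3' : Commute (q * q) w := e ▸ h2.mul_left h1.inv_left
        obtain ⟨m, hm⟩ : Odd (orderOf q) := Nat.coprime_two_right.mp hqcop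
        have h4 := h3'.pow_left (m + 1)
        rw [← pow_two, ← pow_mul, show 2 * (m + 1) = orderOf q + 1 by omega, pow_succ, pow_orderOf_eq_one,
          one_mul] at h4
        exact h4.eq.symm
      refine le_trans (Nat.le_of_dvd (Nat.pos_of_ne_zero index_ne_zero_of_finite)
        (relIndex_dvd_of_le_left W hFle)) (le_trans relIndex_inf_le ?_)
      have hWmap : W.map (MulAut.conj q).toMonoidHom = W := eq_of_le_of_card_ge
        (by rintro _ ⟨w, hw, rfl⟩; exact hWq w hw) (card_map_of_injective (MulAut.conj q).injective).ge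
      have h5 : (C.map (MulAut.conj q).toMonoidHom).relIndex W = C.relIndex W := by
        conv_lhs => rw [← hWmap]
        exact relIndex_map_map_of_injective _ _ (MulAut.conj q).injective
      calc C.relIndex W * (C.map (MulAut.conj q).toMonoidHom).relIndex W
          ≤ 2 * 2 := by rw [h5]; exact Nat.mul_le_mul h2 h2
        _ = 4 := rfl
    -- `q` fixes the commutators
    have hRinv : ∀ y ∈ θ.range, q * y * q⁻¹ ∈ θ.range := by
      rintro _ ⟨w, rfl⟩
      refine ⟨⟨q * w * q⁻¹, hWq w w.2⟩, ?_⟩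
      show q * (q * w * q⁻¹) * q⁻¹ * (q * w * q⁻¹)⁻¹ = q * (q * w * q⁻¹ * (w : G)⁻¹) * q⁻¹
      group
    let f : θ.range → θ.range := fun y => ⟨q * y * q⁻¹, hRinv y y.2⟩
    have hf : Function.Injective f := fun y z h => Subtype.ext
      (by simpa [f] using congrArg Subtype.val h)
    let σ : Equiv.Perm θ.range := Equiv.ofBijective f ⟨hf, Finite.surjective_of_injective hf⟩
    have hσpow : ∀ (n : ℕ) (y : θ.range), (((σ ^ n) y : θ.range) : G) = q ^ n * y * (q ^ n)⁻¹ := by
      intro n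
      induction n with
      | zero => intro y; simp
      | succ n ihn =>
        intro y
        rw [pow_succ', Equiv.Perm.mul_apply]
        show q * (((σ ^ n) y : θ.range) : G) * q⁻¹ = _
        rw [ihn, pow_succ']; group
    have hσ1 : σ = 1 := perm_eq_one hR hrp hr5 (Equiv.ext fun y => Subtype.ext (by
      rw [hσpow, ← hqo, pow_orderOf_eq_one]; simp))
    have hfix : q ∈ centralizer ((W : Subgroup G) : Set G) := by
      refine mem_centralizer_iff.mpr fun w hw => ?_
      refine (ZJControl.commute_of_stable (Q := F)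
        ((Thompson.ea_isPGroup hV).to_le (inf_le_left.trans inf_le_left)) hqcop ?_ ?_).eq.symm
      · exact mem_centralizer_iff.mpr fun y hy => mem_centralizer_singleton_iff.mp hy.2
      · have h6 : q * (θ ⟨w, hw⟩) * q⁻¹ = θ ⟨w, hw⟩ :=
          congrArg (fun s : Equiv.Perm θ.range => ((s ⟨θ ⟨w, hw⟩, ⟨_, rfl⟩⟩ : θ.range) : G)) hσ1
        refine ⟨(mul_mem (hWq w hw) (inv_mem hw) : q * w * q⁻¹ * w⁻¹ ∈ W), mem_centralizer_singleton_iff.mpr ?_⟩
        exact (commute_of_conj h6).eq.symm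
    have := centralizes_of_fix hV hBea (hBA.trans hAV) hqcop hqB (hKV hqK) hfix
    have hq1 : q = 1 := mem_bot.mp (hKf ▸ (⟨hqK, this⟩ : q ∈ K ⊓ centralizer (V : Set G)))
    rw [hq1, orderOf_one] at hqo
    exact hrp.ne_one hqo.symm
  -- orders
  have hcardA : Nat.card A = Nat.card B * 2 := by
    have e := Thompson.card_sup_mul_card_inf_of_comm (X := B) (Y := zpowers a)
      (hBA.trans ((le_centralizer_iff_isMulCommutative.mpr hA.1).trans (centralizer_le (zpowers_le.mpr ha))))
    have hoa : orderOf a = 2 := orderOf_eq_prime (by rw [pow_two]; exact ha2) fun h => haB (h ▸ one_mem B)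
    have hd : B ⊓ zpowers a = ⊥ := by
      refine eq_bot_iff.mpr fun y hy => ?_
      obtain ⟨i, rfl⟩ := mem_zpowers_iff.mp hy.2
      rcases Int.emod_two_eq_zero_or_one i with h | h <;> rw [← zpow_mod_orderOf, hoa] at hy ⊢ <;>
        simp only [Nat.cast_ofNat, h, zpow_zero, zpow_one] at hy ⊢
      · exact one_mem _
      · exact absurd hy.1 haB
    rw [hBa, hd, Subgroup.card_bot, mul_one, Nat.card_zpowers, hoa] at e
    exact e
  calc Nat.card A ^ 2 * Nat.card C = Nat.card B ^ 2 * (4 * Nat.card C) := by rw [hcardA]; ring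
    _ ≤ Nat.card B ^ 2 * Nat.card W := Nat.mul_le_mul_left _ hidx
    _ ≤ Nat.card V := hIH

/-- A dihedral group of order 6 maps onto the symmetric group of degree 3. -/
theorem involves_s3_of_inverted {a q : G} (ha : a * a = 1) (ha1 : a ≠ 1) (hq : orderOf q = 3)
    (hinv : a * q * a⁻¹ = q⁻¹) :
    ∃ (H : Subgroup G) (f : H →* Equiv.Perm (Fin 3)), Function.Surjective f := by
  have hoa : orderOf a = 2 := orderOf_eq_prime (by rw [pow_two]; exact ha) ha1
  have haN : zpowers a ≤ normalizer (zpowers q : Set G) := by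
    refine zpowers_le.mpr (mem_normalizer_iff_map_conj_eq.mpr ?_)
    rw [MonoidHom.map_zpowers]
    show zpowers (a * q * a⁻¹) = _
    rw [hinv, zpowers_inv]
  set H := zpowers a ⊔ zpowers q
  have hd : zpowers a ⊓ zpowers q = ⊥ := by
    refine Cfsg.Agent.Coprime.inf_eq_bot_of_coprime ?_
    rw [Nat.card_zpowers, Nat.card_zpowers, hoa, hq]; norm_num
  have hcard : Nat.card H = 6 := by
    have e := Cfsg.Agent.S0606.card_sup_mul_card_inf_of_le_normalizer haN
    rw [hd, Subgroup.card_bot, mul_one, Nat.card_zpowers, Nat.card_zpowers, hoa, hq] at e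
    exact e
  set A := (zpowers a).subgroupOf H
  have hAc : Nat.card A = 2 := by
    rw [Nat.card_congr (subgroupOfEquivOfLe le_sup_left).toEquiv, Nat.card_zpowers, hoa]
  have hidx : Nat.card (H ⧸ A) = 3 := by
    have := card_eq_card_quotient_mul_card_subgroup A
    rw [hcard, hAc] at this
    omega
  let e : (H ⧸ A) ≃ Fin 3 := Finite.equivFinOfCardEq hidx
  let ψ : H →* Equiv.Perm (Fin 3) :=
    e.permCongrHom.toMonoidHom.comp (MulAction.toPermHom H (H ⧸ A))
  have hinj : Function.Injective ψ := by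
    rw [injective_iff_map_eq_one]
    intro x hx
    have h1 : x ∈ A.normalCore := by
      rw [normalCore_eq_ker, MonoidHom.mem_ker]
      exact e.permCongrHom.map_eq_one_iff.mp hx
    have h2 : (x : G) ∈ zpowers a := A.normalCore_le h1
    obtain ⟨i, hi⟩ := mem_zpowers_iff.mp h2
    rw [← zpow_mod_orderOf, hoa] at hi
    rcases Int.emod_two_eq_zero_or_one i with h | h <;> simp only [Nat.cast_ofNat, h] at hi
    · exact Subtype.ext (by simpa using hi.symm)
    · exfalso
      have h3 : q * (x : G) * q⁻¹ ∈ zpowers a :=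
        A.normalCore_le (A.normalCore_normal.conj_mem x h1 ⟨q, mem_sup_right (mem_zpowers q)⟩)
      rw [← hi, zpow_one] at h3
      have h4 : q * q ∈ zpowers a := by
        have := mul_mem h3 (inv_mem (mem_zpowers a))
        rwa [show q * a * q⁻¹ * a⁻¹ = q * (a * q * a⁻¹)⁻¹ by group, hinv, inv_inv] at this
      have h5 : q * q = 1 := mem_bot.mp (hd ▸ (⟨h4, mul_mem (mem_zpowers q) (mem_zpowers q)⟩ :
        q * q ∈ zpowers a ⊓ zpowers q))
      have := orderOf_dvd_of_pow_eq_one (x := q) (n := 2) (by rw [pow_two]; exact h5)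
      rw [hq] at this
      norm_num at this
  refine ⟨H, ψ, ((Nat.bijective_iff_injective_and_card ψ).mpr ⟨hinj, ?_⟩).2⟩
  rw [hcard, Nat.card_perm, Nat.card_fin]
  rfl

end Cfsg.Agent.QdFree.SquareBound
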