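import Cfsg.Agent.QdFree.Involve
import Cfsg.Agent.QdFree.ZJControl
import Cfsg.Agent.Thompson.Replacement
import Cfsg.Agent.Coprime.Hall
import Mathlib.Tactic.Group

/-!
# Quadratic `2`-groups on an elementary abelian normal subgroup

`TwoMod C N` : `N` is a `2`-group modulo `C`. `Quad V` : every `2`-subgroup acts quadratically on
`V`. `Best V A` : `A` maximizes `|B| |C_V(B)|` among `A ∩ C(V) ≤ B ≤ A`.
-/

set_option autoImplicit false

namespace Cfsg.Agent.QdFree.Offend

open Subgroup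
open scoped commutatorElement

variable {G : Type*} [Group G]

/-- `N` is a `2`-group modulo `C`. -/
def TwoMod (C N : Subgroup G) : Prop := ∀ x ∈ N, ∃ k : ℕ, x ^ 2 ^ k ∈ C

/-- Every `2`-subgroup acts quadratically on `V`. -/
def Quad (V : Subgroup G) : Prop :=
  ∀ P : Subgroup G, IsPGroup 2 P → ∀ v ∈ V, ∀ s ∈ P, ∀ t ∈ P, Commute ⁅v, s⁆ t

/-- `A` is a best offender on `V`. -/
def Best (V A : Subgroup G) : Prop :=
  ∀ B ≤ A, A ⊓ centralizer (V : Set G) ≤ B →
    Nat.card B * Nat.card (V ⊓ centralizer (B : Set G) : Subgroup G) ≤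
      Nat.card A * Nat.card (V ⊓ centralizer (A : Set G) : Subgroup G)

theorem le_centralizer_self {V : Subgroup G} (hV : Cfsg.IsElementaryAbelian 2 V) :
    V ≤ centralizer (V : Set G) :=
  (Thompson.ea_iff.1 hV).1

theorem conj_eq {v s : G} : s * v * s⁻¹ = ⁅v, s⁆⁻¹ * v := by
  simp only [commutatorElement_def]; group

theorem inf_centralizer_normal {V N : Subgroup G} [hV : V.Normal] [N.Normal] :
    (V ⊓ centralizer (N : Set G)).Normal :=
  ⟨fun x hx g => ⟨hV.conj_mem x hx.1 g, (ZJControl.centralizer_normal N).conj_mem x hx.2 g⟩⟩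

theorem isPGroup_map_iff {C N : Subgroup G} [C.Normal] :
    IsPGroup 2 (N.map (QuotientGroup.mk' C)) ↔ TwoMod C N := by
  constructor
  · intro h x hx
    obtain ⟨k, hk⟩ := h ⟨_, mem_map_of_mem _ hx⟩
    exact ⟨k, (QuotientGroup.eq_one_iff _).1 (congrArg Subtype.val hk)⟩
  · rintro h ⟨_, x, hx, rfl⟩
    obtain ⟨k, hk⟩ := h x hx
    exact ⟨k, Subtype.ext ((QuotientGroup.eq_one_iff _).2 hk)⟩

theorem twoMod_comap {C : Subgroup G} [C.Normal] {X : Subgroup (G ⧸ C)} (h : IsPGroup 2 X) :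
    TwoMod C (X.comap (QuotientGroup.mk' C)) :=
  isPGroup_map_iff.1 (h.to_le (map_comap_le _ _))

theorem TwoMod.trans {C C' N : Subgroup G} {j : ℕ} (h : TwoMod C' N)
    (hC : ∀ x ∈ C', x ^ 2 ^ j ∈ C) : TwoMod C N := fun x hx => by
  obtain ⟨k, hk⟩ := h x hx
  exact ⟨k + j, by rw [pow_add, pow_mul]; exact hC _ hk⟩

theorem twoMod_of_ea {A : Subgroup G} (C : Subgroup G) (hA : Cfsg.IsElementaryAbelian 2 A) :
    TwoMod C A := fun x hx => ⟨1, by rw [pow_one, hA.2 x hx]; exact one_mem C⟩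

variable [Finite G]

/-- A `2`-group modulo `C` is covered by a `2`-group. -/
theorem exists_two_cover {C N : Subgroup G} [C.Normal] (hN : TwoMod C N) :
    ∃ P : Subgroup G, IsPGroup 2 P ∧ P ≤ N ∧ ∀ x ∈ N, ∃ p ∈ P, ∃ c ∈ C, x = p * c := by
  have : Fact (Nat.Prime 2) := ⟨Nat.prime_two⟩
  set q := QuotientGroup.mk' C
  have hf : Function.Surjective (q.subgroupMap N) := q.subgroupMap_surjective N
  obtain ⟨P⟩ : Nonempty (Sylow 2 N) := inferInstance
  have htop : (⊤ : Subgroup (N.map q)) = (P : Subgroup N).map (q.subgroupMap N) :=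
    (P.mapSurjective hf).is_maximal'
      ((isPGroup_map_iff.2 hN).of_equiv Subgroup.topEquiv.symm) le_top
  refine ⟨(P : Subgroup N).map N.subtype, P.isPGroup'.map _, map_subtype_le _, fun x hx => ?_⟩
  obtain ⟨p, hp, hpx⟩ := htop.le (mem_top (⟨q x, mem_map_of_mem q hx⟩ : N.map q))
  refine ⟨p, mem_map_of_mem _ hp, (p : G)⁻¹ * x, ?_, by rw [mul_inv_cancel_left]⟩
  exact QuotientGroup.eq.1 (congrArg Subtype.val hpx)

variable {V : Subgroup G} [V.Normal]

/-- Quadratic action of the `2`-groups modulo the centralizer. -/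
theorem Quad.commute (hQ : Quad V) {N : Subgroup G}
    (hN : TwoMod (centralizer (V : Set G)) N) {v : G} (hv : v ∈ V) {s t : G} (hs : s ∈ N)
    (ht : t ∈ N) : Commute ⁅v, s⁆ t := by
  have := ZJControl.centralizer_normal V
  obtain ⟨P, hP, -, hcov⟩ := exists_two_cover hN
  obtain ⟨p₁, hp₁, c₁, hc₁, rfl⟩ := hcov s hs
  obtain ⟨p₂, hp₂, c₂, hc₂, rfl⟩ := hcov t ht
  have e : ⁅v, p₁ * c₁⁆ = ⁅v, p₁⁆ := by
    have h := mem_centralizer_iff.1 hc₁ v⁻¹ (inv_mem hv)
    calc ⁅v, p₁ * c₁⁆ = v * p₁ * (c₁ * v⁻¹) * c₁⁻¹ * p₁⁻¹ := by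
          simp only [commutatorElement_def]; group
      _ = v * p₁ * (v⁻¹ * c₁) * c₁⁻¹ * p₁⁻¹ := by rw [h]
      _ = ⁅v, p₁⁆ := by simp only [commutatorElement_def]; group
  rw [e]
  refine (hQ P hP v hv p₁ hp₁ p₂ hp₂).mul_right (mem_centralizer_iff.1 hc₂ _ ?_)
  rw [commutatorElement_def, show v * p₁ * v⁻¹ * p₁⁻¹ = v * (p₁ * v⁻¹ * p₁⁻¹) by group]
  exact mul_mem hv ((inferInstance : V.Normal).conj_mem _ (inv_mem hv) p₁)

omit [Finite G] in
theorem commutator_mem_self {v : G} (hv : v ∈ V) (s : G) : ⁅v, s⁆ ∈ V := by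
  rw [commutatorElement_def, show v * s * v⁻¹ * s⁻¹ = v * (s * v⁻¹ * s⁻¹) by group]
  exact mul_mem hv ((inferInstance : V.Normal).conj_mem _ (inv_mem hv) s)

/-- The `2`-groups are abelian modulo the centralizer. -/
theorem Quad.commutator_mem (hV : Cfsg.IsElementaryAbelian 2 V) (hQ : Quad V) {N : Subgroup G}
    (hN : TwoMod (centralizer (V : Set G)) N) {s t : G} (hs : s ∈ N) (ht : t ∈ N) :
    ⁅s, t⁆ ∈ centralizer (V : Set G) := by
  have key : ∀ v ∈ V, ∀ {a b : G}, a ∈ N → b ∈ N →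
      (a * b) * v * (a * b)⁻¹ = ⁅v, b⁆⁻¹ * ⁅v, a⁆⁻¹ * v := by
    intro v hv a b ha hb
    calc (a * b) * v * (a * b)⁻¹ = a * (b * v * b⁻¹) * a⁻¹ := by group
      _ = (a * ⁅v, b⁆⁻¹ * a⁻¹) * (a * v * a⁻¹) := by rw [conj_eq (v := v) (s := b)]; group
      _ = ⁅v, b⁆⁻¹ * ⁅v, a⁆⁻¹ * v := by
        rw [← (hQ.commute hN hv hb ha).inv_left.eq, mul_inv_cancel_right, conj_eq, mul_assoc]
  refine mem_centralizer_iff.2 fun v hv => ?_
  set v' := (t * s)⁻¹ * v * (t * s) with hv'def
  have hv' : v' ∈ V := by simpa [hv'def] using (inferInstance : V.Normal).conj_mem v hv (t * s)⁻¹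
  have h1 : (s * t) * v' * (s * t)⁻¹ = v := by
    rw [key v' hv' hs ht,
      (show Commute ⁅v', t⁆⁻¹ ⁅v', s⁆⁻¹ from (mem_centralizer_iff.1 (le_centralizer_self hV
        (inv_mem (commutator_mem_self hv' s))) _ (inv_mem (commutator_mem_self hv' t)))).eq,
      ← key v' hv' ht hs, hv'def]
    group
  have e : ⁅s, t⁆ * v * ⁅s, t⁆⁻¹ = (s * t) * v' * (s * t)⁻¹ := by
    rw [hv'def]; simp only [commutatorElement_def]; group
  exact (mul_inv_eq_iff_eq_mul.1 (e.trans h1)).symm

/-- The `2`-groups have exponent 2 modulo the centralizer. -/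
theorem Quad.sq_mem (hV : Cfsg.IsElementaryAbelian 2 V) (hQ : Quad V) {N : Subgroup G}
    (hN : TwoMod (centralizer (V : Set G)) N) {s : G} (hs : s ∈ N) :
    s * s ∈ centralizer (V : Set G) := by
  refine mem_centralizer_iff.2 fun v hv => ?_
  have h1 : s * s * v * (s * s)⁻¹ = v := by
    calc s * s * v * (s * s)⁻¹ = s * (s * v * s⁻¹) * s⁻¹ := by
          simp only [mul_inv_rev, mul_assoc]
      _ = (s * ⁅v, s⁆⁻¹ * s⁻¹) * (s * v * s⁻¹) := by rw [conj_eq (v := v)]; group
      _ = ⁅v, s⁆⁻¹ * ⁅v, s⁆⁻¹ * v := by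
        rw [← (hQ.commute hN hv hs hs).inv_left.eq, mul_inv_cancel_right, conj_eq, mul_assoc]
      _ = v := by rw [← pow_two, hV.2 _ (inv_mem (commutator_mem_self hv s)), one_mul]
  exact (mul_inv_eq_iff_eq_mul.1 h1).symm

omit [Finite G] [V.Normal] in
/-- An element stabilizing `V > W > 1` squares into the centralizer of `V`. -/
theorem sq_mem_of_stable (hV : Cfsg.IsElementaryAbelian 2 V) {W : Subgroup G} (hWV : W ≤ V)
    {x : G} (hxW : x ∈ centralizer (W : Set G)) (h : ∀ v ∈ V, v⁻¹ * (x * v * x⁻¹) ∈ W) :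
    x * x ∈ centralizer (V : Set G) := by
  refine mem_centralizer_iff.2 fun v hv => ?_
  set c := v⁻¹ * (x * v * x⁻¹) with hcdef
  have hc := h v hv
  have hxc : x * c * x⁻¹ = c := by
    rw [← mem_centralizer_iff.1 hxW c hc, mul_inv_cancel_right]
  have h1 : x * x * v * (x * x)⁻¹ = v := by
    calc x * x * v * (x * x)⁻¹ = x * (v * c) * x⁻¹ := by rw [hcdef]; group
      _ = (x * v * x⁻¹) * (x * c * x⁻¹) := by group
      _ = v * (c * c) := by rw [hxc, ← mul_assoc v, hcdef]; group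
      _ = v := by rw [← pow_two, hV.2 _ (hWV hc), mul_one]
  exact (mul_inv_eq_iff_eq_mul.1 h1).symm

omit [V.Normal] in
/-- A best offender is one on a submodule. -/
theorem Best.restrict (hV : Cfsg.IsElementaryAbelian 2 V) {W A : Subgroup G} (hWV : W ≤ V)
    (h : Best V A) : Best W A := by
  intro B hBA hB
  set C := V ⊓ centralizer (A : Set G)
  set X := W ⊓ centralizer (B : Set G)
  have h1 := h B hBA ((inf_le_inf_left A (centralizer_le hWV)).trans hB)
  have hc : X ≤ centralizer (C : Set G) :=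
    (inf_le_left.trans hWV).trans ((le_centralizer_self hV).trans (centralizer_le inf_le_left))
  have h2 := Thompson.card_sup_mul_card_inf_of_comm hc
  have h3 : Nat.card (X ⊔ C : Subgroup G) ≤ Nat.card (V ⊓ centralizer (B : Set G) : Subgroup G) :=
    Nat.le_of_dvd Nat.card_pos (card_dvd_of_le (sup_le (inf_le_inf_right _ hWV)
      (inf_le_inf_left V (centralizer_le hBA))))
  have h4 : Nat.card (X ⊓ C : Subgroup G) ≤ Nat.card (W ⊓ centralizer (A : Set G) : Subgroup G) :=
    Nat.le_of_dvd Nat.card_pos (card_dvd_of_le (le_inf (inf_le_left.trans inf_le_left)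
      (inf_le_right.trans inf_le_right)))
  refine Nat.le_of_mul_le_mul_right (c := Nat.card C) ?_ Nat.card_pos
  calc Nat.card B * Nat.card X * Nat.card C
      = Nat.card B * (Nat.card (X ⊔ C : Subgroup G) * Nat.card (X ⊓ C : Subgroup G)) := by
        rw [h2, mul_assoc]
    _ ≤ Nat.card B * (Nat.card (V ⊓ centralizer (B : Set G) : Subgroup G) *
          Nat.card (W ⊓ centralizer (A : Set G) : Subgroup G)) :=
        Nat.mul_le_mul_left _ (Nat.mul_le_mul h3 h4)
    _ ≤ Nat.card A * Nat.card C * Nat.card (W ⊓ centralizer (A : Set G) : Subgroup G) := by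
        rw [← mul_assoc]; exact Nat.mul_le_mul_right _ h1
    _ = _ := by ring

omit [Finite G] [V.Normal] in
theorem map_inf_centralizer (e : G ≃* G) (X : Subgroup G) :
    (V ⊓ centralizer (X : Set G)).map e.toMonoidHom =
      V.map e.toMonoidHom ⊓ centralizer (X.map e.toMonoidHom : Set G) := by
  ext y
  simp only [mem_map, mem_inf, MulEquiv.coe_toMonoidHom, mem_centralizer_iff, coe_map,
    Set.forall_mem_image, SetLike.mem_coe]
  constructor
  · rintro ⟨x, ⟨hx, hc⟩, rfl⟩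
    exact ⟨⟨x, hx, rfl⟩, fun z hz => by rw [← map_mul, ← map_mul, hc z hz]⟩
  · rintro ⟨⟨x, hx, rfl⟩, hc⟩
    exact ⟨x, ⟨hx, fun z hz => e.injective (by rw [map_mul, map_mul]; exact hc hz)⟩, rfl⟩

omit [Finite G] in
/-- Conjugates of best offenders are best offenders. -/
theorem Best.conj {A : Subgroup G} (h : Best V A) (g : G) :
    Best V (A.map (MulAut.conj g).toMonoidHom) := by
  set e := MulAut.conj g
  have hV' : V.map e.toMonoidHom = V := Subgroup.Normal.map_conj_eq V g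
  have hcard : ∀ X : Subgroup G, Nat.card (V ⊓ centralizer (X.map e.toMonoidHom : Set G) : Subgroup G) =
      Nat.card (V ⊓ centralizer (X : Set G) : Subgroup G) := fun X => by
    have := card_map_of_injective (K := V ⊓ centralizer (X : Set G)) (f := e.toMonoidHom) e.injective
    rwa [map_inf_centralizer, hV'] at this
  intro B hBA hB
  set B₀ := B.comap e.toMonoidHom
  have hB₀ : B₀.map e.toMonoidHom = B := map_comap_eq_self_of_surjective e.surjective B
  have h1 : B₀ ≤ A := fun x hx => by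
    obtain ⟨a, ha, hae⟩ := hBA hx
    exact e.injective hae ▸ ha
  have h2 : A ⊓ centralizer (V : Set G) ≤ B₀ := by
    intro a ha
    refine hB ⟨mem_map_of_mem _ ha.1, ?_⟩
    have := ZJControl.centralizer_normal V
    simpa [e] using (inferInstance : (centralizer (V : Set G)).Normal).conj_mem a ha.2 g
  have h3 := h B₀ h1 h2
  rw [← hB₀, card_map_of_injective e.injective, card_map_of_injective e.injective, hcard, hcard]
  exact h3

end Cfsg.Agent.QdFree.Offend
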