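import Cfsg.Agent.QdFree.ZJControl
import Cfsg.Agent.QdFree.Control

/-!
# `N(zInter e D)` controls strong fusion in Qd(p)-free groups
-/

set_option autoImplicit false

namespace Cfsg.Agent.QdFree.ZJControl

open Subgroup

universe u

variable {p : ℕ} [hp : Fact p.Prime]

theorem inherits_qd_free (h2 : p ≠ 2) :
    Inherits.{u} p fun X _ => ¬ Cfsg.Involves (Cfsg.qd p) X where
  sub := fun {X} _ _ h M hM => h (involves_of_subgroup hM)
  stable := fun {X} _ _ h =>
    Fusion.pStableNormal_quotient_of_isNormalizerPStable (isNormalizerPStable_of_qd_free h2 h)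
  cquot := fun {X Y} _ _ _ _ hf _ _ h hY => h (involves_of_surjective hY hf)

theorem controls_qd_free (h2 : p ≠ 2) {e : ℕ} (he : e = 0 ∨ Odd e) (hpe : p ∣ e)
    {G : Type u} [Group G] [Finite G] (hfree : ¬ Cfsg.Involves (Cfsg.qd p) G) (S : Sylow p G)
    {D : Subgroup G} (hD : Cfsg.IsStronglyClosed D (S : Subgroup G)) (A : Set G)
    (hA : A ⊆ (S : Subgroup G)) :
    Cfsg.ControlsStrongFusionOf (normalizer (Fusion.zInter e D : Set G)) (S : Subgroup G) A :=
  ⟨hA, fun g hg => controls (inherits_qd_free h2) h2 he hpe hfree S D hD A hA g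
    fun a ha => hg ⟨a, ha, rfl⟩⟩

end Cfsg.Agent.QdFree.ZJControl
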